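import Mathlib.Algebra.Homology.DerivedCategory.Ext.ExactSequences
import Mathlib.Algebra.Homology.DerivedCategory.Ext.EnoughInjectives

universe w v u

open CategoryTheory Limits CategoryTheory.Abelian

namespace Groth.Agent.Coh69

variable {A : Type u} [Category.{v} A] [Abelian A] [HasExt.{w} A] {S : ShortComplex A}
  (hS : S.ShortExact) (Z : A)

include hS in
lemma ext_subsingleton_X₁_succ (n : ℕ) [Subsingleton (Ext.{w} Z S.X₂ (n + 1))]
    [Subsingleton (Ext.{w} Z S.X₃ n)] : Subsingleton (Ext.{w} Z S.X₁ (n + 1)) :=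
  subsingleton_of_forall_eq 0 fun ξ => by
    obtain ⟨s, rfl⟩ := Ext.covariant_sequence_exact₁ Z hS ξ (Subsingleton.elim _ _) rfl
    rw [Subsingleton.elim s 0, Ext.zero_comp]

include hS in
lemma ext_subsingleton_X₂ (n : ℕ) [Subsingleton (Ext.{w} Z S.X₁ n)]
    [Subsingleton (Ext.{w} Z S.X₃ n)] : Subsingleton (Ext.{w} Z S.X₂ n) :=
  subsingleton_of_forall_eq 0 fun x => by
    obtain ⟨x₁, rfl⟩ := Ext.covariant_sequence_exact₂ Z hS x (Subsingleton.elim _ _)
    rw [Subsingleton.elim x₁ 0, Ext.zero_comp]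

include hS in
lemma ext_subsingleton_X₃ (n : ℕ) [Subsingleton (Ext.{w} Z S.X₂ n)]
    [Subsingleton (Ext.{w} Z S.X₁ (n + 1))] : Subsingleton (Ext.{w} Z S.X₃ n) :=
  subsingleton_of_forall_eq 0 fun x => by
    obtain ⟨x₂, rfl⟩ := Ext.covariant_sequence_exact₃ Z hS x (n₁ := n + 1) rfl (Subsingleton.elim _ _)
    rw [Subsingleton.elim x₂ 0, Ext.zero_comp]

/-- Dimension shift along a short exact sequence with acyclic middle term. -/
noncomputable def extShiftEquiv (n : ℕ) [Subsingleton (Ext.{w} Z S.X₂ (n + 1))]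
    [Subsingleton (Ext.{w} Z S.X₂ (n + 2))] :
    Ext.{w} Z S.X₃ (n + 1) ≃+ Ext.{w} Z S.X₁ (n + 2) :=
  AddEquiv.ofBijective (hS.extClass.postcomp Z rfl)
    ⟨fun a b h => by
      rw [← sub_eq_zero, ← map_sub] at h
      obtain ⟨x₂, hx⟩ := Ext.covariant_sequence_exact₃ Z hS (a - b) rfl h
      rw [← sub_eq_zero, ← hx, Subsingleton.elim x₂ 0, Ext.zero_comp],
    fun ξ => Ext.covariant_sequence_exact₁ Z hS ξ (Subsingleton.elim _ _) rfl⟩

/-- The connecting map in degree zero. -/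
noncomputable def extDelta : (Z ⟶ S.X₃) →+ Ext.{w} Z S.X₁ 1 where
  toFun s := (Ext.mk₀ s).comp hS.extClass (zero_add 1)
  map_zero' := by simp
  map_add' s t := by simp [Ext.mk₀_add]

lemma extDelta_eq_zero_iff (s : Z ⟶ S.X₃) :
    extDelta.{w} hS Z s = 0 ↔ ∃ t, t ≫ S.g = s := by
  constructor
  · intro h
    obtain ⟨x, hx⟩ := Ext.covariant_sequence_exact₃ Z hS (Ext.mk₀ s) (zero_add 1) h
    obtain ⟨t, rfl⟩ := (Ext.mk₀_bijective Z S.X₂).2 x
    exact ⟨t, (Ext.mk₀_bijective Z S.X₃).1 (by rw [← hx, Ext.mk₀_comp_mk₀])⟩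
  · rintro ⟨t, rfl⟩
    change (Ext.mk₀ (t ≫ S.g)).comp hS.extClass (zero_add 1) = 0
    rw [← Ext.mk₀_comp_mk₀, Ext.comp_assoc _ _ _ (add_zero 0) (zero_add 1) (by omega),
      hS.comp_extClass, Ext.comp_zero]

lemma extDelta_surjective [Subsingleton (Ext.{w} Z S.X₂ 1)] :
    Function.Surjective (extDelta.{w} hS Z) := fun ξ => by
  obtain ⟨x, hx⟩ := Ext.covariant_sequence_exact₁ Z hS ξ (Subsingleton.elim _ _) (zero_add 1)
  obtain ⟨t, rfl⟩ := (Ext.mk₀_bijective Z S.X₃).2 x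
  exact ⟨t, hx⟩

include hS in
lemma exists_comp_g_of_subsingleton [Subsingleton (Ext.{w} Z S.X₁ 1)] (s : Z ⟶ S.X₃) :
    ∃ t, t ≫ S.g = s :=
  (extDelta_eq_zero_iff hS Z s).1 (Subsingleton.elim _ _)

include hS in
lemma ext_subsingleton_one_of_exists_comp_g [Subsingleton (Ext.{w} Z S.X₂ 1)]
    (h : ∀ s : Z ⟶ S.X₃, ∃ t, t ≫ S.g = s) : Subsingleton (Ext.{w} Z S.X₁ 1) :=
  subsingleton_of_forall_eq 0 fun ξ => by
    obtain ⟨s, rfl⟩ := extDelta_surjective hS Z ξ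
    exact (extDelta_eq_zero_iff hS Z s).2 (h s)

/-- First Ext as a cokernel. -/
noncomputable def extOneEquiv [Subsingleton (Ext.{w} Z S.X₂ 1)] {B : Type*} [AddCommGroup B]
    (d : (Z ⟶ S.X₃) →+ B) (hd : Function.Surjective d)
    (hker : ∀ s, d s = 0 ↔ ∃ t, t ≫ S.g = s) : Ext.{w} Z S.X₁ 1 ≃+ B :=
  ((QuotientAddGroup.quotientKerEquivOfSurjective _ (extDelta_surjective hS Z)).symm.trans
    (QuotientAddGroup.quotientAddEquivOfEq (by
      ext s
      rw [AddMonoidHom.mem_ker, AddMonoidHom.mem_ker, extDelta_eq_zero_iff, hker]))).trans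
    (QuotientAddGroup.quotientKerEquivOfSurjective d hd)

/-- Change of the source along an isomorphism. -/
noncomputable def extIsoEquiv {Z Z' : A} (e : Z ≅ Z') (F : A) (n : ℕ) :
    Ext.{w} Z' F n ≃+ Ext.{w} Z F n where
  toFun x := (Ext.mk₀ e.hom).comp x (zero_add n)
  invFun x := (Ext.mk₀ e.inv).comp x (zero_add n)
  left_inv x := by simp
  right_inv x := by simp
  map_add' x y := by simp

lemma extIsoEquiv_map {Z Z' : A} (e : Z ≅ Z') {F G : A} (φ : F ⟶ G) (n : ℕ) (x : Ext.{w} Z' F n) :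
    extIsoEquiv e G n (x.comp (Ext.mk₀ φ) (add_zero n)) =
      (extIsoEquiv e F n x).comp (Ext.mk₀ φ) (add_zero n) := by
  simp [extIsoEquiv]

end Groth.Agent.Coh69
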