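import Groth.Agent.SiteCoh.Free
import Groth.Agent.Coh69.ExtShift
import Mathlib.GroupTheory.FreeAbelianGroup

universe u

open CategoryTheory Limits Opposite CategoryTheory.Abelian

namespace Groth.Agent.Coh69

open Groth.Agent.SiteCoh (homAddEquivSec)

variable {C : Type u} [SmallCategory C] {J : GrothendieckTopology C}
  {S : ShortComplex (Sheaf J AddCommGrpCat.{u})}

/-- Cached instance: it keeps terms small and kernel checking fast. -/
instance (priority := 10000) hasSheafifyAb {C : Type u} [SmallCategory C] (J : GrothendieckTopology C) :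
    HasSheafify J AddCommGrpCat.{u} := inferInstance

/-- Cached instance. -/
instance (priority := 10000) hasExtSheaf {C : Type u} [SmallCategory C] {J : GrothendieckTopology C} :
    HasExt.{u} (Sheaf J AddCommGrpCat.{u}) := inferInstance

/-- `H^n(U, F)`, as an `Ext` group. -/
noncomputable abbrev HE (F : Sheaf J AddCommGrpCat.{u}) (n : ℕ) (U : C) : Type u :=
  Ext.{u} (CohCx.freeSheaf J U) F n

lemma sect_injective (hS : S.ShortExact) (U : C) : Function.Injective (S.f.hom.app (op U)) :=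
  fun a b h => by
    have := hS.mono_f
    apply (homAddEquivSec U S.X₁).symm.injective
    rw [← cancel_mono S.f, SiteCoh.homAddEquivSec_symm_comp, SiteCoh.homAddEquivSec_symm_comp, h]

lemma sect_f_g (S : ShortComplex (Sheaf J AddCommGrpCat.{u})) (U : C) (s : S.X₁.obj.obj (op U)) :
    S.g.hom.app (op U) (S.f.hom.app (op U) s) = 0 := by
  have : (S.f ≫ S.g).hom.app (op U) s = 0 := by rw [S.zero]; rfl
  exact this

lemma sect_exact (hS : S.ShortExact) (U : C) (s : S.X₂.obj.obj (op U))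
    (h : S.g.hom.app (op U) s = 0) : ∃ t, S.f.hom.app (op U) t = s := by
  have := hS.mono_f
  have h0 : (homAddEquivSec U S.X₂).symm s ≫ S.g = 0 := by
    rw [SiteCoh.homAddEquivSec_symm_comp, h, map_zero]
  refine ⟨homAddEquivSec U S.X₁ (hS.exact.lift _ h0), ?_⟩
  rw [← SiteCoh.homAddEquivSec_comp, hS.exact.lift_f, AddEquiv.apply_symm_apply]

lemma exists_sect_iff (g : S.X₂ ⟶ S.X₃) (U : C) (s : S.X₃.obj.obj (op U)) :
    (∃ t, t ≫ g = (homAddEquivSec U S.X₃).symm s) ↔ ∃ t, g.hom.app (op U) t = s := by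
  constructor
  · rintro ⟨t, ht⟩
    exact ⟨homAddEquivSec U S.X₂ t, by
      rw [← SiteCoh.homAddEquivSec_comp, ht, AddEquiv.apply_symm_apply]⟩
  · rintro ⟨t, ht⟩
    exact ⟨(homAddEquivSec U S.X₂).symm t, by rw [SiteCoh.homAddEquivSec_symm_comp, ht]⟩

lemma surjective_of_subsingleton_H1 (hS : S.ShortExact) (U : C) [Subsingleton (HE S.X₁ 1 U)]
    (s : S.X₃.obj.obj (op U)) : ∃ t, S.g.hom.app (op U) t = s :=
  (exists_sect_iff S.g U s).1 (exists_comp_g_of_subsingleton hS (CohCx.freeSheaf J U) _)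

lemma subsingleton_H1_of_surjective (hS : S.ShortExact) (U : C) [Subsingleton (HE S.X₂ 1 U)]
    (h : ∀ s : S.X₃.obj.obj (op U), ∃ t, S.g.hom.app (op U) t = s) :
    Subsingleton (HE S.X₁ 1 U) :=
  ext_subsingleton_one_of_exists_comp_g hS (CohCx.freeSheaf J U) fun s => by
    obtain ⟨s, rfl⟩ := (homAddEquivSec U S.X₃).symm.surjective s
    exact (exists_sect_iff S.g U s).2 (h s)

/-- First cohomology as the cokernel of the map on sections. -/
noncomputable def coker0Equiv (hS : S.ShortExact) (U : C) [Subsingleton (HE S.X₂ 1 U)]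
    {B : Type u} [AddCommGroup B] (d : S.X₃.obj.obj (op U) →+ B) (hd : Function.Surjective d)
    (hker : ∀ s, d s = 0 ↔ ∃ t, S.g.hom.app (op U) t = s) : HE S.X₁ 1 U ≃+ B :=
  extOneEquiv hS (CohCx.freeSheaf J U) (d.comp (homAddEquivSec U S.X₃).toAddMonoidHom)
    (hd.comp (homAddEquivSec U S.X₃).surjective)
    (fun s => by
      obtain ⟨s, rfl⟩ := (homAddEquivSec U S.X₃).symm.surjective s
      rw [exists_sect_iff, ← hker]
      simp)

instance injective_middle (F : Sheaf J AddCommGrpCat.{u}) : Injective (SiteCoh.injSES F).X₂ :=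
  inferInstanceAs (Injective (Injective.under F))

instance he_subsingleton_of_injective (F : Sheaf J AddCommGrpCat.{u}) [Injective F] (n : ℕ)
    (U : C) : Subsingleton (HE F (n + 1) U) :=
  Ext.subsingleton_of_injective (CohCx.freeSheaf J U) F n

variable (J) in
/-- The free abelian sheaf on a terminal object is the constant sheaf. -/
noncomputable def freeTerminalIso {T : C} (hT : IsTerminal T) :
    CohCx.freeSheaf J T ≅
      (constantSheaf J AddCommGrpCat.{u}).obj (AddCommGrpCat.of (ULift.{u} ℤ)) :=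
  (presheafToSheaf _ _).mapIso (NatIso.ofComponents
    (fun V =>
      haveI : Unique (V.unop ⟶ T) := ⟨⟨hT.from _⟩, fun f => hT.hom_ext f _⟩
      ((FreeAbelianGroup.uniqueEquiv (V.unop ⟶ T)).trans AddEquiv.ulift.symm).toAddCommGrpIso)
    (fun {V W} h => by
      have : Unique (W.unop ⟶ T) := ⟨⟨hT.from _⟩, fun f => hT.hom_ext f _⟩
      have : Unique (V.unop ⟶ T) := ⟨⟨hT.from _⟩, fun f => hT.hom_ext f _⟩
      apply AddCommGrpCat.hom_ext
      apply FreeAbelianGroup.lift_ext
      intro x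
      apply ULift.ext
      change FreeAbelianGroup.lift (fun _ : (W.unop ⟶ T) => (1 : ℤ))
          (FreeAbelianGroup.map (fun f : (V.unop ⟶ T) => h.unop ≫ f) (FreeAbelianGroup.of x)) =
        FreeAbelianGroup.lift (fun _ : (V.unop ⟶ T) => (1 : ℤ)) (FreeAbelianGroup.of x)
      rw [FreeAbelianGroup.map_of_apply, FreeAbelianGroup.lift_apply_of,
        FreeAbelianGroup.lift_apply_of]))

/-- Sheaf cohomology as cohomology over a terminal object. -/
noncomputable def hTerminalEquiv {T : C} (hT : IsTerminal T) (F : Sheaf J AddCommGrpCat.{u})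
    (n : ℕ) : Sheaf.H F n ≃+ HE F n T :=
  extIsoEquiv (freeTerminalIso J hT) F n

lemma hTerminalEquiv_map {T : C} (hT : IsTerminal T) {F G : Sheaf J AddCommGrpCat.{u}} (φ : F ⟶ G)
    (n : ℕ) (x : Sheaf.H F n) :
    hTerminalEquiv hT G n (Sheaf.H.map φ n x) =
      (hTerminalEquiv hT F n x).comp (Ext.mk₀ φ) (add_zero n) :=
  extIsoEquiv_map (freeTerminalIso J hT) φ n x

/-- Cohomology in degree zero is sections. -/
noncomputable def he0Equiv (F : Sheaf J AddCommGrpCat.{u}) (U : C) : HE F 0 U ≃+ F.obj.obj (op U) :=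
  SiteCoh.hu0Equiv F U

lemma mk₀_comp_he0Equiv_symm (F : Sheaf J AddCommGrpCat.{u}) {U V : C} (f : V ⟶ U)
    (s : F.obj.obj (op U)) :
    (Ext.mk₀ (CohCx.freeSheafMap J f)).comp ((he0Equiv F U).symm s) (zero_add 0) =
      (he0Equiv F V).symm (F.obj.map f.op s) :=
  SiteCoh.mk₀_comp_hu0Equiv_symm F f s

lemma he0Equiv_symm_comp_mk₀ {F G : Sheaf J AddCommGrpCat.{u}} (g : F ⟶ G) (U : C)
    (s : F.obj.obj (op U)) :
    ((he0Equiv F U).symm s).comp (Ext.mk₀ g) (add_zero 0) =
      (he0Equiv G U).symm (g.hom.app (op U) s) :=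
  SiteCoh.hu0Equiv_symm_comp_mk₀ g U s

end Groth.Agent.Coh69
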