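import Groth.Agent.Coh69.CechAcyclic
import Groth.Agent.Coh69.Sections

universe u

open CategoryTheory Limits TopologicalSpace Opposite

namespace Groth.Agent.Coh69

variable {X : TopCat.{u}} {S : ShortComplex (Sheaf (Opens.grothendieckTopology X) AddCommGrpCat.{u})}

lemma exists_cover_lift (hS : S.ShortExact) {V : Opens X} (q : S.X₃.obj.obj (op V)) :
    ∃ (κ : Type u) (W : κ → Opens X), (⨆ k, W k) = V ∧
      ∀ k, ∃ (h : W k ≤ V) (t : S.X₂.obj.obj (op (W k))),
        S.g.hom.app (op (W k)) t = res S.X₃.obj h q := by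
  have := hS.epi_g
  obtain ⟨T, hT⟩ := SiteCoh.exists_local_lift S.g q
  refine ⟨T.Arrow, fun a => a.Y, le_antisymm (iSup_le fun a => leOfHom a.f) ?_,
    fun a => ⟨leOfHom a.f, ?_⟩⟩
  · intro x hx
    obtain ⟨W, f, hf, hxW⟩ := T.condition x hx
    exact Opens.mem_iSup.2 ⟨⟨W, f, hf⟩, hxW⟩
  · obtain ⟨t, ht⟩ := hT a
    exact ⟨t, ht⟩

lemma exists_lift_of_cech_H1 (hS : S.ShortExact) {ι : Type u} (U : ι → Opens X) {V : Opens X}
    (hUV : (⨆ i, U i) = V) (hF : CechAcyclic U S.X₁.obj) (q : S.X₃.obj.obj (op V))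
    (h : ∀ i, ∃ t : S.X₂.obj.obj (op (U i)),
      S.g.hom.app (op (U i)) t = res S.X₃.obj (hUV ▸ le_iSup U i) q) :
    ∃ t, S.g.hom.app (op V) t = q := by
  have hle : ∀ i, U i ≤ V := fun i => hUV ▸ le_iSup U i
  choose t ht using h
  let s0 : Cochain U S.X₂.obj 0 := fun i => res S.X₂.obj (cOpen_le U i 0) (t (i 0))
  have hg0 : ∀ i : Fin (0 + 1) → ι, S.g.hom.app (op (cOpen U i)) (s0 i) =
      res S.X₃.obj ((cOpen_le U i 0).trans (hle _)) q := fun i => by
    rw [hom_res, ht, res_res]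
  have hg1 : ∀ i, S.g.hom.app (op (cOpen U i)) (cd U S.X₂.obj 0 s0 i) = 0 := fun i => by
    rw [cd_apply, map_sum]
    simp only [map_zsmul, hom_res, hg0, res_res]
    simp [Fin.sum_univ_two]
  choose c hc using fun i => sect_exact hS _ _ (hg1 i)
  have hcc : cd U S.X₁.obj 1 c = 0 := funext fun i => by
    apply sect_injective hS
    rw [← cmap_apply U S.f.hom, ← cd_cmap, show cmap U S.f.hom 1 c = cd U S.X₂.obj 0 s0 from funext hc,
      cd_cd, Pi.zero_apply, Pi.zero_apply, map_zero]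
  obtain ⟨r, hr⟩ := hF 0 c hcc
  let s1 : Cochain U S.X₂.obj 0 := s0 - cmap U S.f.hom 0 r
  have hs1 : cd U S.X₂.obj 0 s1 = 0 := by
    rw [map_sub, cd_cmap, hr, show cmap U S.f.hom 1 c = cd U S.X₂.obj 0 s0 from funext hc, sub_self]
  obtain ⟨T, hT⟩ := sheaf_glue S.X₂ (fun i : Fin 1 → ι => cOpen U i) (V := V)
    (fun x hx => by
      rw [← hUV] at hx
      obtain ⟨i, hi⟩ := Opens.mem_iSup.1 hx
      exact Opens.mem_iSup.2 ⟨fun _ => i, (mem_cOpen U _ x).2 fun _ => hi⟩)
    (fun i => (cOpen_le U i 0).trans (hle _)) s1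
    (fun k l => by
      have hW : cOpen U k ⊓ cOpen U l ≤ cOpen U ![k 0, l 0] := le_cOpen U fun j => by
        fin_cases j
        · exact inf_le_left.trans (cOpen_le U k 0)
        · exact inf_le_right.trans (cOpen_le U l 0)
      have h := congrArg (res S.X₂.obj hW) (congrFun hs1 ![k 0, l 0])
      rw [cd_apply, Fin.sum_univ_two, map_add, map_zsmul, map_zsmul, res_res, res_res,
        Pi.zero_apply, map_zero] at h
      simp only [Fin.val_zero, pow_zero, one_smul, Fin.val_one, pow_one, neg_smul,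
        ← sub_eq_add_neg, sub_eq_zero] at h
      rw [cochain_congr U S.X₂.obj s1 (show k = ![k 0, l 0] ∘ (1 : Fin 2).succAbove from
          funext fun j => by fin_cases j; rfl) inf_le_left,
        cochain_congr U S.X₂.obj s1 (show l = ![k 0, l 0] ∘ (0 : Fin 2).succAbove from
          funext fun j => by fin_cases j; rfl) inf_le_right]
      exact h.symm)
  refine ⟨T, sheaf_ext S.X₃ (fun i : Fin 1 → ι => cOpen U i) ?_
    (fun i => (cOpen_le U i 0).trans (hle _)) _ _ fun i => ?_⟩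
  · intro x hx
    rw [← hUV] at hx
    obtain ⟨i, hi⟩ := Opens.mem_iSup.1 hx
    exact Opens.mem_iSup.2 ⟨fun _ => i, (mem_cOpen U _ x).2 fun _ => hi⟩
  · rw [← hom_res, hT i]
    simp only [s1, Pi.sub_apply, map_sub, cmap_apply, hg0, sect_f_g, sub_zero]

/-- If sections lift on all intersections, Cech acyclicity passes to the quotient. -/
lemma cechAcyclic_quotient (hS : S.ShortExact) {ι : Type u} (U : ι → Opens X)
    (h1 : CechAcyclic U S.X₁.obj) (h2 : CechAcyclic U S.X₂.obj)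
    (hlift : ∀ (n : ℕ) (i : Fin (n + 1) → ι) (q : S.X₃.obj.obj (op (cOpen U i))),
      ∃ t, S.g.hom.app (op (cOpen U i)) t = q) :
    CechAcyclic U S.X₃.obj := by
  intro n s hs
  choose t ht using fun i => hlift (n + 1) i (s i)
  have hgt : cmap U S.g.hom (n + 1) t = s := funext ht
  have hg0 : ∀ i, S.g.hom.app (op (cOpen U i)) (cd U S.X₂.obj (n + 1) t i) = 0 := fun i => by
    rw [← cmap_apply U S.g.hom, ← cd_cmap, hgt, hs]; rfl
  choose c hc using fun i => sect_exact hS _ _ (hg0 i)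
  have hfc : cmap U S.f.hom (n + 2) c = cd U S.X₂.obj (n + 1) t := funext hc
  have hcc : cd U S.X₁.obj (n + 2) c = 0 := funext fun i => by
    apply sect_injective hS
    rw [← cmap_apply U S.f.hom, ← cd_cmap, hfc, cd_cd, Pi.zero_apply, Pi.zero_apply, map_zero]
  obtain ⟨r, hr⟩ := h1 (n + 1) c hcc
  obtain ⟨w, hw⟩ := h2 n (t - cmap U S.f.hom (n + 1) r)
    (by rw [map_sub, cd_cmap, hr, hfc, sub_self])
  refine ⟨cmap U S.g.hom n w, ?_⟩
  rw [cd_cmap, hw, map_sub, hgt]
  funext i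
  rw [Pi.sub_apply, cmap_apply, cmap_apply, sect_f_g, sub_zero]

/-- Data for Cartan's criterion. -/
structure CartanData (X : TopCat.{u}) where
  /-- The distinguished opens. -/
  basis : Set (Opens X)
  /-- The distinguished covering families. -/
  cov : ∀ ι : Type u, (ι → Opens X) → Prop
  mem : ∀ (ι : Type u) (U : ι → Opens X), cov ι U →
    ∀ (n : ℕ) (i : Fin (n + 1) → ι), cOpen U i ∈ basis
  refine' : ∀ V ∈ basis, ∀ (κ : Type u) (W : κ → Opens X), (⨆ k, W k) = V →
    ∃ (ι : Type u) (U : ι → Opens X), cov ι U ∧ (⨆ i, U i) = V ∧ ∀ i, ∃ k, U i ≤ W k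

namespace CartanData

variable (D : CartanData X)

lemma exists_lift (hS : S.ShortExact) (hF : ∀ ι U, D.cov ι U → CechAcyclic U S.X₁.obj)
    {V : Opens X} (hV : V ∈ D.basis) (q : S.X₃.obj.obj (op V)) :
    ∃ t, S.g.hom.app (op V) t = q := by
  obtain ⟨κ, W, hW, hl⟩ := exists_cover_lift hS q
  obtain ⟨ι, U, hU, hUV, hUW⟩ := D.refine' V hV κ W hW
  refine exists_lift_of_cech_H1 hS U hUV (hF ι U hU) q fun i => ?_
  obtain ⟨k, hk⟩ := hUW i
  obtain ⟨hle, t, ht⟩ := hl k
  exact ⟨res S.X₂.obj hk t, by rw [hom_res, ht, res_res]⟩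

/-- Cartan's criterion. -/
theorem subsingleton_HE (n : ℕ) :
    ∀ (F : Sheaf (Opens.grothendieckTopology X) AddCommGrpCat.{u}),
      (∀ ι U, D.cov ι U → CechAcyclic U F.obj) →
      ∀ V ∈ D.basis, Subsingleton (HE F (n + 1) V) := by
  induction n with
  | zero =>
    intro F hF V hV
    exact subsingleton_H1_of_surjective (SiteCoh.injSES_shortExact F) V
      (D.exists_lift (SiteCoh.injSES_shortExact F) hF hV)
  | succ n ih =>
    intro F hF V hV
    have hS := SiteCoh.injSES_shortExact F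
    have : Subsingleton (HE (SiteCoh.injSES F).X₃ (n + 1) V) :=
      ih _ (fun ι U hU => cechAcyclic_quotient hS U (hF ι U hU)
        (cechAcyclic_of_injective U (SiteCoh.injSES F).X₂)
        (fun m i q => D.exists_lift hS hF (D.mem ι U hU m i) q)) V hV
    exact ext_subsingleton_X₁_succ hS (CohCx.freeSheaf (Opens.grothendieckTopology X) V) (n + 1)

end CartanData

end Groth.Agent.Coh69
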