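import Mathlib.AlgebraicGeometry.Modules.Tilde

universe u

open CategoryTheory Limits AlgebraicGeometry Opposite TopologicalSpace

namespace Groth.Agent.Coh69

variable {X : Scheme.{u}} {M : X.Modules} {V : X.Opens} (hV : IsAffineOpen V)

lemma fromSpec_smul_map (g : Γ(X, V)) (U : (Spec Γ(X, V)).Opens) :
    (hV.fromSpec.appIso U).inv ((Spec Γ(X, V)).presheaf.map U.leTop.op
        ((Scheme.ΓSpecIso Γ(X, V)).inv g)) =
      X.presheaf.map (homOfLE ((Scheme.Hom.image_mono _ le_top).trans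
        ((Scheme.Hom.image_top_eq_opensRange _).trans hV.opensRange_fromSpec).le)).op g := by
  apply ((hV.fromSpec.appIso U).commRingCatIsoToRingEquiv).injective
  change (hV.fromSpec.appIso U).hom ((hV.fromSpec.appIso U).inv _) = (hV.fromSpec.appIso U).hom _
  rw [Iso.inv_hom_id_apply, Scheme.Hom.appIso_hom', ← ConcreteCategory.comp_apply,
    ← ConcreteCategory.comp_apply]
  refine ConcreteCategory.congr_hom ?_ g
  rw [Scheme.Hom.map_appLE, Scheme.Hom.appLE, hV.fromSpec_app_self, Category.assoc, ← Functor.map_comp]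
  rfl

variable (M) in
/-- Sections of the restriction to `Spec` of an affine open. -/
noncomputable def specSec (U : (Spec Γ(X, V)).Opens) {W : X.Opens} (h : hV.fromSpec ''ᵁ U = W) :
    Γ(M.restrict hV.fromSpec, U) ≃+ Γ(M, W) :=
  (M.restrictAppIso hV.fromSpec U ≪≫ M.presheaf.mapIso (eqToIso h.symm).op).addCommGroupIsoToAddEquiv

lemma specSec_smul (U : (Spec Γ(X, V)).Opens) {W : X.Opens} (h : hV.fromSpec ''ᵁ U = W)
    (hW : W ≤ V) (g : Γ(X, V)) (x : Γ(M.restrict hV.fromSpec, U)) :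
    specSec M hV U h (g • x) = X.presheaf.map (homOfLE hW).op g • specSec M hV U h x := by
  subst h
  simp only [specSec, eqToIso_refl, Iso.op_refl, Functor.mapIso_refl, Iso.trans_refl]
  change (M.restrictAppIso hV.fromSpec U).hom (g • x) = _
  rw [Scheme.Modules.smul_Spec_def, Scheme.Modules.smul_restrictAppIso_hom_apply,
    fromSpec_smul_map hV]
  rfl

lemma specSec_map {U U' : (Spec Γ(X, V)).Opens} {W W' : X.Opens} (h : hV.fromSpec ''ᵁ U = W)
    (h' : hV.fromSpec ''ᵁ U' = W') (hUU : U' ≤ U) (hWW : W' ≤ W)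
    (x : Γ(M.restrict hV.fromSpec, U)) :
    specSec M hV U' h' ((M.restrict hV.fromSpec).presheaf.map (homOfLE hUU).op x) =
      M.presheaf.map (homOfLE hWW).op (specSec M hV U h x) := by
  subst h h'
  simp only [specSec, eqToIso_refl, Iso.op_refl, Functor.mapIso_refl, Iso.trans_refl]
  rfl

include hV in
/-- Sections of a quasi-coherent module over basic opens of an affine open extend up to powers. -/
theorem qcoh_exists_pow_smul_eq_res [M.IsQuasicoherent] (g : Γ(X, V))
    (s : Γ(M, X.basicOpen g)) :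
    ∃ (n : ℕ) (t : Γ(M, V)), M.presheaf.map (homOfLE (X.basicOpen_le g)).op t =
      (X.presheaf.map (homOfLE (X.basicOpen_le g)).op g) ^ n • s := by
  have hloc : IsLocalizing (modulesSpecToSheaf.obj (M.restrict hV.fromSpec)) :=
    (isIso_fromTildeΓ_iff_isLocalizing _).1 inferInstance
  have e₁ : hV.fromSpec ''ᵁ PrimeSpectrum.basicOpen g = X.basicOpen g :=
    hV.fromSpec_image_basicOpen g
  have e₀ : hV.fromSpec ''ᵁ ⊤ = V :=
    (Scheme.Hom.image_top_eq_opensRange _).trans hV.opensRange_fromSpec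
  have := hloc g
  obtain ⟨⟨t, ⟨_, n, rfl⟩⟩, ht⟩ := IsLocalizedModule.surj (Submonoid.powers g)
    ((modulesSpecToSheaf.obj (M.restrict hV.fromSpec)).obj.map
      (PrimeSpectrum.basicOpen g).leTop.op).hom
    ((specSec M hV (PrimeSpectrum.basicOpen g) e₁).symm s)
  refine ⟨n, specSec M hV ⊤ e₀ t, ?_⟩
  have h := congrArg (specSec M hV (PrimeSpectrum.basicOpen g) e₁) ht
  refine (specSec_map hV e₀ e₁ le_top _ t).symm.trans (h.symm.trans ?_)
  refine (specSec_smul hV _ e₁ (X.basicOpen_le g) (g ^ n) _).trans ?_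
  rw [AddEquiv.apply_symm_apply, map_pow]

include hV in
/-- A section killed on a basic open of an affine open is killed by a power. -/
theorem qcoh_exists_pow_smul_eq_zero [M.IsQuasicoherent] (g : Γ(X, V)) (t : Γ(M, V))
    (ht : M.presheaf.map (homOfLE (X.basicOpen_le g)).op t = 0) :
    ∃ n : ℕ, g ^ n • t = 0 := by
  have hloc : IsLocalizing (modulesSpecToSheaf.obj (M.restrict hV.fromSpec)) :=
    (isIso_fromTildeΓ_iff_isLocalizing _).1 inferInstance
  have e₁ : hV.fromSpec ''ᵁ PrimeSpectrum.basicOpen g = X.basicOpen g :=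
    hV.fromSpec_image_basicOpen g
  have e₀ : hV.fromSpec ''ᵁ ⊤ = V :=
    (Scheme.Hom.image_top_eq_opensRange _).trans hV.opensRange_fromSpec
  obtain ⟨t', rfl⟩ := (specSec M hV ⊤ e₀).surjective t
  let φ := ((modulesSpecToSheaf.obj (M.restrict hV.fromSpec)).obj.map
    (PrimeSpectrum.basicOpen g).leTop.op).hom
  let t₀ : (modulesSpecToSheaf.obj (M.restrict hV.fromSpec)).obj.obj (op ⊤) := t'
  have h : φ t₀ = 0 := by
    apply (specSec M hV (PrimeSpectrum.basicOpen g) e₁).injective
    refine (specSec_map hV e₀ e₁ le_top _ t').trans (ht.trans ?_)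
    exact (map_zero _).symm
  have : IsLocalizedModule (Submonoid.powers g) φ := hloc g
  obtain ⟨⟨c, hc⟩, hn⟩ := (IsLocalizedModule.eq_zero_iff (Submonoid.powers g) φ).1 h
  obtain ⟨n, rfl⟩ := hc
  refine ⟨n, ?_⟩
  let t'' : Γ(M.restrict hV.fromSpec, ⊤) := t₀
  have hn' : g ^ n • t'' = 0 := hn
  have h2 := specSec_smul hV ⊤ e₀ le_rfl (g ^ n) t''
  rw [hn', map_zero, show (homOfLE (le_refl V)).op = 𝟙 _ from rfl,
    CategoryTheory.Functor.map_id] at h2
  exact h2.symm

end Groth.Agent.Coh69
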