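import Groth.Agent.Coh69.CechLoc
import Groth.Agent.Coh69.QCohLoc

universe u

open CategoryTheory Limits AlgebraicGeometry Opposite TopologicalSpace

namespace Groth.Agent.Coh69

/-- Sections on the intersection with a fixed open. -/
noncomputable def capPresheaf {X : TopCat.{u}} (P : (Opens X)ᵒᵖ ⥤ AddCommGrpCat.{u})
    (V : Opens X) : (Opens X)ᵒᵖ ⥤ AddCommGrpCat.{u} where
  obj W := P.obj (op (W.unop ⊓ V))
  map {A B} h := P.map (homOfLE (inf_le_inf_right V (leOfHom h.unop))).op
  map_id W := by exact P.map_id _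
  map_comp f g := by exact P.map_comp _ _

/-- The restriction map to sections on the intersection with a fixed open. -/
noncomputable def toCap {X : TopCat.{u}} (P : (Opens X)ᵒᵖ ⥤ AddCommGrpCat.{u}) (V : Opens X) :
    P ⟶ capPresheaf P V where
  app W := P.map (homOfLE inf_le_left).op
  naturality A B h := by
    simp only [capPresheaf]
    rw [← P.map_comp, ← P.map_comp]
    rfl

lemma cechAcyclic_of_bijective {X : TopCat.{u}} {ι : Type u} {U : ι → Opens X}
    {P Q : (Opens X)ᵒᵖ ⥤ AddCommGrpCat.{u}} (φ : P ⟶ Q)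
    (hφ : ∀ (m : ℕ) (i : Fin (m + 1) → ι), Function.Bijective (φ.app (op (cOpen U i))))
    (hQ : CechAcyclic U Q) : CechAcyclic U P := by
  have hinj : ∀ m, Function.Injective (cmap U φ m) := fun m a b h =>
    funext fun i => (hφ m i).1 (congrFun h i)
  intro n s hs
  obtain ⟨t, ht⟩ := hQ n (cmap U φ _ s) (by rw [cd_cmap, hs, map_zero])
  obtain ⟨t', rfl⟩ : ∃ t', cmap U φ n t' = t := by
    choose t' h' using fun i => (hφ n i).2 (t i)
    exact ⟨t', funext h'⟩
  exact ⟨t', hinj _ (by rw [← cd_cmap, ht])⟩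

variable {X : Scheme.{u}} {V : X.Opens} {ι : Type u} (f : ι → Γ(X, V))

lemma map_res_smul (M : X.Modules) {A B C : X.Opens} (hBA : B ≤ A) (hAC : A ≤ C) (a : Γ(X, C))
    (s : Γ(M, A)) : M.presheaf.map (homOfLE hBA).op (X.presheaf.map (homOfLE hAC).op a • s) =
      X.presheaf.map (homOfLE (hBA.trans hAC)).op a • M.presheaf.map (homOfLE hBA).op s := by
  rw [Scheme.Modules.map_smul, ← ConcreteCategory.comp_apply, ← Functor.map_comp]
  rfl

lemma module_map_map (M : X.Modules) {A B C : X.Opens} (hBA : B ≤ A) (hAC : A ≤ C) (s : Γ(M, C)) :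
    M.presheaf.map (homOfLE hBA).op (M.presheaf.map (homOfLE hAC).op s) =
      M.presheaf.map (homOfLE (hBA.trans hAC)).op s := by
  rw [← ConcreteCategory.comp_apply, ← Functor.map_comp]
  rfl

lemma ring_map_map {A B C : X.Opens} (hBA : B ≤ A) (hAC : A ≤ C) (s : Γ(X, C)) :
    X.presheaf.map (homOfLE hBA).op (X.presheaf.map (homOfLE hAC).op s) =
      X.presheaf.map (homOfLE (hBA.trans hAC)).op s := by
  rw [← ConcreteCategory.comp_apply, ← Functor.map_comp]
  rfl

lemma isAffineOpen_cOpen (hV : IsAffineOpen V) {n : ℕ} (i : Fin (n + 1) → ι) :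
    IsAffineOpen (cOpen (fun k => X.basicOpen (f k)) i) := by
  induction n with
  | zero =>
    have : cOpen (fun k => X.basicOpen (f k)) i = X.basicOpen (f (i 0)) :=
      le_antisymm (cOpen_le _ i 0) (le_cOpen _ fun j => by rw [show j = 0 from Fin.ext (by omega)])
    rw [this]
    exact hV.basicOpen _
  | succ n ih =>
    rw [← Fin.cons_self_tail i, cOpen_cons]
    set W := cOpen (fun k => X.basicOpen (f k)) (Fin.tail i)
    have hW : W ≤ V := (cOpen_le _ _ 0).trans (X.basicOpen_le _)
    have e : X.basicOpen (f (i 0)) ⊓ W =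
        X.basicOpen (X.presheaf.map (homOfLE hW).op (f (i 0))) := by
      rw [Scheme.basicOpen_res, inf_comm]
    rw [e]
    exact (ih _).basicOpen _

variable (M : X.Modules)

/-- The module structure on sections over the intersection with `V`. -/
noncomputable abbrev capModule (W : X.Opens) :
    Module Γ(X, V) ((capPresheaf M.presheaf V).obj (op W)) :=
  Module.compHom Γ(M, W ⊓ V) (X.presheaf.map (homOfLE (inf_le_right : W ⊓ V ≤ V)).op).hom

variable {f}

/-- Cech acyclicity of a standard covering of an affine open for quasi-coherent modules. -/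
theorem cechAcyclic_standard [M.IsQuasicoherent] (hV : IsAffineOpen V) [Finite ι]
    (hf : Ideal.span (Set.range f) = ⊤) :
    CechAcyclic (fun k => X.basicOpen (f k)) M.presheaf := by
  let U := fun k => X.basicOpen (f k)
  have hle : ∀ {m : ℕ} (i : Fin (m + 1) → ι), cOpen U i ≤ V := fun i =>
    (cOpen_le U i 0).trans (X.basicOpen_le _)
  refine cechAcyclic_of_bijective (toCap M.presheaf V) (fun m i => ?_) ?_
  · have : IsIso (homOfLE (inf_le_left : cOpen U i ⊓ V ≤ cOpen U i)) :=
      ⟨homOfLE (le_inf le_rfl (hle i)), Subsingleton.elim _ _, Subsingleton.elim _ _⟩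
    exact ConcreteCategory.bijective_of_isIso
      (M.presheaf.map (homOfLE (inf_le_left : cOpen U i ⊓ V ≤ cOpen U i)).op)
  let : ∀ W : X.Opens, Module Γ(X, V) ((capPresheaf M.presheaf V).obj (op W)) :=
    fun W => capModule M W
  have hlin : ResLinear (capPresheaf M.presheaf V) Γ(X, V) := fun W W' h a s =>
    map_res_smul M (inf_le_inf_right V h) inf_le_right a s
  have hpow : ∀ (W : X.Opens) (g : Γ(X, V)) (n : ℕ) (s : (capPresheaf M.presheaf V).obj (op W)),
      g ^ n • s = (show (capPresheaf M.presheaf V).obj (op W) from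
        (X.presheaf.map (homOfLE (inf_le_right : W ⊓ V ≤ V)).op g) ^ n • (show Γ(M, W ⊓ V) from s)) :=
    fun W g n s => congrArg (fun z : Γ(X, W ⊓ V) => z • (show Γ(M, W ⊓ V) from s))
      (map_pow (X.presheaf.map (homOfLE (inf_le_right : W ⊓ V ≤ V)).op).hom g n)
  have key : ∀ (k : ι) {m : ℕ} (i : Fin (m + 1) → ι),
      cOpen U (Fin.cons k i : Fin (m + 2) → ι) ⊓ V =
        X.basicOpen (X.presheaf.map (homOfLE (inf_le_right : cOpen U i ⊓ V ≤ V)).op (f k)) := by
    intro k m i
    rw [Scheme.basicOpen_res, cOpen_cons]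
    ac_rfl
  have haff : ∀ {m : ℕ} (i : Fin (m + 1) → ι), IsAffineOpen (cOpen U i ⊓ V) := fun i => by
    rw [inf_eq_left.2 (hle i)]
    exact isAffineOpen_cOpen f hV i
  refine cechAcyclic_of_localizing U _ hlin f hf (fun k m i s => ?_) (fun k m i t ht => ?_)
  · let s₀ : Γ(M, cOpen U (Fin.cons k i : Fin (m + 2) → ι) ⊓ V) := s
    obtain ⟨n, t, ht⟩ := qcoh_exists_pow_smul_eq_res (haff i) _
      (M.presheaf.map (homOfLE (key k i).ge).op s₀)
    refine ⟨n, t, ?_⟩
    have h := congrArg (M.presheaf.map (homOfLE (key k i).le).op) ht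
    rw [Scheme.Modules.map_smul, map_pow, ring_map_map, ring_map_map, module_map_map,
      module_map_map] at h
    rw [hpow]
    refine h.trans ?_
    rw [show (homOfLE _).op = 𝟙 (op (cOpen U (Fin.cons k i : Fin (m + 2) → ι) ⊓ V)) from rfl,
      CategoryTheory.Functor.map_id]
    rfl
  · let t₀ : Γ(M, cOpen U i ⊓ V) := t
    have ht₀ : M.presheaf.map (homOfLE (inf_le_inf_right V (cOpen_cons_le U k i))).op t₀ = 0 := ht
    obtain ⟨n, hn⟩ := qcoh_exists_pow_smul_eq_zero (haff i) _ t₀ (by
      have h := congrArg (M.presheaf.map (homOfLE (key k i).ge).op) ht₀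
      rw [map_zero, module_map_map] at h
      exact h)
    refine ⟨n, ?_⟩
    rw [hpow]
    exact hn

end Groth.Agent.Coh69
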