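import Groth.Prelude.Def_Coh
import Groth.Agent.Coh69.Cartan
import Groth.Agent.Coh69.QCohCech

universe u

open CategoryTheory Limits AlgebraicGeometry Opposite TopologicalSpace

namespace Groth.Agent.Coh69

variable (X : Scheme.{u})

/-- Affine opens with their standard coverings. -/
noncomputable def affineCartan : CartanData.{u} X.toTopCat where
  basis := {V | IsAffineOpen (X := X) V}
  cov ι U := ∃ (V : X.Opens) (f : ι → Γ(X, V)), IsAffineOpen V ∧ Finite ι ∧
    Ideal.span (Set.range f) = ⊤ ∧ U = fun i => X.basicOpen (f i)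
  mem ι U := by
    rintro ⟨V, f, hV, -, -, rfl⟩ n i
    exact isAffineOpen_cOpen f hV i
  refine' V hV κ W hW := by
    have hV : IsAffineOpen (X := X) V := hV
    have hex : ∀ x : {x : X // x ∈ (V : X.Opens)}, ∃ g : Γ(X, V),
        (∃ k, X.basicOpen g ≤ W k) ∧ (x : X) ∈ X.basicOpen g := fun x => by
      have hx : (x : X) ∈ ⨆ k, W k := hW.symm ▸ x.2
      obtain ⟨k, hk⟩ := Opens.mem_iSup.1 hx
      obtain ⟨g, hg, hxg⟩ := hV.exists_basicOpen_le ⟨(x : X), hk⟩ x.2
      exact ⟨g, ⟨k, hg⟩, hxg⟩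
    choose g hgW hxg using hex
    have hspan : Ideal.span (Set.range g) = ⊤ := by
      rw [← hV.iSup_basicOpen_eq_self_iff]
      refine le_antisymm (iSup_le fun r => X.basicOpen_le _) fun x hx => ?_
      exact Opens.mem_iSup.2 ⟨⟨g ⟨x, hx⟩, Set.mem_range_self _⟩, hxg ⟨x, hx⟩⟩
    obtain ⟨s, hs, hs1⟩ := Submodule.mem_span_finite_of_mem_span
      ((Ideal.eq_top_iff_one _).1 hspan)
    have hs' : Ideal.span (Set.range fun r : s => (r : Γ(X, V))) = ⊤ := by
      rw [Ideal.eq_top_iff_one, Subtype.range_coe_subtype]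
      simpa using hs1
    refine ⟨s, fun r => X.basicOpen (r : Γ(X, V)), ⟨V, fun r => (r : Γ(X, V)), hV, inferInstance,
      hs', rfl⟩, ?_, fun r => ?_⟩
    · have := (hV.iSup_basicOpen_eq_self_iff (s := Set.range fun r : s => (r : Γ(X, V)))).2 hs'
      rw [iSup_range'] at this
      exact this
    · obtain ⟨x, hx⟩ := hs r.2
      obtain ⟨k, hk⟩ := hgW x
      exact ⟨k, (congrArg X.basicOpen hx).symm.trans_le hk⟩

variable {X}

/-- Higher cohomology of a quasi-coherent module on an affine open vanishes. -/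
theorem qcoh_subsingleton_HE (M : X.Modules) [M.IsQuasicoherent] {V : X.Opens}
    (hV : IsAffineOpen V) (n : ℕ) : Subsingleton (HE (Coh.toAb M) (n + 1) V) :=
  (affineCartan X).subsingleton_HE n (Coh.toAb M) (by
    rintro ι U ⟨W, f, hW, hι, hf, rfl⟩
    exact cechAcyclic_standard M hW hf) V hV

/-- `Coh.HH` as cohomology over the whole space. -/
noncomputable def hhEquiv (M : X.Modules) (n : ℕ) : Coh.HH X M n ≃+ HE (Coh.toAb M) n (⊤ : X.Opens) :=
  hTerminalEquiv (isTerminalTop (α := X.Opens)) (Coh.toAb M) n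

/-- Affine Serre vanishing. -/
theorem qcoh_subsingleton_HH [IsAffine X] (M : X.Modules) [M.IsQuasicoherent] (n : ℕ) :
    Subsingleton (Coh.HH X M (n + 1)) :=
  have := qcoh_subsingleton_HE M (isAffineOpen_top X) n
  (hhEquiv M (n + 1)).toEquiv.subsingleton

end Groth.Agent.Coh69
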