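import Groth.Agent.Coh69.Push
import Groth.Agent.Coh69.AffVanish

universe u

open CategoryTheory Limits AlgebraicGeometry Opposite TopologicalSpace

namespace Groth.Agent.Coh69

variable {X S : Scheme.{u}} (f : X ⟶ S)

/-- Cohomology is unchanged by direct image along an affine morphism. -/
theorem nonempty_hh_push [IsAffineHom f] (M : X.Modules) [M.IsQuasicoherent] (n : ℕ) :
    Nonempty (Coh.HH X M n ≃+ Coh.HH S ((Coh.push f).obj M) n) := by
  obtain ⟨e⟩ := leray f.base {V | IsAffineOpen (X := S) V} S.isBasis_affineOpens (Coh.toAb M)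
    (fun V (hV : IsAffineOpen (X := S) V) q =>
      qcoh_subsingleton_HE M (V := f ⁻¹ᵁ V) (hV.preimage f) q) n (⊤ : S.Opens)
  exact ⟨(hhEquiv M n).trans (e.trans (hhEquiv ((Coh.push f).obj M) n).symm)⟩

end Groth.Agent.Coh69
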