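import Groth.Agent.Coh69.Cech
import Mathlib.Topology.Sheaves.Stalks
import Mathlib.Topology.Sheaves.SheafCondition.UniqueGluing
import Mathlib.CategoryTheory.Preadditive.Injective.Basic
import Mathlib.Algebra.Category.Grp.FilteredColimits

universe u

open CategoryTheory Limits TopologicalSpace Opposite

namespace Groth.Agent.Coh69

variable {X : TopCat.{u}} {ι : Type u} (U : ι → Opens X)
variable {P Q : (Opens X)ᵒᵖ ⥤ AddCommGrpCat.{u}}

section Stalkwise

variable (A : X → AddCommGrpCat.{u})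

/-- The presheaf of arbitrary families indexed by the points. -/
noncomputable def pointwisePresheaf : (Opens X)ᵒᵖ ⥤ AddCommGrpCat.{u} where
  obj V := AddCommGrpCat.of (∀ x : ((unop V : Opens X) : Set X), A x.1)
  map {V W} h := AddCommGrpCat.ofHom
    { toFun := fun s x => s ⟨x.1, leOfHom h.unop x.2⟩
      map_zero' := rfl
      map_add' := fun _ _ => rfl }

lemma cd_pointwise (n : ℕ) (s : Cochain U (pointwisePresheaf A) n) (i : Fin (n + 2) → ι)
    (x : ((cOpen U i : Opens X) : Set X)) :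
    cd U (pointwisePresheaf A) n s i x = ∑ j : Fin (n + 2), (-1 : ℤ) ^ (j : ℕ) •
      s (i ∘ j.succAbove) ⟨x.1, cOpen_comp_le U i j.succAbove x.2⟩ := by
  rw [cd_apply]
  exact Finset.sum_apply x _ _

lemma pointwise_congr {n : ℕ} (s : Cochain U (pointwisePresheaf A) n) {i i' : Fin (n + 1) → ι}
    (h : i = i') (x : X) (hx : x ∈ cOpen U i) (hx' : x ∈ cOpen U i') :
    s i ⟨x, hx⟩ = s i' ⟨x, hx'⟩ := by
  subst h; rfl

/-- Pointwise presheaves are Cech acyclic for every family. -/
lemma cechAcyclic_pointwise : CechAcyclic U (pointwisePresheaf A) := by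
  classical
  intro n s hs
  rcases isEmpty_or_nonempty ι with hι | hι
  · exact ⟨0, funext fun i => (IsEmpty.false (i 0)).elim⟩
  choose c hc using fun x : X => (show ∃ k : ι, (∃ k', x ∈ U k') → x ∈ U k from
    if h : ∃ k', x ∈ U k' then ⟨h.choose, fun _ => h.choose_spec⟩
    else ⟨Classical.arbitrary ι, fun h' => absurd h' h⟩)
  have hmem : ∀ {m : ℕ} (i : Fin (m + 1) → ι) (x : X), x ∈ cOpen U i →
      x ∈ cOpen U (Fin.cons (c x) i : Fin (m + 2) → ι) := fun i x hx => by
    rw [cOpen_cons]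
    exact ⟨hc x ⟨i 0, (mem_cOpen U i x).1 hx 0⟩, hx⟩
  refine ⟨fun i x => s (Fin.cons (c x.1) i) ⟨x.1, hmem i x.1 x.2⟩, ?_⟩
  funext i x
  have h := congrFun (congrFun hs (Fin.cons (c x.1) i)) ⟨x.1, hmem i x.1 x.2⟩
  rw [cd_pointwise, Fin.sum_univ_succ] at h
  change _ = (0 : A x.1) at h
  refine (cd_pointwise U A n _ i x).trans ?_
  have h0 : s ((Fin.cons (c x.1) i : Fin (n + 3) → ι) ∘ (0 : Fin (n + 3)).succAbove)
      ⟨x.1, cOpen_comp_le U _ _ (hmem i x.1 x.2)⟩ = s i x :=
    pointwise_congr U A s (funext fun j => by simp) _ _ _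
  simp only [Fin.val_zero, pow_zero, one_smul, h0] at h
  rw [← sub_eq_zero]
  have hrw : ∀ j : Fin (n + 2), (-1 : ℤ) ^ ((j.succ : Fin (n + 3)) : ℕ) •
      s ((Fin.cons (c x.1) i : Fin (n + 3) → ι) ∘ j.succ.succAbove)
        ⟨x.1, cOpen_comp_le U _ _ (hmem i x.1 x.2)⟩ =
      - ((-1 : ℤ) ^ (j : ℕ) • s (Fin.cons (c x.1) (i ∘ j.succAbove))
        ⟨x.1, hmem _ x.1 (cOpen_comp_le U i j.succAbove x.2)⟩) := fun j => by
    rw [Fin.val_succ, pow_succ, mul_neg, mul_one, neg_smul]
    congr 2
    refine pointwise_congr U A s (funext fun k => ?_) _ _ _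
    induction k using Fin.cases with
    | zero => simp
    | succ k => simp
  simp only [hrw, Finset.sum_neg_distrib] at h
  rw [← neg_eq_zero, neg_sub, sub_eq_add_neg]
  exact h

end Stalkwise

lemma cechAcyclic_of_retract (i : P ⟶ Q) (r : Q ⟶ P) (h : i ≫ r = 𝟙 P)
    (hQ : CechAcyclic U Q) : CechAcyclic U P := by
  intro n s hs
  obtain ⟨t, ht⟩ := hQ n (cmap U i _ s) (by rw [cd_cmap, hs, map_zero])
  refine ⟨cmap U r n t, ?_⟩
  rw [cd_cmap, ht]
  funext k
  exact ConcreteCategory.congr_hom (NatTrans.congr_app h _) (s k)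

variable (F : Sheaf (Opens.grothendieckTopology X) AddCommGrpCat.{u})

/-- An injective abelian sheaf is Cech acyclic for every family of opens. -/
lemma cechAcyclic_of_injective [Injective F] : CechAcyclic U F.obj := by
  let A : X → AddCommGrpCat.{u} := fun x => TopCat.Presheaf.stalk F.obj x
  let e : F.obj ⟶ pointwisePresheaf A :=
    { app := fun V => AddCommGrpCat.ofHom
        { toFun := fun s x => TopCat.Presheaf.germ F.obj V.unop x.1 x.2 s
          map_zero' := funext fun x => map_zero _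
          map_add' := fun a b => funext fun x => map_add _ a b }
      naturality := fun V W h => by
        ext s
        funext x
        exact TopCat.Presheaf.germ_res_apply' F.obj h x.1 x.2 s }
  have : Mono e := by
    have : ∀ V, Mono (e.app V) := fun V => by
      rw [AddCommGrpCat.mono_iff_injective]
      intro s t hst
      exact TopCat.Presheaf.section_ext F V.unop s t fun x hx => congrFun hst ⟨x, hx⟩
    exact NatTrans.mono_of_mono_app _
  have : Injective F.obj :=
    Injective.injective_of_adjoint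
      (sheafificationAdjunction (Opens.grothendieckTopology X) AddCommGrpCat.{u}) F
  exact cechAcyclic_of_retract U e (Injective.factorThru (𝟙 F.obj) e)
    (Injective.comp_factorThru _ _) (cechAcyclic_pointwise U A)

lemma sheaf_ext {V : Opens X} {κ : Type*} (W : κ → Opens X) (hV : V ≤ ⨆ k, W k)
    (hW : ∀ k, W k ≤ V) (s t : F.obj.obj (op V))
    (h : ∀ k, res F.obj (hW k) s = res F.obj (hW k) t) : s = t :=
  TopCat.Sheaf.eq_of_locally_eq' F W V (fun k => homOfLE (hW k)) hV s t h

lemma sheaf_glue {V : Opens X} {κ : Type*} (W : κ → Opens X) (hV : V ≤ ⨆ k, W k)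
    (hW : ∀ k, W k ≤ V) (s : ∀ k, F.obj.obj (op (W k)))
    (h : ∀ k l, res F.obj (inf_le_left : W k ⊓ W l ≤ W k) (s k) =
      res F.obj (inf_le_right : W k ⊓ W l ≤ W l) (s l)) :
    ∃ t : F.obj.obj (op V), ∀ k, res F.obj (hW k) t = s k :=
  (TopCat.Sheaf.existsUnique_gluing' F W V (fun k => homOfLE (hW k)) hV s h).exists

end Groth.Agent.Coh69
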