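import Groth.Agent.Coh69.Sections
import Groth.Agent.Coh69.CechAcyclic
import Mathlib.Topology.Sheaves.MayerVietoris
import Mathlib.Algebra.Homology.DerivedCategory.Ext.ExactSequences

universe w v u

open CategoryTheory Limits TopologicalSpace Opposite CategoryTheory.Abelian

namespace Groth.Agent.Coh69

lemma ext_subsingleton_biprod {A : Type*} [Category A] [Abelian A] [HasExt.{w} A] (Y Z₁ Z₂ : A)
    (n : ℕ) [Subsingleton (Ext.{w} Z₁ Y n)] [Subsingleton (Ext.{w} Z₂ Y n)] :
    Subsingleton (Ext.{w} (Z₁ ⊞ Z₂) Y n) :=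
  (Ext.biprodAddEquiv (X₁ := Z₁) (X₂ := Z₂) (Y := Y) (n := n)).toEquiv.subsingleton

lemma ext_subsingleton_contra {A : Type*} [Category A] [Abelian A] [HasExt.{w} A]
    {S : ShortComplex A} (hS : S.ShortExact) (Y : A) (n : ℕ) [Subsingleton (Ext.{w} S.X₁ Y n)]
    [Subsingleton (Ext.{w} S.X₂ Y (n + 1))] : Subsingleton (Ext.{w} S.X₃ Y (n + 1)) :=
  subsingleton_of_forall_eq 0 fun x => by
    obtain ⟨x₁, rfl⟩ :=
      Ext.contravariant_sequence_exact₃ hS Y x (Subsingleton.elim _ _) (add_comm 1 n)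
    rw [Subsingleton.elim x₁ 0, Ext.comp_zero]

variable {X : TopCat.{u}} (F : Sheaf (Opens.grothendieckTopology X) AddCommGrpCat.{u})

/-- Mayer-Vietoris, vanishing form. -/
lemma subsingleton_HE_sup (U V : Opens X) (n : ℕ) (hUV : Subsingleton (HE F n (U ⊓ V)))
    (hU : Subsingleton (HE F (n + 1) U)) (hV : Subsingleton (HE F (n + 1) V)) :
    Subsingleton (HE F (n + 1) (U ⊔ V)) :=
  let S := Opens.mayerVietorisSquare U V
  have : Subsingleton (Ext.{u} S.shortComplex.X₁ F n) := hUV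
  have : Subsingleton (Ext.{u} S.shortComplex.X₂ F (n + 1)) :=
    @ext_subsingleton_biprod _ _ _ _ F _ _ (n + 1) hU hV
  ext_subsingleton_contra S.shortComplex_shortExact F n

lemma subsingleton_sections_bot : Subsingleton (F.obj.obj (op (⊥ : Opens X))) :=
  ⟨fun a b => sheaf_ext F (fun _ : PEmpty.{1} => (⊥ : Opens X)) bot_le (fun _ => le_rfl) a b
    fun k => k.elim⟩

lemma subsingleton_HE_zero (U : Opens X) [Subsingleton (F.obj.obj (op U))] :
    Subsingleton (HE F 0 U) :=
  (SiteCoh.hu0Equiv F U).toEquiv.subsingleton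

end Groth.Agent.Coh69
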