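import Groth.Agent.Coh69.AffVanish
import Groth.Agent.Coh69.MV
import Mathlib.AlgebraicGeometry.Morphisms.QuasiSeparated

universe u

open CategoryTheory Limits AlgebraicGeometry Opposite TopologicalSpace

namespace Groth.Agent.Coh69

/-- Induction principle for quasi-compact opens of a quasi-separated scheme. -/
theorem qc_induction {X : Scheme.{u}} [QuasiSeparatedSpace X] (P : X.Opens → Prop)
    (h₁ : ∀ U : X.Opens, IsAffineOpen U → P U)
    (h₂ : ∀ U V : X.Opens, IsCompact (U : Set X) → IsAffineOpen V → P U → P V → P (U ⊓ V) →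
      P (U ⊔ V))
    (U : X.Opens) (hU : IsCompact (U : Set X)) : P U := by
  have inAff : ∀ (W : X.Opens), IsAffineOpen W → ∀ (t : ℕ) (g : Fin t → Γ(X, W)),
      P (⨆ i, X.basicOpen (g i)) := by
    intro W hW t
    induction t with
    | zero =>
      intro g
      rw [iSup_of_empty]
      exact h₁ ⊥ (isAffineOpen_bot X)
    | succ t ih =>
      intro g
      have e : (⨆ i, X.basicOpen (g i)) =
          (⨆ i : Fin t, X.basicOpen (g i.succ)) ⊔ X.basicOpen (g 0) := by
        refine le_antisymm (iSup_le fun i => ?_)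
          (sup_le (iSup_le fun i => le_iSup (fun i => X.basicOpen (g i)) _)
            (le_iSup (fun i => X.basicOpen (g i)) 0))
        induction i using Fin.cases with
        | zero => exact le_sup_right
        | succ i =>
          exact le_sup_of_le_left (le_iSup (fun i : Fin t => X.basicOpen (g i.succ)) i)
      rw [e]
      refine h₂ _ _ ?_ (hW.basicOpen _) (ih _) (h₁ _ (hW.basicOpen _)) ?_
      · rw [Opens.coe_iSup]
        exact isCompact_iUnion fun i => (hW.basicOpen _).isCompact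
      · rw [iSup_inf_eq]
        simp only [← Scheme.basicOpen_mul]
        exact ih _
  refine compact_open_induction_on U hU (h₁ ⊥ (isAffineOpen_bot X)) fun S hS V hP => ?_
  refine h₂ S V hS V.2 hP (h₁ V V.2) ?_
  have hc : IsCompact ((S ⊓ (V : X.Opens) : X.Opens) : Set X) :=
    QuasiSeparatedSpace.inter_isCompact (S : Set X) (V : X.Opens) S.2 hS (V : X.Opens).2 V.2.isCompact
  choose g hg hxg using fun x : {x : X // x ∈ S ⊓ (V : X.Opens)} =>
    V.2.exists_basicOpen_le ⟨(x : X), x.2⟩ x.2.2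
  obtain ⟨s, hs⟩ := hc.elim_finite_subcover (fun x => (X.basicOpen (g x) : Set X))
    (fun x => (X.basicOpen (g x)).2)
    (fun x hx => Set.mem_iUnion.2 ⟨⟨x, hx⟩, hxg ⟨x, hx⟩⟩)
  have e : S ⊓ (V : X.Opens) = ⨆ i : Fin s.card, X.basicOpen (g (s.equivFin.symm i)) := by
    refine le_antisymm (fun x hx => ?_) (iSup_le fun i => hg _)
    obtain ⟨y, hy, hxy⟩ := Set.mem_iUnion₂.1 (hs hx)
    refine Opens.mem_iSup.2 ⟨s.equivFin ⟨y, hy⟩, ?_⟩
    rw [Equiv.symm_apply_apply]
    exact hxy
  rw [e]
  exact inAff V V.2 _ _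

variable {X : Scheme.{u}}

/-- Vanishing above the number of affines, for affine intersections. -/
theorem subsingleton_HE_biSup (hd : ∀ V W : X.Opens, IsAffineOpen V → IsAffineOpen W →
      IsAffineOpen (V ⊓ W)) (M : X.Modules) [M.IsQuasicoherent] :
    ∀ (t : ℕ) (U : Fin t → X.Opens), (∀ i, IsAffineOpen (U i)) → ∀ n, t ≤ n →
      Subsingleton (HE (Coh.toAb M) n (⨆ i, U i)) := by
  intro t
  induction t with
  | zero =>
    intro U _ n _
    rw [show (⨆ i, U i) = ⊥ from iSup_of_empty U]
    cases n with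
    | zero =>
      have := subsingleton_sections_bot (Coh.toAb M)
      exact subsingleton_HE_zero (Coh.toAb M) ⊥
    | succ m => exact qcoh_subsingleton_HE M (isAffineOpen_bot X) m
  | succ t ih =>
    intro U hU n hn
    have e : (⨆ i, U i) = (⨆ i : Fin t, U i.succ) ⊔ U 0 := by
      refine le_antisymm (iSup_le fun i => ?_) (sup_le (iSup_le fun i => le_iSup U _) (le_iSup U 0))
      induction i using Fin.cases with
      | zero => exact le_sup_right
      | succ i => exact le_sup_of_le_left (le_iSup (fun i : Fin t => U i.succ) i)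
    obtain ⟨m, rfl⟩ : ∃ m, n = m + 1 := ⟨n - 1, by omega⟩
    rw [e]
    refine subsingleton_HE_sup (Coh.toAb M) _ _ m ?_ (ih _ (fun i => hU _) _ (by omega))
      (qcoh_subsingleton_HE M (hU 0) m)
    rw [iSup_inf_eq]
    exact ih _ (fun i => hd _ _ (hU _) (hU _)) m (by omega)

/-- Bounded cohomological dimension of quasi-compact opens of a quasi-separated scheme. -/
theorem exists_bound_HE [QuasiSeparatedSpace X] (U : X.Opens) (hU : IsCompact (U : Set X)) :
    ∃ d : ℕ, ∀ (M : X.Modules), M.IsQuasicoherent → ∀ p, d ≤ p →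
      Subsingleton (HE (Coh.toAb M) p U) := by
  refine qc_induction (fun U => ∃ d : ℕ, ∀ (M : X.Modules), M.IsQuasicoherent → ∀ p, d ≤ p →
      Subsingleton (HE (Coh.toAb M) p U)) (fun U hU => ⟨1, fun M hM p hp => ?_⟩) ?_ U hU
  · obtain ⟨m, rfl⟩ : ∃ m, p = m + 1 := ⟨p - 1, by omega⟩
    exact @qcoh_subsingleton_HE X M hM U hU m
  · rintro U V - - ⟨a, ha⟩ ⟨b, hb⟩ ⟨c, hc⟩
    refine ⟨a + b + c + 1, fun M hM p hp => ?_⟩
    obtain ⟨m, rfl⟩ : ∃ m, p = m + 1 := ⟨p - 1, by omega⟩
    exact subsingleton_HE_sup _ U V m (hc M hM m (by omega)) (ha M hM _ (by omega))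
      (hb M hM _ (by omega))

end Groth.Agent.Coh69
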