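import Mathlib.AlgebraicGeometry.Modules.Sheaf
import Mathlib.Algebra.Category.ModuleCat.Presheaf.Generator
import Mathlib.Algebra.Category.Grp.AB
import Mathlib.CategoryTheory.Abelian.GrothendieckCategory.EnoughInjectives
import Mathlib.CategoryTheory.Abelian.GrothendieckAxioms.Sheaf
import Mathlib.CategoryTheory.Abelian.Injective.Resolution

universe u
open CategoryTheory Limits AlgebraicGeometry

namespace Groth.Agent.Coh69

variable {C : Type u} [SmallCategory C] {J : GrothendieckTopology C} (R : Sheaf J RingCat.{u})

instance presheafOfModules_ab5 (R₀ : Cᵒᵖ ⥤ RingCat.{u}) : AB5 (PresheafOfModules.{u} R₀) where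
  ofShape K _ _ := HasExactColimitsOfShape.domain_of_functor K (PresheafOfModules.toPresheaf R₀)

instance sheafOfModules_ab5 : AB5 (SheafOfModules.{u} R) where
  ofShape K _ _ :=
    (PresheafOfModules.sheafificationAdjunction (𝟙 R.obj)).hasExactColimitsOfShape K

theorem sheafOfModules_hasSeparator : HasSeparator (SheafOfModules.{u} R) := by
  let adj := PresheafOfModules.sheafificationAdjunction (𝟙 R.obj)
  let G : C → SheafOfModules.{u} R := fun X =>
    (PresheafOfModules.sheafification (𝟙 R.obj)).obj ((PresheafOfModules.free R.obj).obj (yoneda.obj X))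
  have hG : (ObjectProperty.ofObj G).IsSeparating := by
    intro M N f g h
    apply (SheafOfModules.forget R).map_injective
    refine PresheafOfModules.freeYoneda.isSeparating R.obj _ _ ?_
    intro P hP k
    obtain ⟨X⟩ := hP
    obtain ⟨a, rfl⟩ := (adj.homEquiv _ M).surjective k
    have := h _ ⟨X⟩ a
    have h2 := congrArg (adj.homEquiv _ N) this
    rw [Adjunction.homEquiv_naturality_right, Adjunction.homEquiv_naturality_right] at h2
    exact h2
  exact ⟨⟨∐ G, hG.isSeparator_coproduct⟩⟩

instance sheafOfModules_isGrothendieckAbelian : IsGrothendieckAbelian.{u} (SheafOfModules.{u} R) where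
  hasSeparator := sheafOfModules_hasSeparator R

instance modules_isGrothendieckAbelian (X : Scheme.{u}) : IsGrothendieckAbelian.{u} X.Modules :=
  inferInstanceAs (IsGrothendieckAbelian.{u} (SheafOfModules.{u} X.ringCatSheaf))

instance modules_hasInjectiveResolutions (X : Scheme.{u}) : HasInjectiveResolutions X.Modules :=
  inferInstance

end Groth.Agent.Coh69
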