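import Groth.Agent.Coh69.Restrict
import Groth.Agent.Coh69.AffVanish

universe u

open CategoryTheory Limits AlgebraicGeometry Opposite TopologicalSpace

namespace Groth.Agent.Coh69

variable {T T' : TopCat.{u}} {j : T' ⟶ T} (hj : Topology.IsOpenEmbedding j)
variable {F G : Sheaf (Opens.grothendieckTopology T) AddCommGrpCat.{u}}

lemma subsingleton_HE_of_isZero_restr (h : IsZero ((restrSh hj).obj F)) (n : ℕ) (W : Opens T') :
    Subsingleton (HE F n (hj.functor.obj W)) := by
  obtain ⟨e⟩ := restr_nonempty_equiv hj F n W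
  have : Subsingleton (HE ((restrSh hj).obj F) n W) := by
    refine subsingleton_of_forall_eq 0 fun x => ?_
    rw [← Abelian.Ext.comp_mk₀_id x, h.eq_of_src (𝟙 _) 0, Abelian.Ext.mk₀_zero, Abelian.Ext.comp_zero]
  exact e.toEquiv.subsingleton

lemma ext_sub_comp {A : Type*} [Category A] [Abelian A] [HasExt.{u} A] {Z P Q : A} {n : ℕ}
    (x y : Abelian.Ext.{u} Z P n) (β : Abelian.Ext.{u} P Q 0) :
    (x - y).comp β (add_zero n) = x.comp β (add_zero n) - y.comp β (add_zero n) :=
  map_sub (β.postcomp Z (add_zero n)) x y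

lemma ext_postcomp_g_bijective {A : Type*} [Category A] [Abelian A] [HasExt.{u} A] {S : ShortComplex A}
    (hS : S.ShortExact) (Z : A) (h : ∀ n, Subsingleton (Abelian.Ext.{u} Z S.X₁ n)) (n : ℕ) :
    Function.Bijective fun x : Abelian.Ext.{u} Z S.X₂ n =>
      x.comp (Abelian.Ext.mk₀ S.g) (add_zero n) := by
  constructor
  · intro a b hab
    obtain ⟨w, hw⟩ := Abelian.Ext.covariant_sequence_exact₂ Z hS (a - b) (by
      rw [ext_sub_comp]; exact sub_eq_zero.2 hab)
    rw [← sub_eq_zero, ← hw, (h n).elim w 0, Abelian.Ext.zero_comp]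
  · exact fun y => Abelian.Ext.covariant_sequence_exact₃ Z hS y rfl ((h (n + 1)).elim _ _)

lemma ext_postcomp_f_bijective {A : Type*} [Category A] [Abelian A] [HasExt.{u} A] {S : ShortComplex A}
    (hS : S.ShortExact) (Z : A) (h : ∀ n, Subsingleton (Abelian.Ext.{u} Z S.X₃ n)) (n : ℕ) :
    Function.Bijective fun x : Abelian.Ext.{u} Z S.X₁ n =>
      x.comp (Abelian.Ext.mk₀ S.f) (add_zero n) := by
  constructor
  · intro a b hab
    cases n with
    | zero =>
      have := hS.mono_f
      obtain ⟨a, rfl⟩ := (Abelian.Ext.mk₀_bijective Z S.X₁).2 a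
      obtain ⟨b, rfl⟩ := (Abelian.Ext.mk₀_bijective Z S.X₁).2 b
      simp only [Abelian.Ext.mk₀_comp_mk₀] at hab
      rw [(cancel_mono S.f).1 ((Abelian.Ext.mk₀_bijective Z S.X₂).1 hab)]
    | succ m =>
      obtain ⟨w, hw⟩ := Abelian.Ext.covariant_sequence_exact₁ Z hS (a - b) (by
        rw [ext_sub_comp]; exact sub_eq_zero.2 hab) rfl
      rw [← sub_eq_zero, ← hw, (h m).elim w 0, Abelian.Ext.zero_comp]
  · exact fun y => Abelian.Ext.covariant_sequence_exact₂ Z hS y ((h n).elim _ _)

lemma ext_postcomp_bijective {A : Type*} [Category A] [Abelian A] [HasExt.{u} A] {F G : A}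
    (φ : F ⟶ G) (Z : A) (hK : ∀ n, Subsingleton (Abelian.Ext.{u} Z (kernel φ) n))
    (hC : ∀ n, Subsingleton (Abelian.Ext.{u} Z (cokernel φ) n)) (n : ℕ) :
    Function.Bijective fun x : Abelian.Ext.{u} Z F n =>
      x.comp (Abelian.Ext.mk₀ φ) (add_zero n) := by
  let S₁ := ShortComplex.mk (kernel.ι φ) (Abelian.coimage.π φ) (cokernel.condition _)
  have h₁ : S₁.ShortExact :=
    { exact := ShortComplex.exact_of_g_is_cokernel S₁ (cokernelIsCokernel (kernel.ι φ)) }
  let S₃ := ShortComplex.mk φ (cokernel.π φ) (cokernel.condition φ)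
  let S₂ := ShortComplex.mk (Abelian.factorThruCoimage φ) (cokernel.π φ) (by
    rw [← cancel_epi (Abelian.coimage.π φ)]; simp)
  let u : S₃ ⟶ S₂ := { τ₁ := Abelian.coimage.π φ, τ₂ := 𝟙 _, τ₃ := 𝟙 _ }
  have h₂ : S₂.ShortExact :=
    { exact := (ShortComplex.exact_iff_of_epi_of_isIso_of_mono u).1
        (ShortComplex.exact_of_g_is_cokernel S₃ (cokernelIsCokernel φ)) }
  have h := (ext_postcomp_f_bijective h₂ Z hC n).comp (ext_postcomp_g_bijective h₁ Z hK n)
  convert h using 2 with x
  simp [S₁, S₂]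

/-- A morphism inverted by restriction to an open subspace acts bijectively on its cohomology. -/
lemma bijective_HE_of_isIso_restr (φ : F ⟶ G) [IsIso ((restrSh hj).map φ)] (n : ℕ) (W : Opens T') :
    Function.Bijective fun x : HE F n (hj.functor.obj W) =>
      x.comp (Abelian.Ext.mk₀ φ) (add_zero n) := by
  refine ext_postcomp_bijective φ _ (fun m => subsingleton_HE_of_isZero_restr hj ?_ m W)
    (fun m => subsingleton_HE_of_isZero_restr hj ?_ m W) n
  · have hS : ((restrSh hj).map (kernel.ι φ)) = 0 := by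
      rw [← cancel_mono ((restrSh hj).map φ), zero_comp, ← Functor.map_comp, kernel.condition,
        Functor.map_zero]
    let S := ShortComplex.mk (kernel.ι φ) (cokernel.π (kernel.ι φ)) (cokernel.condition _)
    have hS' : S.ShortExact :=
      { exact := ShortComplex.exact_of_g_is_cokernel S (cokernelIsCokernel (kernel.ι φ)) }
    have : Mono ((restrSh hj).map (kernel.ι φ)) := (restrSh_shortExact hj hS').mono_f
    exact IsZero.of_mono_eq_zero _ hS
  · have hS : ((restrSh hj).map (cokernel.π φ)) = 0 := by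
      rw [← cancel_epi ((restrSh hj).map φ), comp_zero, ← Functor.map_comp, cokernel.condition,
        Functor.map_zero]
    let S := ShortComplex.mk (kernel.ι (cokernel.π φ)) (cokernel.π φ) (kernel.condition _)
    have hS' : S.ShortExact :=
      { exact := ShortComplex.exact_of_f_is_kernel S (kernelIsKernel (cokernel.π φ)) }
    have : Epi ((restrSh hj).map (cokernel.π φ)) := (restrSh_shortExact hj hS').epi_g
    exact IsZero.of_epi_eq_zero _ hS

variable {X : Scheme.{u}}

/-- Cohomology of the restriction to an open subscheme. -/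
theorem nonempty_hhon (M : X.Modules) (U : X.Opens) (n : ℕ) :
    Nonempty (Coh.HHon X M U n ≃+ HE (Coh.toAb M) n U) := by
  obtain ⟨e⟩ := restr_nonempty_equiv U.ι.isOpenEmbedding (Coh.toAb M) n (⊤ : (U : Scheme.{u}).Opens)
  have hU : U.ι.isOpenEmbedding.functor.obj (⊤ : (U : Scheme.{u}).Opens) = U := U.ι_image_top
  rw [hU] at e
  exact ⟨(hhEquiv (M.restrict U.ι) n).trans e.symm⟩

/-- A global function is invertible on the cohomology of its basic open. -/
theorem bijective_smulAb_basicOpen (M : X.Modules) (g : Coh.Γtop X) (n : ℕ) :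
    Function.Bijective fun x : HE (Coh.toAb M) n (X.basicOpen (g : Γ(X, ⊤))) =>
      x.comp (Abelian.Ext.mk₀ (Coh.smulAb M g)) (add_zero n) := by
  set D := X.basicOpen (g : Γ(X, ⊤)) with hD
  have hiso : IsIso ((restrSh D.ι.isOpenEmbedding).map (Coh.smulAb M g)) := by
    suffices h : ∀ W, IsIso (((restrSh D.ι.isOpenEmbedding).map (Coh.smulAb M g)).hom.app W) by
      have : IsIso ((sheafToPresheaf _ _).map ((restrSh D.ι.isOpenEmbedding).map (Coh.smulAb M g))) :=
        @NatIso.isIso_of_isIso_app _ _ _ _ _ _ _ h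
      exact isIso_of_reflects_iso _ (sheafToPresheaf _ _)
    rintro ⟨W⟩
    rw [ConcreteCategory.isIso_iff_bijective]
    let g₀ : Γ(X, ⊤) := g
    have hle : D.ι ''ᵁ W ≤ D := (Scheme.Hom.image_mono _ le_top).trans D.ι_image_top.le
    have hu : IsUnit (X.presheaf.map (homOfLE (le_top : D.ι ''ᵁ W ≤ ⊤)).op g₀) := by
      rw [← ring_map_map hle le_top]
      exact (X.toRingedSpace.isUnit_res_basicOpen g₀).map _
    exact MulAction.bijective (α := Γ(X, D.ι ''ᵁ W)ˣ) (β := Γ(M, D.ι ''ᵁ W)) hu.unit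
  have h := bijective_HE_of_isIso_restr D.ι.isOpenEmbedding (Coh.smulAb M g) n ⊤
  have hU : D.ι.isOpenEmbedding.functor.obj (⊤ : (D : Scheme.{u}).Opens) = D := D.ι_image_top
  rw [hU] at h
  exact h

end Groth.Agent.Coh69
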