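import Groth.Agent.Coh69.ExtLoc
import Mathlib.Algebra.Module.LocalizedModule.Basic

universe w v u r

open CategoryTheory Limits CategoryTheory.Abelian

namespace Groth.Agent.Coh69

variable {A : Type u} [Category.{v} A] [Abelian A] [HasExt.{w} A] {F : A} {R : Type r} [CommRing R]

/-- A ring acting on an object of an abelian category. -/
structure ObjAct (R : Type r) [CommRing R] (F : A) where
  act : R → (F ⟶ F)
  act_one : act 1 = 𝟙 F
  act_mul : ∀ a b, act (a * b) = act b ≫ act a
  act_add : ∀ a b, act (a + b) = act a + act b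
  act_zero : act 0 = 0

namespace ObjAct

variable (α : ObjAct R F) (Z : A) (n : ℕ)

/-- The action on Ext classes. -/
noncomputable def extEnd (a : R) : Ext.{w} Z F n →+ Ext.{w} Z F n :=
  (Ext.mk₀ (α.act a)).postcomp _ (add_zero n)

lemma extEnd_apply (a : R) (x : Ext.{w} Z F n) :
    α.extEnd Z n a x = x.comp (Ext.mk₀ (α.act a)) (add_zero n) := rfl

/-- Ext groups into an object with action are modules. -/
@[instance_reducible]
noncomputable def module : Module R (Ext.{w} Z F n) where
  smul a x := α.extEnd Z n a x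
  one_smul x := by
    change α.extEnd Z n 1 x = x
    rw [extEnd_apply, α.act_one, Ext.comp_mk₀_id]
  mul_smul a b x := by
    change α.extEnd Z n (a * b) x = α.extEnd Z n a (α.extEnd Z n b x)
    rw [extEnd_apply, extEnd_apply, extEnd_apply, α.act_mul,
      Ext.comp_assoc _ _ _ (add_zero n) (add_zero 0) (by omega), Ext.mk₀_comp_mk₀]
  smul_zero a := map_zero (α.extEnd Z n a)
  smul_add a := map_add (α.extEnd Z n a)
  add_smul a b x := by
    change α.extEnd Z n (a + b) x = α.extEnd Z n a x + α.extEnd Z n b x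
    rw [extEnd_apply, extEnd_apply, extEnd_apply, α.act_add, Ext.mk₀_add, Ext.comp_add]
  zero_smul x := by
    change α.extEnd Z n 0 x = 0
    rw [extEnd_apply, α.act_zero, Ext.mk₀_zero, Ext.comp_zero]

omit [HasExt.{w} A] in
lemma endPow_act (g : R) (k : ℕ) : endPow (α.act g) k = α.act (g ^ k) := by
  induction k with
  | zero => rw [endPow, pow_zero, α.act_one]
  | succ k ih => rw [endPow, ih, pow_succ', α.act_mul]

lemma extEnd_pow (g : R) (k : ℕ) (x : Ext.{w} Z F n) :
    α.extEnd Z n (g ^ k) x = extPow (α.act g) Z n k x := by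
  rw [extPow_apply, endPow_act, extEnd_apply]

variable {Z} {Z' : A} (j : Z' ⟶ Z)

/-- A module isomorphic to Ext, mapped to Ext upstairs, is localized. -/
theorem isLocalizedModule {P : Type*} [AddCommGroup P] [Module R P] (e : P ≃+ Ext.{w} Z F n)
    (he : ∀ (a : R) (x : P), e (a • x) = α.extEnd Z n a (e x)) (g : R)
    (hK : ExtKer (α.act g) j n) (hS : ExtSurj (α.act g) j n)
    (hu : Function.Bijective (α.extEnd Z' n g)) (l : letI := α.module Z' n; P →ₗ[R] Ext.{w} Z' F n)
    (hl : ∀ x, (letI := α.module Z' n; l x) = (Ext.mk₀ j).comp (e x) (zero_add n)) :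
    letI := α.module Z' n; IsLocalizedModule (Submonoid.powers g) l := by
  let := α.module Z' n
  refine IsLocalizedModule.mk ?_ (fun y => ?_) (fun {a b} hab => ?_)
  · rintro ⟨_, k, rfl⟩
    change IsUnit (algebraMap R (Module.End R (Ext.{w} Z' F n)) (g ^ k))
    rw [map_pow]
    exact IsUnit.pow k ((Module.End.isUnit_iff _).2 hu)
  · obtain ⟨k, y₀, hy⟩ := hS y
    obtain ⟨x, rfl⟩ := e.surjective y₀
    refine ⟨⟨x, ⟨g ^ k, k, rfl⟩⟩, ?_⟩
    change α.extEnd Z' n (g ^ k) y = l x
    rw [hl, extEnd_pow, hy]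
  · obtain ⟨k, hk⟩ := hK (e a - e b) (by
      rw [ext_comp_sub, ← hl, ← hl, hab, sub_self])
    refine ⟨⟨g ^ k, k, rfl⟩, e.injective ?_⟩
    change e (g ^ k • a) = e (g ^ k • b)
    rw [map_sub, sub_eq_zero] at hk
    rw [he, he, extEnd_pow, extEnd_pow, hk]

/-- The linear map to Ext upstairs. -/
noncomputable def linTo {P : Type*} [AddCommGroup P] [Module R P] (e : P ≃+ Ext.{w} Z F n)
    (he : ∀ (a : R) (x : P), e (a • x) = α.extEnd Z n a (e x)) :
    letI := α.module Z' n; P →ₗ[R] Ext.{w} Z' F n :=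
  letI := α.module Z' n
  { toFun := fun x => (Ext.mk₀ j).comp (e x) (zero_add n)
    map_add' := fun x y => by rw [map_add, Ext.comp_add]
    map_smul' := fun a x => by
      rw [he, extEnd_apply, ← Ext.comp_assoc _ _ _ (zero_add n) (add_zero n) (by omega)]
      rfl }

/-- The localisation isomorphism, existence form. -/
theorem nonempty_localized {P : Type w} [AddCommGroup P] [Module R P] (e : P ≃+ Ext.{w} Z F n)
    (he : ∀ (a : R) (x : P), e (a • x) = α.extEnd Z n a (e x)) (g : R)
    (hK : ExtKer (α.act g) j n) (hS : ExtSurj (α.act g) j n)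
    (hu : Function.Bijective (α.extEnd Z' n g)) :
    Nonempty (Ext.{w} Z' F n ≃+ LocalizedModule (Submonoid.powers g) P) := by
  let := α.module Z' n
  have := α.isLocalizedModule n j e he g hK hS hu (α.linTo n j e he) (fun _ => rfl)
  exact ⟨(IsLocalizedModule.iso (Submonoid.powers g) (α.linTo n j e he)).toAddEquiv.symm⟩

end ObjAct

end Groth.Agent.Coh69
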