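import Groth.Agent.Coh69.ExtLoc
import Groth.Agent.Coh69.QcInd

universe u

open CategoryTheory Limits AlgebraicGeometry Opposite TopologicalSpace CategoryTheory.Abelian

namespace Groth.Agent.Coh69

variable {T : TopCat.{u}}

/-- The map of free sheaves of an inclusion of opens. -/
noncomputable abbrev fmap {W' W : Opens T} (h : W' ≤ W) :
    CohCx.freeSheaf (Opens.grothendieckTopology T) W' ⟶ CohCx.freeSheaf (Opens.grothendieckTopology T) W :=
  CohCx.freeSheafMap (Opens.grothendieckTopology T) (homOfLE h)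

lemma fmap_fmap {A B C : Opens T} (h : A ≤ B) (h' : B ≤ C) :
    fmap h ≫ fmap h' = fmap (h.trans h') :=
  (SiteCoh.freeSheafMap_comp (homOfLE h') (homOfLE h)).symm

/-- The map of Mayer-Vietoris sequences for smaller opens. -/
noncomputable def mvMap {U V U' V' : Opens T} (hU : U' ≤ U) (hV : V' ≤ V) :
    (Opens.mayerVietorisSquare U' V').shortComplex ⟶ (Opens.mayerVietorisSquare U V).shortComplex where
  τ₁ := fmap (inf_le_inf hU hV)
  τ₂ := biprod.map (fmap hU) (fmap hV)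
  τ₃ := fmap (sup_le_sup hU hV)
  comm₁₂ := by
    change fmap (inf_le_inf hU hV) ≫
        biprod.lift (fmap (inf_le_left : U ⊓ V ≤ U)) (-fmap (inf_le_right : U ⊓ V ≤ V)) =
      biprod.lift (fmap (inf_le_left : U' ⊓ V' ≤ U')) (-fmap (inf_le_right : U' ⊓ V' ≤ V')) ≫
        biprod.map (fmap hU) (fmap hV)
    apply biprod.hom_ext
    · simp only [Category.assoc, biprod.lift_fst, biprod.map_fst, biprod.lift_fst_assoc]
      rw [fmap_fmap, fmap_fmap]
    · simp only [Category.assoc, biprod.lift_snd, biprod.map_snd, biprod.lift_snd_assoc,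
        Preadditive.comp_neg, Preadditive.neg_comp]
      rw [fmap_fmap, fmap_fmap]
  comm₂₃ := by
    change biprod.map (fmap hU) (fmap hV) ≫
        biprod.desc (fmap (le_sup_left : U ≤ U ⊔ V)) (fmap (le_sup_right : V ≤ U ⊔ V)) =
      biprod.desc (fmap (le_sup_left : U' ≤ U' ⊔ V')) (fmap (le_sup_right : V' ≤ U' ⊔ V')) ≫
        fmap (sup_le_sup hU hV)
    apply biprod.hom_ext'
    · simp only [biprod.inl_map_assoc, biprod.inl_desc, biprod.inl_desc_assoc]
      rw [fmap_fmap, fmap_fmap]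
    · simp only [biprod.inr_map_assoc, biprod.inr_desc, biprod.inr_desc_assoc]
      rw [fmap_fmap, fmap_fmap]

variable {X : Scheme.{u}} (M : X.Modules) (g : Coh.Γtop X)

lemma smulAb_endPow (k : ℕ) : endPow (Coh.smulAb M g) k = Coh.smulAb M (g ^ k) := by
  induction k with
  | zero => rw [endPow, pow_zero, Coh.smulAb_one]
  | succ k ih => rw [endPow, ih, pow_succ', Coh.smulAb_mul]

lemma locPair_subsingleton {n : ℕ} {W' W : X.Opens} (h : W' ≤ W)
    (h1 : Subsingleton (HE (Coh.toAb M) n W)) (h2 : Subsingleton (HE (Coh.toAb M) n W')) :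
    (ExtKer (Coh.smulAb M g) (fmap (T := X.toTopCat) h) n ∧ ExtSurj (Coh.smulAb M g) (fmap (T := X.toTopCat) h) n) :=
  ⟨fun _ _ => ⟨0, h1.elim _ _⟩, fun _ => ⟨0, 0, h2.elim _ _⟩⟩

lemma hu0_fmap {W' W : X.Opens} (h : W' ≤ W) (s : Γ(M, W)) :
    (Ext.mk₀ (fmap (T := X.toTopCat) h)).comp ((he0Equiv (Coh.toAb M) W).symm s) (zero_add 0) =
      (he0Equiv (Coh.toAb M) W').symm (M.presheaf.map (homOfLE h).op s) :=
  mk₀_comp_he0Equiv_symm (Coh.toAb M) (homOfLE h) s

lemma hu0_extPow {W : X.Opens} (k : ℕ) (s : Γ(M, W)) :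
    extPow (Coh.smulAb M g) _ 0 k ((he0Equiv (Coh.toAb M) W).symm s) =
      (he0Equiv (Coh.toAb M) W).symm
        ((X.presheaf.map (homOfLE (le_top : W ≤ ⊤)).op (g : Γ(X, ⊤))) ^ k • s) := by
  rw [extPow_apply, smulAb_endPow]
  refine (he0Equiv_symm_comp_mk₀ (Coh.smulAb M (g ^ k)) W s).trans ?_
  congr 1
  exact congrArg (fun z : Γ(X, W) => z • s)
    (map_pow (X.presheaf.map (homOfLE (le_top : W ≤ ⊤)).op).hom g k)

lemma locPair_zero [M.IsQuasicoherent] {U : X.Opens} (hU : IsAffineOpen U) {W' : X.Opens}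
    (h : W' ≤ U) (e : W' = U ⊓ X.basicOpen (g : Γ(X, ⊤))) : (ExtKer (Coh.smulAb M g) (fmap (T := X.toTopCat) h) 0 ∧ ExtSurj (Coh.smulAb M g) (fmap (T := X.toTopCat) h) 0) := by
  let gU : Γ(X, U) := X.presheaf.map (homOfLE (le_top : U ≤ ⊤)).op g
  have e' : W' = X.basicOpen gU := e.trans (X.basicOpen_res g (homOfLE le_top).op).symm
  subst e'
  have hpow : ∀ {W : X.Opens} (hW : W ≤ U) (k : ℕ),
      X.presheaf.map (homOfLE hW).op gU ^ k =
        (X.presheaf.map (homOfLE (le_top : W ≤ ⊤)).op (g : Γ(X, ⊤))) ^ k := fun hW k => by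
    rw [show X.presheaf.map (homOfLE hW).op gU = _ from ring_map_map hW le_top g]
  refine ⟨fun y hy => ?_, fun x => ?_⟩
  · obtain ⟨t, rfl⟩ := (he0Equiv (Coh.toAb M) U).symm.surjective y
    rw [hu0_fmap M h t] at hy
    obtain ⟨k, hk⟩ := qcoh_exists_pow_smul_eq_zero hU gU t
      ((he0Equiv (Coh.toAb M) (X.basicOpen gU)).symm.injective
        (hy.trans (map_zero (he0Equiv (Coh.toAb M) (X.basicOpen gU)).symm).symm))
    exact ⟨k, ((hu0_extPow M g k t).trans (congrArg _ hk)).trans (map_zero _)⟩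
  · obtain ⟨s, rfl⟩ := (he0Equiv (Coh.toAb M) (X.basicOpen gU)).symm.surjective x
    obtain ⟨k, t, ht⟩ := qcoh_exists_pow_smul_eq_res hU gU s
    refine ⟨k, (he0Equiv (Coh.toAb M) U).symm t, ?_⟩
    refine (hu0_fmap M h t).trans (Eq.trans ?_ (hu0_extPow M g k s).symm)
    exact congrArg (he0Equiv (Coh.toAb M) (X.basicOpen gU)).symm
      (ht.trans (congrArg (fun z : Γ(X, X.basicOpen gU) => z • (show Γ(M, X.basicOpen gU) from s))
        (hpow (X.basicOpen_le gU) k)))

/-- Cohomology of quasi-coherent modules on basic opens is the localisation. -/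
theorem locPair_cohomology [M.IsQuasicoherent] [QuasiSeparatedSpace X] (U : X.Opens)
    (hU : IsCompact (U : Set X)) : ∀ (n : ℕ) (W' : X.Opens) (h : W' ≤ U),
      W' = U ⊓ X.basicOpen (g : Γ(X, ⊤)) → (ExtKer (Coh.smulAb M g) (fmap (T := X.toTopCat) h) n ∧ ExtSurj (Coh.smulAb M g) (fmap (T := X.toTopCat) h) n) := by
  refine qc_induction (fun U => ∀ (n : ℕ) (W' : X.Opens) (h : W' ≤ U),
    W' = U ⊓ X.basicOpen (g : Γ(X, ⊤)) → (ExtKer (Coh.smulAb M g) (fmap (T := X.toTopCat) h) n ∧ ExtSurj (Coh.smulAb M g) (fmap (T := X.toTopCat) h) n)) (fun U hU n W' h e => ?_) ?_ U hU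
  · cases n with
    | zero => exact locPair_zero M g hU h e
    | succ n =>
      refine locPair_subsingleton M g h (qcoh_subsingleton_HE M hU n) ?_
      rw [e, ← X.basicOpen_res (g : Γ(X, ⊤)) (homOfLE (le_top : U ≤ ⊤)).op]
      exact qcoh_subsingleton_HE M (hU.basicOpen _) n
  · intro U V _ _ hPU hPV hPI n W' h e
    let D := X.basicOpen (g : Γ(X, ⊤))
    have e' : W' = (U ⊓ D) ⊔ (V ⊓ D) := e.trans (inf_sup_right U V D)
    subst e'
    have hU' : U ⊓ D ≤ U := inf_le_left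
    have hV' : V ⊓ D ≤ V := inf_le_left
    let S' := Opens.mayerVietorisSquare (T := X.toTopCat) (U ⊓ D) (V ⊓ D)
    let S := Opens.mayerVietorisSquare (T := X.toTopCat) U V
    let u : S'.shortComplex ⟶ S.shortComplex := mvMap (T := X.toTopCat) hU' hV'
    have hI : ∀ m, (ExtKer (Coh.smulAb M g) (fmap (T := X.toTopCat) (inf_le_inf hU' hV')) m ∧ ExtSurj (Coh.smulAb M g) (fmap (T := X.toTopCat) (inf_le_inf hU' hV')) m) := fun m =>
      hPI m _ (inf_le_inf hU' hV') (by ac_rfl)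
    have h2 : ∀ m, ExtKer (Coh.smulAb M g) u.τ₂ m ∧ ExtSurj (Coh.smulAb M g) u.τ₂ m := fun m =>
      ⟨extKer_biprod _ _ _ (hPU m _ hU' rfl).1 (hPV m _ hV' rfl).1,
        extSurj_biprod _ _ _ (hPU m _ hU' rfl).2 (hPV m _ hV' rfl).2⟩
    cases n with
    | zero =>
      exact ⟨extKer_X₃_zero _ S.shortComplex_shortExact u (h2 0).1,
        extSurj_X₃_zero _ S'.shortComplex_shortExact S.shortComplex_shortExact u (h2 0).2 (hI 0).1⟩
    | succ n =>
      exact ⟨extKer_X₃ _ S'.shortComplex_shortExact S.shortComplex_shortExact u n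
          (h2 (n + 1)).1 (h2 n).2 (hI n).1,
        extSurj_X₃ _ S'.shortComplex_shortExact S.shortComplex_shortExact u n
          (h2 (n + 1)).2 (hI (n + 1)).1 (hI n).2⟩

end Groth.Agent.Coh69
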