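import Groth.Prelude.Def_ega3
import Groth.Agent.Coh69.EndModule
import Groth.Agent.Coh69.LocCohom
import Groth.Agent.Coh69.OpenSub

universe u

open CategoryTheory Limits AlgebraicGeometry Opposite TopologicalSpace CategoryTheory.Abelian

namespace Groth.Agent.Coh69

variable {X : Scheme.{u}} (M : X.Modules) (n : ℕ)

/-- The action of global functions on the underlying abelian sheaf. -/
noncomputable def smulAct : ObjAct Γ(X, ⊤) (Coh.toAb M) where
  act r := Coh.smulAb M r
  act_one := Coh.smulAb_one M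
  act_mul r s := Coh.smulAb_mul M r s
  act_add r s := Coh.smulAb_add M r s
  act_zero := Coh.smulAb_zero M

lemma hhEquiv_smul (r : Γ(X, ⊤)) (x : Coh.HH X M n) :
    hhEquiv M n (r • x) = (hhEquiv M n x).comp (Ext.mk₀ (Coh.smulAb M r)) (add_zero n) :=
  hTerminalEquiv_map (isTerminalTop (α := X.Opens)) (Coh.smulAb M r) n x

/-- The cohomology of a basic open is a localisation. -/
theorem nonempty_HE_basicOpen [M.IsQuasicoherent] [CompactSpace X] [QuasiSeparatedSpace X]
    (g : Γ(X, ⊤)) :
    Nonempty (HE (Coh.toAb M) n (X.basicOpen (g : Γ(X, ⊤))) ≃+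
      LocalizedModule (Submonoid.powers g) (Coh.HH X M n)) :=
  have h := locPair_cohomology M g ⊤ (by rw [Opens.coe_top]; exact isCompact_univ) n
    (X.basicOpen (g : Γ(X, ⊤))) le_top (top_inf_eq _).symm
  (smulAct M).nonempty_localized n _ (hhEquiv M n) (hhEquiv_smul M n) g h.1 h.2
    (bijective_smulAb_basicOpen M g n)

/-- The cohomology of a basic open, up to isomorphism, as a localisation. -/
theorem nonempty_hhon_basicOpen [M.IsQuasicoherent] [CompactSpace X] [QuasiSeparatedSpace X]
    (g : Γ(X, ⊤)) :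
    Nonempty (Coh.HHon X M (X.basicOpen (g : Γ(X, ⊤))) n ≃+
      LocalizedModule (Submonoid.powers g) (Coh.HH X M n)) := by
  obtain ⟨e⟩ := nonempty_hhon M (X.basicOpen (g : Γ(X, ⊤))) n
  obtain ⟨e'⟩ := nonempty_HE_basicOpen M n g
  exact ⟨e.trans e'⟩

end Groth.Agent.Coh69
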