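import Groth.Agent.Coh69.SheafifyLoc
import Groth.Agent.Coh69.LocModule
import Groth.Agent.TopCoh49.Rpush

universe u

open CategoryTheory Limits AlgebraicGeometry Opposite TopologicalSpace CategoryTheory.Abelian

namespace Groth.Agent.Coh69

/-- Basic opens in an affine scheme contained in a union of basic opens. -/
lemma affine_radical {S : Scheme.{u}} [IsAffine S] (a : Γ(S, ⊤)) {κ : Type u} (b : κ → Γ(S, ⊤))
    (h : S.basicOpen a ≤ ⨆ i, S.basicOpen (b i)) :
    ∃ N : ℕ, a ^ N ∈ Ideal.span (Set.range b) := by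
  change a ∈ (Ideal.span (Set.range b)).radical
  rw [Ideal.radical_eq_sInf, Submodule.mem_sInf]
  rintro p ⟨hp, hprime⟩
  obtain ⟨x, hx⟩ := S.toSpecΓ.homeomorph.surjective ⟨p, hprime⟩
  by_contra ha
  have hxa : x ∈ S.basicOpen a := by
    rw [← Scheme.toSpecΓ_preimage_basicOpen]
    change S.toSpecΓ x ∈ PrimeSpectrum.basicOpen a
    exact hx ▸ ha
  obtain ⟨i, hi⟩ := Opens.mem_iSup.1 (h hxa)
  rw [← Scheme.toSpecΓ_preimage_basicOpen] at hi
  change S.toSpecΓ x ∈ PrimeSpectrum.basicOpen (b i) at hi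
  exact (hx ▸ hi) (hp (Ideal.subset_span ⟨i, rfl⟩))

variable {X S : Scheme.{u}} (f : X ⟶ S) (M : X.Modules) (q : ℕ)

/-- Functions on the base acting on a module upstairs. -/
noncomputable def pushAct : ObjAct Γ(S, ⊤) (Coh.toAb M) where
  act a := Coh.smulAb M (f.appTop a)
  act_one := by rw [map_one]; exact Coh.smulAb_one M
  act_mul r s := by rw [map_mul]; exact Coh.smulAb_mul M _ _
  act_add r s := by rw [map_add]; exact Coh.smulAb_add M _ _
  act_zero := by rw [map_zero]; exact Coh.smulAb_zero M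

/-- The presheaf of cohomology of preimages. -/
noncomputable abbrev cohPre : (Opens S)ᵒᵖ ⥤ AddCommGrpCat.{u} :=
  TopCoh49.hPre f.base (Coh.toAb M) q

/-- The module structure on cohomology of preimages. -/
@[instance_reducible]
noncomputable def cohPreModule (V : S.Opens) : Module Γ(S, ⊤) ((cohPre f M q).obj (op V)) :=
  (pushAct f M).module _ q

attribute [local instance] cohPreModule

lemma cohPre_resLinear : ResLinear (cohPre f M q) Γ(S, ⊤) := fun _ _ _ _ s =>
  (Ext.comp_assoc _ s _ (zero_add q) (add_zero q) (by omega)).symm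

lemma cohPre_pow_smul (V : S.Opens) (a : Γ(S, ⊤)) (k : ℕ) (s : (cohPre f M q).obj (op V)) :
    a ^ k • s = extPow (Coh.smulAb M (f.appTop a)) _ q k s :=
  (pushAct f M).extEnd_pow _ q a k s

/-- Cohomology of preimages of basic opens are localisations. -/
theorem cohPre_basisLoc [QuasiCompact f] [QuasiSeparated f] [IsAffine S] [M.IsQuasicoherent] :
    BasisLoc (cohPre f M q) (fun a : Γ(S, ⊤) => S.basicOpen a) := by
  have : CompactSpace X := QuasiCompact.compactSpace_of_compactSpace f
  have : QuasiSeparatedSpace X := quasiSeparatedSpace_of_quasiSeparated f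
  have e : ∀ a, f ⁻¹ᵁ S.basicOpen a = X.basicOpen (f.appTop a) := fun a =>
    Scheme.preimage_basicOpen_top f a
  have h1 : f ⁻¹ᵁ S.basicOpen (1 : Γ(S, ⊤)) = ⊤ := by
    rw [Scheme.basicOpen_of_isUnit _ isUnit_one]; rfl
  have hloc : ∀ a (h : S.basicOpen a ≤ S.basicOpen (1 : Γ(S, ⊤))),
      ExtKer (Coh.smulAb M (f.appTop a))
        (fmap (T := X.toTopCat) (f.preimage_mono h)) q ∧
      ExtSurj (Coh.smulAb M (f.appTop a))
        (fmap (T := X.toTopCat) (f.preimage_mono h)) q := fun a h =>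
    locPair_cohomology M (f.appTop a) _ (by rw [h1, Opens.coe_top]; exact isCompact_univ) q _
      (f.preimage_mono h) (by rw [h1, e, top_inf_eq])
  have hbij : ∀ a, Function.Bijective (fun x : (cohPre f M q).obj (op (S.basicOpen a)) => a • x) :=
    fun a => by
      have h := bijective_smulAb_basicOpen M (f.appTop a) q
      rw [← e a] at h
      exact h
  refine ⟨fun a b h c s => cohPre_resLinear f M q _ _ h c s, fun U x hx _ => ?_,
    fun a b => Scheme.basicOpen_mul _ _ _, fun a => ((isAffineOpen_top S).basicOpen a).isCompact,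
    fun a _ _ b h => affine_radical a b h, fun a h t ht => ?_, fun a h s => ?_,
    fun a s hs => (hbij a).1 (hs.trans (smul_zero a).symm), fun a s => (hbij a).2 s⟩
  · obtain ⟨a, ha, hxa⟩ := (isAffineOpen_top S).exists_basicOpen_le (V := U) ⟨x, hx⟩ trivial
    exact ⟨a, hxa, ha⟩
  · obtain ⟨k, hk⟩ := (hloc a h).1 t ht
    exact ⟨k, (cohPre_pow_smul f M q _ a k t).trans hk⟩
  · obtain ⟨k, y, hy⟩ := (hloc a h).2 s
    exact ⟨k, y, hy.trans (cohPre_pow_smul f M q _ a k s).symm⟩

/-- Cohomology as global sections of the higher direct image to an affine base. -/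
theorem nonempty_hh_rpushAb_sections [QuasiCompact f] [QuasiSeparated f] [IsAffine S]
    [M.IsQuasicoherent] :
    Nonempty (Coh.HH X M q ≃+ ((Coh.RpushAb f q).obj (Coh.toAb M)).obj.obj (op (⊤ : S.Opens))) := by
  have h := (cohPre_basisLoc f M q).toSheafify_bijective 1
  rw [show S.basicOpen (1 : Γ(S, ⊤)) = ⊤ from Scheme.basicOpen_of_isUnit _ isUnit_one] at h
  let e₁ : Coh.HH X M q ≃+ (cohPre f M q).obj (op (⊤ : S.Opens)) := hhEquiv M q
  let e₂ := (((sheafToPresheaf _ _).mapIso (TopCoh49.RpushIso f.base (Coh.toAb M) q)).app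
    (op (⊤ : S.Opens))).addCommGroupIsoToAddEquiv
  exact ⟨(e₁.trans (AddEquiv.ofBijective _ h)).trans e₂.symm⟩

end Groth.Agent.Coh69
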