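import Groth.Agent.Coh69.Cech
import Mathlib.RingTheory.Ideal.Operations
import Mathlib.RingTheory.Ideal.Span

universe u

open CategoryTheory Limits TopologicalSpace Opposite

namespace Groth.Agent.Coh69

variable {X : TopCat.{u}} {ι : Type u} (U : ι → Opens X)
variable (P : (Opens X)ᵒᵖ ⥤ AddCommGrpCat.{u})
variable {A : Type u} [CommRing A] [∀ V : Opens X, Module A (P.obj (op V))]

lemma exists_pow_combination {κ : Type*} [Fintype κ] (f : κ → A)
    (hf : Ideal.span (Set.range f) = ⊤) (N : ℕ) : ∃ a : κ → A, ∑ k, a k * f k ^ N = 1 := by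
  have h := Ideal.span_pow_eq_top _ hf N
  rw [← Set.range_comp] at h
  exact Ideal.mem_span_range_iff_exists_fun.1 (h ▸ Submodule.mem_top)

variable (A) in
/-- The restriction maps commute with scalars. -/
def ResLinear : Prop :=
  ∀ (V W : Opens X) (h : V ≤ W) (a : A) (s : P.obj (op W)), res P h (a • s) = a • res P h s

lemma cd_smul (hlin : ResLinear P A) (n : ℕ) (a : A) (s : Cochain U P n) :
    cd U P n (a • s) = a • cd U P n s := by
  funext i
  rw [Pi.smul_apply, cd_apply, cd_apply, Finset.smul_sum]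
  refine Finset.sum_congr rfl fun j _ => ?_
  rw [Pi.smul_apply, hlin, smul_comm]

/-- Cech acyclicity of a finite family from two localization properties of the restrictions. -/
lemma cechAcyclic_of_localizing [Finite ι] (hlin : ResLinear P A) (f : ι → A)
    (hf : Ideal.span (Set.range f) = ⊤)
    (hsurj : ∀ (k : ι) {m : ℕ} (i : Fin (m + 1) → ι)
      (s : P.obj (op (cOpen U (Fin.cons k i : Fin (m + 2) → ι)))),
      ∃ (N : ℕ) (t : P.obj (op (cOpen U i))), res P (cOpen_cons_le U k i) t = f k ^ N • s)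
    (hker : ∀ (k : ι) {m : ℕ} (i : Fin (m + 1) → ι) (t : P.obj (op (cOpen U i))),
      res P (cOpen_cons_le U k i) t = 0 → ∃ N : ℕ, f k ^ N • t = 0) :
    CechAcyclic U P := by
  classical
  have := Fintype.ofFinite ι
  intro n s hs
  choose N t ht using fun (q : ι × (Fin (n + 1) → ι)) => hsurj q.1 q.2 (s (Fin.cons q.1 q.2))
  obtain ⟨N₀, hN⟩ := (Finite.bddAbove_range N)
  replace hN : ∀ q, N q ≤ N₀ := fun q => hN (Set.mem_range_self q)
  let tk : ι → Cochain U P n := fun k i => f k ^ (N₀ - N (k, i)) • t (k, i)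
  have htk : ∀ k (i : Fin (n + 1) → ι),
      res P (cOpen_cons_le U k i) (tk k i) = f k ^ N₀ • s (Fin.cons k i) := fun k i => by
    simp only [tk]
    rw [hlin, ht (k, i), ← mul_smul, ← pow_add, Nat.sub_add_cancel (hN _)]
  have he : ∀ k (i : Fin (n + 2) → ι), res P (cOpen_cons_le U k i)
      (f k ^ N₀ • s i - cd U P n (tk k) i) = 0 := fun k i => by
    rw [map_sub, hlin, cd_apply, map_sum]
    have h := congrFun hs (Fin.cons k i)
    rw [cd_apply, Fin.sum_univ_succ] at h
    simp only [Fin.val_zero, pow_zero, one_smul] at h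
    have h0 : res P (cOpen_comp_le U (Fin.cons k i : Fin (n + 3) → ι) (0 : Fin (n + 3)).succAbove)
        (s ((Fin.cons k i : Fin (n + 3) → ι) ∘ (0 : Fin (n + 3)).succAbove)) =
        res P (cOpen_cons_le U k i) (s i) :=
      cochain_congr U P s (funext fun j => by simp) _
    have hj : ∀ j : Fin (n + 2), res P (cOpen_cons_le U k i)
        ((-1 : ℤ) ^ (j : ℕ) • res P (cOpen_comp_le U i j.succAbove) (tk k (i ∘ j.succAbove))) =
        -(f k ^ N₀ • ((-1 : ℤ) ^ ((j.succ : Fin (n + 3)) : ℕ) •
          res P (cOpen_comp_le U (Fin.cons k i : Fin (n + 3) → ι) j.succ.succAbove)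
            (s ((Fin.cons k i : Fin (n + 3) → ι) ∘ j.succ.succAbove)))) := fun j => by
      have e : (Fin.cons k (i ∘ j.succAbove) : Fin (n + 2) → ι) =
          (Fin.cons k i : Fin (n + 3) → ι) ∘ j.succ.succAbove := by
        funext l
        induction l using Fin.cases with
        | zero => simp
        | succ l => simp
      have hle : cOpen U (Fin.cons k i : Fin (n + 3) → ι) ≤
          cOpen U (Fin.cons k (i ∘ j.succAbove) : Fin (n + 2) → ι) := by
        rw [e]; exact cOpen_comp_le U _ _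
      rw [map_zsmul, res_res,
        ← res_res P hle (cOpen_cons_le U k (i ∘ j.succAbove)) (tk k (i ∘ j.succAbove)),
        htk, hlin, cochain_congr U P s e hle, Fin.val_succ, pow_succ, mul_neg, mul_one,
        neg_smul, smul_neg, neg_neg, smul_comm]
    rw [Finset.sum_congr rfl fun j _ => hj j, Finset.sum_neg_distrib, sub_neg_eq_add,
      ← Finset.smul_sum, ← h0, ← smul_add]
    erw [h]
    exact smul_zero _
  choose M hM using fun (q : ι × (Fin (n + 2) → ι)) => hker q.1 q.2 _ (he q.1 q.2)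
  obtain ⟨M₀, hM₀⟩ := (Finite.bddAbove_range M)
  replace hM₀ : ∀ q, M q ≤ M₀ := fun q => hM₀ (Set.mem_range_self q)
  have hz : ∀ k (i : Fin (n + 2) → ι),
      f k ^ (M₀ + N₀) • s i = f k ^ M₀ • cd U P n (tk k) i := fun k i => by
    rw [pow_add, mul_smul, ← sub_eq_zero, ← smul_sub, ← Nat.sub_add_cancel (hM₀ (k, i)),
      pow_add, mul_smul, hM (k, i), smul_zero]
  obtain ⟨a, ha⟩ := exists_pow_combination f hf (M₀ + N₀)
  refine ⟨∑ k, (a k * f k ^ M₀) • tk k, ?_⟩
  funext i
  rw [map_sum, Finset.sum_apply]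
  simp only [cd_smul U P hlin, Pi.smul_apply, mul_smul, ← hz]
  simp only [← mul_smul, ← Finset.sum_smul, ha, one_smul]

end Groth.Agent.Coh69
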