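import Mathlib.Topology.Sheaves.AddCommGrpCat
import Mathlib.CategoryTheory.Sites.LocallySurjective
import Mathlib.RingTheory.Ideal.Operations
import Mathlib.RingTheory.Ideal.Span
import Groth.Agent.Coh69.CechAcyclic
import Groth.Agent.Coh69.CechLoc

universe u

open CategoryTheory Limits TopologicalSpace Opposite

namespace Groth.Agent.Coh69

variable {X : TopCat.{u}} (P : (Opens X)ᵒᵖ ⥤ AddCommGrpCat.{u})
  {A : Type u} [CommRing A] (D : A → Opens X) [∀ a : A, Module A (P.obj (op (D a)))]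

/-- Sections over the basis `D` are localisations of global sections. -/
structure BasisLoc : Prop where
  lin : ∀ (a b : A) (h : D b ≤ D a) (c : A) (s : P.obj (op (D a))),
    res P h (c • s) = c • res P h s
  basis : ∀ (U : Opens X) (x : X), x ∈ U → x ∈ D 1 → ∃ a, x ∈ D a ∧ D a ≤ U
  mul : ∀ a b, D (a * b) = D a ⊓ D b
  compact : ∀ a, IsCompact (D a : Set X)
  radical : ∀ (a : A) {κ : Type u} [Finite κ] (b : κ → A), D a ≤ ⨆ i, D (b i) →
    ∃ N : ℕ, a ^ N ∈ Ideal.span (Set.range b)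
  ker : ∀ (a : A) (h : D a ≤ D 1) (t : P.obj (op (D 1))),
    res P h t = 0 → ∃ N : ℕ, a ^ N • t = 0
  surj : ∀ (a : A) (h : D a ≤ D 1) (s : P.obj (op (D a))),
    ∃ (N : ℕ) (t : P.obj (op (D 1))), res P h t = a ^ N • s
  inj : ∀ (a : A) (s : P.obj (op (D a))), a • s = 0 → s = 0
  div : ∀ (a : A) (s : P.obj (op (D a))), ∃ s', a • s' = s

variable {P D} (h : BasisLoc P D)
include h

lemma BasisLoc.le_one (a : A) : D a ≤ D 1 :=
  le_trans (by rw [← h.mul, mul_one]) inf_le_right

lemma BasisLoc.inj_pow (a : A) : ∀ (N : ℕ) (s : P.obj (op (D a))), a ^ N • s = 0 → s = 0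
  | 0, s, hs => by rwa [pow_zero, one_smul] at hs
  | N + 1, s, hs => by
    rw [pow_succ', mul_smul] at hs
    exact BasisLoc.inj_pow a N s (h.inj a _ hs)

lemma BasisLoc.divisible (a : A) : ∀ (N : ℕ) (s : P.obj (op (D a))), ∃ s', a ^ N • s' = s
  | 0, s => ⟨s, by rw [pow_zero, one_smul]⟩
  | N + 1, s => by
    obtain ⟨s₁, h₁⟩ := BasisLoc.divisible a N s
    obtain ⟨s₂, h₂⟩ := h.div a s₁
    exact ⟨s₂, by rw [pow_succ, mul_smul, h₂, h₁]⟩

lemma BasisLoc.kerLe {a b : A} (hba : D b ≤ D a) (t : P.obj (op (D a))) (ht : res P hba t = 0) :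
    ∃ N : ℕ, b ^ N • t = 0 := by
  obtain ⟨k, t₀, h₀⟩ := h.surj a (h.le_one a) t
  obtain ⟨m, hm⟩ := h.ker b (h.le_one b) t₀ (by
    rw [← res_res P hba (h.le_one a), h₀, h.lin, ht, smul_zero])
  refine ⟨m, h.inj_pow a k _ ?_⟩
  rw [smul_comm, ← h₀, ← h.lin, hm, map_zero]

lemma BasisLoc.surjLe {a b : A} (hba : D b ≤ D a) (s : P.obj (op (D b))) :
    ∃ (N : ℕ) (t : P.obj (op (D a))), res P hba t = b ^ N • s := by
  obtain ⟨k, t₀, h₀⟩ := h.surj b (h.le_one b) s
  exact ⟨k, res P (h.le_one a) t₀, (res_res P hba (h.le_one a) t₀).trans h₀⟩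

/-- The basic opens inside an open form finitely many for a basic open. -/
lemma BasisLoc.exists_cover (a : A) (p : A → Prop)
    (hp : ∀ x ∈ D a, ∃ b, x ∈ D b ∧ D b ≤ D a ∧ p b) :
    ∃ (κ : Type u) (_ : Finite κ) (b : κ → A), (∀ i, D (b i) ≤ D a ∧ p (b i)) ∧
      D a ≤ ⨆ i, D (b i) ∧ ∃ N : ℕ, a ^ N ∈ Ideal.span (Set.range b) := by
  choose g hxg hga hpg using fun x : {x : X // x ∈ D a} => hp x x.2
  obtain ⟨s, hs⟩ := (h.compact a).elim_finite_subcover (fun x => (D (g x) : Set X))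
    (fun x => (D (g x)).2) (fun x hx => Set.mem_iUnion.2 ⟨⟨x, hx⟩, hxg ⟨x, hx⟩⟩)
  have hcov : D a ≤ ⨆ i : s, D (g i) := fun x hx => ?_
  · exact ⟨s, inferInstance, fun i => g i, fun i => ⟨hga _, hpg _⟩, hcov, h.radical a _ hcov⟩
  obtain ⟨y, hy, hxy⟩ := Set.mem_iUnion₂.1 (hs hx)
  exact Opens.mem_iSup.2 ⟨⟨y, hy⟩, hxy⟩

/-- Locally zero sections over basic opens vanish. -/
theorem BasisLoc.separated (a : A) (t : P.obj (op (D a)))
    (ht : ∀ x ∈ D a, ∃ (V : Opens X) (hV : V ≤ D a), x ∈ V ∧ res P hV t = 0) : t = 0 := by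
  obtain ⟨κ, _, b, hb, -, N, hN⟩ := h.exists_cover a (fun b => ∃ m : ℕ, b ^ m • t = 0) fun x hx => by
    obtain ⟨V, hV, hxV, h0⟩ := ht x hx
    obtain ⟨b, hxb, hbV⟩ := h.basis V x hxV (h.le_one a (by assumption))
    exact ⟨b, hxb, hbV.trans hV, h.kerLe (hbV.trans hV) t (by
      rw [← res_res P hbV hV, h0, map_zero])⟩
  have := Fintype.ofFinite κ
  choose m hm using fun i => (hb i).2
  let M := Finset.univ.sup m
  have hM : ∀ i, b i ^ M • t = 0 := fun i => by
    have e : M - m i + m i = M := Nat.sub_add_cancel (Finset.le_sup (f := m) (Finset.mem_univ i))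
    rw [← e, pow_add, mul_smul, hm, smul_zero]
  obtain ⟨R, hR⟩ : a ∈ (Ideal.span (Set.range fun i => b i ^ M)).radical := by
    have hle : Ideal.span (Set.range b) ≤ (Ideal.span (Set.range fun i => b i ^ M)).radical :=
      Ideal.span_le.2 (by
        rintro _ ⟨i, rfl⟩
        exact ⟨M, Ideal.subset_span ⟨i, rfl⟩⟩)
    exact (Ideal.radical_idem _).le ⟨N, hle hN⟩
  obtain ⟨c, hc⟩ := Ideal.mem_span_range_iff_exists_fun.1 hR
  refine h.inj_pow a R t ?_
  rw [← hc, Finset.sum_smul]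
  exact Finset.sum_eq_zero fun i _ => by rw [mul_smul, hM, smul_zero]

/-- Compatible sections on basic opens glue. -/
theorem BasisLoc.glue (a : A) {κ : Type u} [Finite κ] (b : κ → A) (hb : ∀ i, D (b i) ≤ D a) {R : ℕ}
    (hR : a ^ R ∈ Ideal.span (Set.range b)) (s : ∀ i, P.obj (op (D (b i))))
    (hs : ∀ i j, res P (inf_le_left : D (b i) ⊓ D (b j) ≤ D (b i)) (s i) =
      res P (inf_le_right : D (b i) ⊓ D (b j) ≤ D (b j)) (s j)) :
    ∃ t, ∀ i, res P (hb i) t = s i := by
  classical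
  have := Fintype.ofFinite κ
  choose N t ht using fun i => h.surjLe (hb i) (s i)
  let N₀ := Finset.univ.sup N
  obtain ⟨T, hT⟩ : ∃ T : κ → P.obj (op (D a)), ∀ i, res P (hb i) (T i) = b i ^ N₀ • s i :=
    ⟨fun i => b i ^ (N₀ - N i) • t i, fun i => by
      have e : N₀ - N i + N i = N₀ := Nat.sub_add_cancel (Finset.le_sup (f := N) (Finset.mem_univ i))
      rw [h.lin, ht, ← mul_smul, ← pow_add, e]⟩
  have hd : ∀ i j, ∃ m : ℕ, (b i * b j) ^ m • (b j ^ N₀ • T i - b i ^ N₀ • T j) = 0 := fun i j => by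
    have hle : D (b i * b j) ≤ D a := by rw [h.mul]; exact inf_le_left.trans (hb i)
    refine h.kerLe hle _ ?_
    have hle' : D (b i * b j) ≤ D (b i) ⊓ D (b j) := (h.mul _ _).le
    rw [map_sub, h.lin, h.lin, ← res_res P (hle'.trans inf_le_left) (hb i) (T i), hT,
      ← res_res P (hle'.trans inf_le_right) (hb j) (T j), hT, h.lin, h.lin,
      ← res_res P hle' (inf_le_left : D (b i) ⊓ D (b j) ≤ D (b i)) (s i), hs,
      res_res P hle' (inf_le_right : D (b i) ⊓ D (b j) ≤ D (b j)) (s j), smul_comm, sub_self]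
  choose m hm using hd
  let M := Finset.univ.sup fun p : κ × κ => m p.1 p.2
  have hM : ∀ i j, b j ^ (M + N₀) • b i ^ M • T i = b i ^ (M + N₀) • b j ^ M • T j := fun i j => by
    have e : (b i * b j) ^ M • (b j ^ N₀ • T i - b i ^ N₀ • T j) = 0 := by
      have e' : M - m i j + m i j = M :=
        Nat.sub_add_cancel (Finset.le_sup (f := fun p : κ × κ => m p.1 p.2) (Finset.mem_univ (i, j)))
      rw [← e', pow_add, mul_smul, hm, smul_zero]
    rw [smul_sub, sub_eq_zero, ← mul_smul, ← mul_smul] at e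
    rw [← mul_smul, ← mul_smul, show b j ^ (M + N₀) * b i ^ M = (b i * b j) ^ M * b j ^ N₀ by ring,
      show b i ^ (M + N₀) * b j ^ M = (b i * b j) ^ M * b i ^ N₀ by ring]
    exact e
  obtain ⟨L, hL⟩ : a ∈ (Ideal.span (Set.range fun i => b i ^ (M + N₀))).radical := by
    have hle : Ideal.span (Set.range b) ≤
        (Ideal.span (Set.range fun i => b i ^ (M + N₀))).radical :=
      Ideal.span_le.2 (by
        rintro _ ⟨i, rfl⟩
        exact ⟨M + N₀, Ideal.subset_span ⟨i, rfl⟩⟩)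
    exact (Ideal.radical_idem _).le ⟨R, hle hR⟩
  obtain ⟨c, hc⟩ := Ideal.mem_span_range_iff_exists_fun.1 hL
  have key : ∀ j, b j ^ (M + N₀) • (∑ i, c i • b i ^ M • T i) = a ^ L • b j ^ M • T j := fun j => by
    rw [← hc, Finset.smul_sum, Finset.sum_smul]
    refine Finset.sum_congr rfl fun i _ => ?_
    rw [smul_comm, hM, mul_smul]
  obtain ⟨t', ht'⟩ := h.divisible a L (∑ i, c i • b i ^ M • T i)
  refine ⟨t', fun j => ?_⟩
  refine sub_eq_zero.1 (h.inj_pow (b j) (M + N₀) _ ?_)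
  rw [smul_sub, ← h.lin, sub_eq_zero]
  have e := key j
  rw [← ht', smul_comm] at e
  have e' : b j ^ (M + N₀) • t' = b j ^ M • T j := by
    refine sub_eq_zero.1 (h.inj_pow a L _ ?_)
    rw [smul_sub, sub_eq_zero]
    exact e
  rw [e', h.lin, hT, ← mul_smul, ← pow_add]

/-- A locally bijective map to a sheaf is bijective on the basis. -/
theorem BasisLoc.bijective_app (G : Sheaf (Opens.grothendieckTopology X) AddCommGrpCat.{u})
    (η : P ⟶ G.obj) [Presheaf.IsLocallyInjective (Opens.grothendieckTopology X) η]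
    [Presheaf.IsLocallySurjective (Opens.grothendieckTopology X) η] (a : A) :
    Function.Bijective (η.app (op (D a))) := by
  have hη : ∀ {U V : Opens X} (hV : V ≤ U) (s : P.obj (op U)),
      η.app (op V) (res P hV s) = res _ hV (η.app (op U) s) := fun hV s =>
    ConcreteCategory.congr_hom (η.naturality (homOfLE hV).op) s
  have inj : ∀ (b : A) (t : P.obj (op (D b))), η.app (op (D b)) t = 0 → t = 0 := fun b t ht =>
    h.separated b t fun x hx => by
      obtain ⟨V, i, hi, hxV⟩ := Presheaf.equalizerSieve_mem (Opens.grothendieckTopology X) η t 0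
        (ht.trans (map_zero (η.app (op (D b))).hom).symm) x hx
      exact ⟨V, leOfHom i, hxV, hi.trans (map_zero _)⟩
  refine ⟨fun s t hst => sub_eq_zero.1 (inj a _ ?_), fun t => ?_⟩
  · rw [map_sub, sub_eq_zero]
    exact hst
  obtain ⟨κ, _, b, hb, hcov, R, hR⟩ := h.exists_cover a
    (fun b => ∃ (hba : D b ≤ D a) (s : P.obj (op (D b))), η.app (op (D b)) s = res _ hba t)
    fun x hx => by
      obtain ⟨V, i, ⟨s, hs⟩, hxV⟩ := Presheaf.imageSieve_mem (Opens.grothendieckTopology X) η t x hx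
      obtain ⟨b, hxb, hbV⟩ := h.basis V x hxV (h.le_one a hx)
      refine ⟨b, hxb, hbV.trans (leOfHom i), hbV.trans (leOfHom i), res P hbV s, ?_⟩
      rw [hη, show η.app (op V) s = res _ (leOfHom i) t from hs, res_res]
  choose hba s hs using fun i => (hb i).2
  obtain ⟨t', ht'⟩ := h.glue a b hba hR s fun i j => by
    have hle : D (b i * b j) ≤ D (b i) ⊓ D (b j) := (h.mul _ _).le
    have hge : D (b i) ⊓ D (b j) ≤ D (b i * b j) := (h.mul _ _).ge
    have key : res P (hle.trans inf_le_left) (s i) = res P (hle.trans inf_le_right) (s j) := by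
      refine sub_eq_zero.1 (inj _ _ ?_)
      rw [map_sub, hη, hη, hs, hs, res_res, res_res, sub_self]
    have key' := congrArg (res P hge) key
    rwa [res_res, res_res] at key'
  refine ⟨t', ?_⟩
  refine sheaf_ext G (fun i => D (b i)) hcov hba (η.app (op (D a)) t') t fun i => ?_
  change res _ (hba i) (η.app (op (D a)) t') = _
  rw [← hη, ht', hs]

/-- On the basis, the presheaf already agrees with its sheafification. -/
theorem BasisLoc.toSheafify_bijective (a : A) :
    Function.Bijective ((toSheafify (Opens.grothendieckTopology X) P).app (op (D a))) :=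
  have : Presheaf.IsLocallyInjective (Opens.grothendieckTopology X)
    (toSheafify (Opens.grothendieckTopology X) P) := inferInstance
  have : Presheaf.IsLocallySurjective (Opens.grothendieckTopology X)
    (toSheafify (Opens.grothendieckTopology X) P) := inferInstance
  h.bijective_app ((presheafToSheaf _ AddCommGrpCat.{u}).obj P) (toSheafify _ P) a

end Groth.Agent.Coh69
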