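import Groth.Agent.Coh69.ExtShift

universe w v u

open CategoryTheory Limits CategoryTheory.Abelian

namespace Groth.Agent.Coh69

variable {A : Type u} [Category.{v} A] [Abelian A]

variable (A) in
/-- A resolution, cut into short exact sequences `0 → Z j → I j → Z (j+1) → 0`. -/
structure Cosyz where
  Z : ℕ → A
  I : ℕ → A
  ι : ∀ j, Z j ⟶ I j
  π : ∀ j, I j ⟶ Z (j + 1)
  w : ∀ j, ι j ≫ π j = 0
  shortExact : ∀ j, (ShortComplex.mk (ι j) (π j) (w j)).ShortExact

namespace Cosyz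

variable [HasExt.{w} A]

variable (R : Cosyz A)

/-- The short exact sequence in degree `j`. -/
abbrev S (j : ℕ) : ShortComplex A := ShortComplex.mk (R.ι j) (R.π j) (R.w j)

/-- The iterated extension class. -/
noncomputable def cls : ∀ p, Ext.{w} (R.Z p) (R.Z 0) p
  | 0 => Ext.mk₀ (𝟙 (R.Z 0))
  | p + 1 => (R.shortExact p).extClass.comp (cls p) (add_comm 1 p)

/-- The class of a cocycle. -/
noncomputable def toExt (T : A) (p : ℕ) : (T ⟶ R.Z p) →+ Ext.{w} T (R.Z 0) p where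
  toFun s := (Ext.mk₀ s).comp (R.cls p) (zero_add p)
  map_zero' := by simp
  map_add' s t := by simp [Ext.mk₀_add]

lemma toExt_precomp {T T' : A} (j : T' ⟶ T) (p : ℕ) (s : T ⟶ R.Z p) :
    (Ext.mk₀ j).comp (R.toExt T p s) (zero_add p) = R.toExt T' p (j ≫ s) :=
  Ext.mk₀_comp_mk₀_assoc j s (R.cls p)

lemma toExt_succ (T : A) (p : ℕ) (s : T ⟶ R.Z (p + 1)) :
    R.toExt T (p + 1) s =
      (extDelta (R.shortExact p) T s).comp (R.cls p) (add_comm 1 p) :=
  (Ext.comp_assoc _ _ _ (zero_add 1) (add_comm 1 p) (by omega)).symm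

/-- An endomorphism of the resolution. -/
structure EndR where
  φ : ∀ j, R.Z j ⟶ R.Z j
  ψ : ∀ j, R.I j ⟶ R.I j
  ι_comm : ∀ j, R.ι j ≫ ψ j = φ j ≫ R.ι j
  π_comm : ∀ j, R.π j ≫ φ (j + 1) = ψ j ≫ R.π j

/-- The map of short complexes of an endomorphism. -/
def EndR.hom (e : R.EndR) (j : ℕ) : R.S j ⟶ R.S j where
  τ₁ := e.φ j
  τ₂ := e.ψ j
  τ₃ := e.φ (j + 1)
  comm₁₂ := (e.ι_comm j).symm
  comm₂₃ := (e.π_comm j).symm

lemma cls_comp (e : R.EndR) : ∀ p,
    (Ext.mk₀ (e.φ p)).comp (R.cls p) (zero_add p) =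
      (R.cls p).comp (Ext.mk₀ (e.φ 0)) (add_zero p)
  | 0 => by simp [cls]
  | p + 1 => by
    have hn : (R.shortExact p).extClass.comp (Ext.mk₀ (e.φ p)) (add_zero 1) =
        (Ext.mk₀ (e.φ (p + 1))).comp (R.shortExact p).extClass (zero_add 1) :=
      (R.shortExact p).extClass_naturality (R.shortExact p) (e.hom R p)
    rw [cls, ← Ext.comp_assoc _ _ _ (zero_add 1) (add_comm 1 p) (by omega), ← hn,
      Ext.comp_assoc _ _ _ (add_zero 1) (zero_add p) (by omega), cls_comp e p,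
      Ext.comp_assoc _ _ _ (add_comm 1 p) (add_zero p) (by omega)]

lemma toExt_postcomp (e : R.EndR) (T : A) (p : ℕ) (s : T ⟶ R.Z p) :
    (R.toExt T p s).comp (Ext.mk₀ (e.φ 0)) (add_zero p) = R.toExt T p (s ≫ e.φ p) := by
  change ((Ext.mk₀ s).comp (R.cls p) (zero_add p)).comp _ _ =
    (Ext.mk₀ (s ≫ e.φ p)).comp (R.cls p) (zero_add p)
  rw [← Ext.mk₀_comp_mk₀, Ext.comp_assoc _ _ _ (zero_add p) (add_zero p) (by omega),
    Ext.comp_assoc _ _ _ (add_zero 0) (zero_add p) (by omega), cls_comp]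

variable (T : A) (hT : ∀ j k, Subsingleton (Ext.{w} T (R.I j) (k + 1)))
include hT

lemma cls_bijective : ∀ (p k n : ℕ) (h : k + 1 + p = n),
    Function.Bijective (fun x : Ext.{w} T (R.Z p) (k + 1) => x.comp (R.cls p) h)
  | 0, k, n, h => by
    obtain rfl : n = k + 1 := by omega
    simp only [cls, Ext.comp_mk₀_id]
    exact Function.bijective_id
  | p + 1, k, n, h => by
    have h1 := hT p k
    have h2 := hT p (k + 1)
    have e : (fun x : Ext.{w} T (R.Z (p + 1)) (k + 1) => x.comp (R.cls (p + 1)) h) =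
        (fun y : Ext.{w} T (R.Z p) (k + 2) => y.comp (R.cls p) (show k + 1 + 1 + p = n by omega)) ∘
          (fun x => x.comp (R.shortExact p).extClass rfl) := funext fun x =>
      (Ext.comp_assoc _ _ _ rfl (add_comm 1 p) (by omega)).symm
    rw [e]
    exact (cls_bijective p (k + 1) n (by omega)).comp
      (extShiftEquiv (R.shortExact p) T k).bijective

lemma toExt_eq_zero_iff (p : ℕ) (s : T ⟶ R.Z (p + 1)) :
    R.toExt T (p + 1) s = 0 ↔ ∃ t, t ≫ R.π p = s := by
  rw [toExt_succ, ← extDelta_eq_zero_iff.{w} (R.shortExact p) T s]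
  exact ⟨fun h => (R.cls_bijective T hT p 0 (p + 1) (by omega)).1 (by simpa using h),
    fun h => by rw [h, Ext.zero_comp]⟩

lemma toExt_surjective : ∀ p, Function.Surjective (R.toExt T p)
  | 0 => fun x => by
    obtain ⟨t, rfl⟩ := (Ext.mk₀_bijective T (R.Z 0)).2 x
    exact ⟨t, Ext.comp_mk₀_id _⟩
  | p + 1 => fun x => by
    have := hT p 0
    obtain ⟨y, hy⟩ := (R.cls_bijective T hT p 0 (p + 1) (by omega)).2 x
    obtain ⟨s, rfl⟩ := extDelta_surjective (R.shortExact p) T y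
    exact ⟨s, (R.toExt_succ T p s).trans hy⟩

end Cosyz

end Groth.Agent.Coh69
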