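import Groth.Agent.FlatMor68.ThickeningFT
import Groth.Agent.SchBasics.Reduced
import Groth.Agent.EGA73.ProperCrit
import Groth.Prelude.Def_ClSub2

set_option autoImplicit false
set_option backward.isDefEq.respectTransparency.types false

/-! Closed subsets proper over a base. -/

noncomputable section

universe u

open CategoryTheory CategoryTheory.Limits AlgebraicGeometry TopologicalSpace

namespace Groth.Agent.Coh69.PO

variable {X Y S : Scheme.{u}}

/-- Properness over the base only depends on the underlying set. -/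
theorem iff_of_range {f : X ⟶ S} [LocallyOfFiniteType f] {T : Scheme.{u}} (i : T ⟶ X)
    [IsClosedImmersion i] {Z : Set X} (hr : Set.range i = Z) :
    ClSub.IsProperOver f Z ↔ IsProper (i ≫ f) := by
  subst hr
  have hc : IsClosed (Set.range i) := i.isClosedEmbedding.isClosed_range
  let I := Scheme.IdealSheafData.vanishingIdeal (X := X) ⟨Set.range i, hc⟩
  have hrr : Set.range I.subschemeι = Set.range i := SchBasics.range_vanishingIdeal_subschemeι _
  have : IsReduced I.subscheme := SchBasics.isReduced_vanishingIdeal_subscheme _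
  let j := IsClosedImmersion.lift i I.subschemeι (SchBasics.ker_le_ker_of_range_subset _ i hrr.le)
  have hj : j ≫ i = I.subschemeι := IsClosedImmersion.lift_fac _ _ _
  have : IsClosedImmersion j := by
    have : IsClosedImmersion (j ≫ i) := by rw [hj]; infer_instance
    exact IsClosedImmersion.of_comp j i
  have : Surjective j := ⟨fun t => by
    obtain ⟨s, hs⟩ := hrr.ge ⟨t, rfl⟩
    refine ⟨s, i.isClosedEmbedding.injective ?_⟩
    rw [← Scheme.Hom.comp_apply, hj, hs]⟩
  constructor
  · rintro ⟨h', hp⟩
    have : IsProper (j ≫ i ≫ f) := by rw [reassoc_of% hj]; exact hp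
    have : UniversallyClosed (i ≫ f) := UniversallyClosed.of_comp_surjective j _
    have : IsSeparated (i ≫ f) := FlatMor68.ThickeningFT.isSeparated_of_comp_surjective j _
    exact { }
  · intro hp
    refine ⟨hc, ?_⟩
    show IsProper (I.subschemeι ≫ f)
    rw [← hj, Category.assoc]
    infer_instance

theorem exists_model {f : X ⟶ S} {Z : Set X} (h : ClSub.IsProperOver f Z) :
    ∃ (R : Scheme.{u}) (i : R ⟶ X), IsClosedImmersion i ∧ IsReduced R ∧ Set.range i = Z ∧
      IsProper (i ≫ f) := by
  obtain ⟨hc, hp⟩ := h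
  exact ⟨_, _, inferInstance, SchBasics.isReduced_vanishingIdeal_subscheme _,
    SchBasics.range_vanishingIdeal_subschemeι _, hp⟩

theorem mono {f : X ⟶ S} [LocallyOfFiniteType f] {Z Z' : Set X} (h : ClSub.IsProperOver f Z)
    (hc : IsClosed Z') (hsub : Z' ⊆ Z) : ClSub.IsProperOver f Z' := by
  obtain ⟨R, i, hi, -, hr, hp⟩ := exists_model h
  let I := Scheme.IdealSheafData.vanishingIdeal (X := X) ⟨Z', hc⟩
  have : IsReduced I.subscheme := SchBasics.isReduced_vanishingIdeal_subscheme _
  have hsub' : Set.range I.subschemeι ⊆ Set.range i := by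
    rw [SchBasics.range_vanishingIdeal_subschemeι, hr]; exact hsub
  let j := IsClosedImmersion.lift i I.subschemeι (SchBasics.ker_le_ker_of_range_subset _ i hsub')
  have hj : j ≫ i = I.subschemeι := IsClosedImmersion.lift_fac _ _ _
  have : IsClosedImmersion j := by
    have : IsClosedImmersion (j ≫ i) := by rw [hj]; infer_instance
    exact IsClosedImmersion.of_comp j i
  refine ⟨hc, ?_⟩
  show IsProper (I.subschemeι ≫ f)
  rw [← hj, Category.assoc]
  infer_instance

/-- Images along morphisms that are universally closed on the subset. -/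
theorem image {p : X ⟶ S} {q : Y ⟶ S} [LocallyOfFiniteType q] (f : X ⟶ Y) (w : f ≫ q = p) {Z : Set X}
    (hZ : ClSub.IsProperOver p Z)
    (huc : ∀ (R : Scheme.{u}) (i : R ⟶ X), IsClosedImmersion i → IsProper (i ≫ p) →
      UniversallyClosed (i ≫ f)) : ClSub.IsProperOver q (⇑f '' Z) := by
  obtain ⟨R, i, hi, -, hr, hp⟩ := exists_model hZ
  have := huc R i hi hp
  let h := i ≫ f
  have hrange : Set.range h.imageι = ⇑f '' Z := by
    rw [Scheme.IdealSheafData.range_subschemeι, Scheme.Hom.support_ker,
      h.isClosedMap.isClosed_range.closure_eq, ← hr, ← Set.range_comp]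
    exact congrArg Set.range (funext fun r => Scheme.Hom.comp_apply i f r)
  have : Surjective h.toImage := ⟨fun t => by
    obtain ⟨r, hr'⟩ : h.imageι t ∈ Set.range h := by
      have : h.imageι t ∈ Set.range h.imageι := ⟨t, rfl⟩
      rw [Scheme.IdealSheafData.range_subschemeι, Scheme.Hom.support_ker,
        h.isClosedMap.isClosed_range.closure_eq] at this
      exact this
    exact ⟨r, h.imageι.isClosedEmbedding.injective
      (by rw [← Scheme.Hom.comp_apply, h.toImage_imageι, hr'])⟩⟩
  have e : h.toImage ≫ h.imageι ≫ q = i ≫ p := by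
    rw [h.toImage_imageι_assoc]; show (i ≫ f) ≫ q = _; rw [Category.assoc, w]
  have : IsProper (h.toImage ≫ h.imageι ≫ q) := by rw [e]; exact hp
  have : UniversallyClosed (h.imageι ≫ q) := UniversallyClosed.of_comp_surjective h.toImage _
  have : IsSeparated (h.imageι ≫ q) := FlatMor68.ThickeningFT.isSeparated_of_comp_surjective h.toImage _
  exact (iff_of_range h.imageι hrange).mpr { }

theorem preimage {p : X ⟶ S} {q : Y ⟶ S} [LocallyOfFiniteType p] (f : X ⟶ Y) [IsProper f]
    (w : f ≫ q = p) {Z : Set Y} (hZ : ClSub.IsProperOver q Z) :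
    ClSub.IsProperOver p (⇑f ⁻¹' Z) := by
  obtain ⟨R, i, hi, -, hr, hp⟩ := exists_model hZ
  have e : pullback.fst f i ≫ p = pullback.snd f i ≫ i ≫ q := by rw [← w, pullback.condition_assoc]
  refine (iff_of_range (pullback.fst f i) ?_).mpr ?_
  · rw [Scheme.Pullback.range_fst, hr]
  · rw [e]; infer_instance

theorem preimage_of_isPullback {X' S' : Scheme.{u}} {f : X ⟶ S} [LocallyOfFiniteType f]
    {g : S' ⟶ S} {g' : X' ⟶ X} {f' : X' ⟶ S'} (sq : IsPullback g' f' f g)
    {Z : Set X} (hZ : ClSub.IsProperOver f Z) : ClSub.IsProperOver f' (⇑g' ⁻¹' Z) := by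
  have : LocallyOfFiniteType f' := MorphismProperty.of_isPullback sq ‹_›
  obtain ⟨R, i, hi, -, hr, hp⟩ := exists_model hZ
  refine (iff_of_range (pullback.fst g' i) ?_).mpr ?_
  · rw [Scheme.Pullback.range_fst, hr]
  · exact MorphismProperty.of_isPullback
      ((IsPullback.of_hasPullback g' i).flip.paste_vert sq) hp

theorem union {f : X ⟶ S} [LocallyOfFiniteType f] {ι : Type} [Finite ι] {Z : ι → Set X}
    (hZ : ∀ k, ClSub.IsProperOver f (Z k)) : ClSub.IsProperOver f (Set.iUnion Z) := by
  have hc : IsClosed (Set.iUnion Z) := isClosed_iUnion_of_finite fun k => (hZ k).1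
  choose R i hi hred hr hp using fun k => exists_model (hZ k)
  let I := Scheme.IdealSheafData.vanishingIdeal (X := X) ⟨Set.iUnion Z, hc⟩
  have hI : Set.range I.subschemeι = Set.iUnion Z := SchBasics.range_vanishingIdeal_subschemeι _
  have hsub : ∀ k, Set.range (i k) ⊆ Set.range I.subschemeι := fun k => by
    rw [hI, hr k]; exact Set.subset_iUnion Z k
  let j : ∀ k, R k ⟶ I.subscheme := fun k =>
    IsClosedImmersion.lift I.subschemeι (i k)
      (@SchBasics.ker_le_ker_of_range_subset _ _ _ (hred k) _ _ _ (hsub k))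
  have hj : ∀ k, j k ≫ I.subschemeι = i k := fun k => IsClosedImmersion.lift_fac _ _ _
  have hjc : ∀ k, IsClosedImmersion (j k) := fun k => by
    have : IsClosedImmersion (j k ≫ I.subschemeι) := by rw [hj k]; exact hi k
    exact IsClosedImmersion.of_comp (j k) I.subschemeι
  have hcov : ∀ t : I.subscheme, ∃ k r, j k r = t := fun t => by
    obtain ⟨k, hk⟩ := Set.mem_iUnion.mp (hI.le ⟨t, rfl⟩)
    obtain ⟨r, hr'⟩ := (hr k).ge hk
    refine ⟨k, r, I.subschemeι.isClosedEmbedding.injective ?_⟩
    rw [← Scheme.Hom.comp_apply, hj k, hr']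
  let g := I.subschemeι ≫ f
  have hg : ∀ k, IsProper (j k ≫ g) := fun k => by
    show IsProper (j k ≫ I.subschemeι ≫ f)
    rw [reassoc_of% (hj k)]
    exact hp k
  have : UniversallyClosed g := EGA73.universallyClosed_of_closed_cover g
    (fun k : ULift.{u} ι => R k.down) (fun k => j k.down) (fun k => (hg k.down).toUniversallyClosed)
    fun t => by obtain ⟨k, hk⟩ := hcov t; exact ⟨⟨k⟩, hk⟩
  have : IsSeparated g := by
    rw [isSeparated_iff]
    refine IsClosedImmersion.of_isPreimmersion _ ?_
    have : Set.range (pullback.diagonal g) = ⋃ k, Set.range (j k ≫ pullback.diagonal g) := by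
      refine subset_antisymm ?_ (Set.iUnion_subset fun k => ?_)
      · rintro _ ⟨t, rfl⟩
        obtain ⟨k, r, rfl⟩ := hcov t
        exact Set.mem_iUnion.mpr ⟨k, r, Scheme.Hom.comp_apply _ _ _⟩
      · rintro _ ⟨r, rfl⟩
        exact ⟨j k r, (Scheme.Hom.comp_apply _ _ _).symm⟩
    rw [this]
    refine isClosed_iUnion_of_finite fun k => ?_
    have := hjc k
    have := hg k
    let m := pullback.map (j k ≫ g) (j k ≫ g) g g (j k) (j k) (𝟙 S) (by simp) (by simp)
    have hm : UniversallyClosed m :=
      MorphismProperty.pullbackMap (P := @UniversallyClosed) (inferInstance : UniversallyClosed (j k))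
        (inferInstance : UniversallyClosed (j k)) rfl rfl
    have e : j k ≫ pullback.diagonal g = pullback.diagonal (j k ≫ g) ≫ m := by
      apply pullback.hom_ext <;> simp only [m, Category.assoc, pullback.diagonal_fst,
        pullback.diagonal_snd, pullback.lift_fst, pullback.lift_snd, pullback.diagonal_fst_assoc,
        pullback.diagonal_snd_assoc, Category.comp_id]
    rw [e]
    exact (pullback.diagonal (j k ≫ g) ≫ m).isClosedMap.isClosed_range
  exact ⟨hc, { }⟩

end Groth.Agent.Coh69.PO
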