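import Groth.Agent.Coh69.SheafifyLoc
import Groth.Agent.QC70.Sections
import Groth.Agent.QC70.Loc
import Groth.Prelude.Def_Coh
import Mathlib.GroupTheory.QuotientGroup.Basic

/-! Quasi-coherence of cokernels from a localisation property on sections. -/

universe u

open CategoryTheory Limits AlgebraicGeometry Opposite TopologicalSpace

namespace Groth.Agent.Coh69

variable {S : Scheme.{u}} {A B : S.Modules} (ψ : A ⟶ B)

/-- Sections modulo the image. -/
noncomputable def quotPre : (Opens S)ᵒᵖ ⥤ AddCommGrpCat.{u} where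
  obj U := AddCommGrpCat.of (Γ(B, U.unop) ⧸ (ψ.app U.unop).hom.range)
  map {U V} i := AddCommGrpCat.ofHom (QuotientAddGroup.map _ _ (B.presheaf.map i).hom (by
    rintro _ ⟨t, rfl⟩
    exact ⟨A.presheaf.map i t, ConcreteCategory.congr_hom (ψ.mapPresheaf.naturality i) t⟩))
  map_id U := by
    ext z
    exact congrArg (QuotientAddGroup.mk' _) (congr($(B.presheaf.map_id U) z))
  map_comp i j := by
    ext z
    exact congrArg (QuotientAddGroup.mk' _) (congr($(B.presheaf.map_comp i j) z))

/-- The class of a section. -/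
noncomputable abbrev qmk (U : S.Opens) : Γ(B, U) →+ (quotPre ψ).obj (op U) :=
  QuotientAddGroup.mk' _

lemma qmk_surjective (U : S.Opens) : Function.Surjective (qmk ψ U) := QuotientAddGroup.mk'_surjective _

lemma qmk_eq_zero {U : S.Opens} {s : Γ(B, U)} : qmk ψ U s = 0 ↔ ∃ t, ψ.app U t = s :=
  QuotientAddGroup.eq_zero_iff s

lemma res_qmk {U V : S.Opens} (h : V ≤ U) (s : Γ(B, U)) :
    res (quotPre ψ) h (qmk ψ U s) = qmk ψ V (B.presheaf.map (homOfLE h).op s) := rfl

/-- Sections modulo the image map to the cokernel. -/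
noncomputable def toCoker : quotPre ψ ⟶ (Coh.toAb (cokernel ψ)).obj where
  app U := AddCommGrpCat.ofHom (QuotientAddGroup.lift _ ((cokernel.π ψ).app U.unop).hom (by
    rintro _ ⟨t, rfl⟩
    change (ψ ≫ cokernel.π ψ).app U.unop t = 0
    rw [cokernel.condition]; rfl))
  naturality U V i := by
    ext x
    induction x using QuotientAddGroup.induction_on with
    | H z => exact ConcreteCategory.congr_hom ((cokernel.π ψ).mapPresheaf.naturality i) z

lemma toCoker_qmk (U : S.Opens) (s : Γ(B, U)) :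
    (toCoker ψ).app (op U) (qmk ψ U s) = (cokernel.π ψ).app U s := rfl

instance toCoker_isLocallySurjective :
    Presheaf.IsLocallySurjective (Opens.grothendieckTopology S) (toCoker ψ) where
  imageSieve_mem {U} s := by
    intro x hx
    obtain ⟨V, hVU, t, hxV, ht⟩ := QC70.exists_local_lift (cokernel.π ψ) s hx
    exact ⟨V, homOfLE hVU, ⟨qmk ψ V t, ht⟩, hxV⟩

instance toCoker_isLocallyInjective :
    Presheaf.IsLocallyInjective (Opens.grothendieckTopology S) (toCoker ψ) where
  equalizerSieve_mem {U} s t h := by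
    intro x hx
    obtain ⟨z, hz⟩ := qmk_surjective ψ U.unop (s - t)
    have hz0 : (cokernel.π ψ).app U.unop z = 0 := by
      refine (toCoker_qmk ψ U.unop z).symm.trans ((congrArg ((toCoker ψ).app U) hz).trans ?_)
      exact (map_sub ((toCoker ψ).app U).hom s t).trans (sub_eq_zero.2 h)
    obtain ⟨w, hw⟩ := QC70.exists_kernel_app_eq (cokernel.π ψ) U.unop z hz0
    let l : A ⟶ kernel (cokernel.π ψ) := kernel.lift _ ψ (cokernel.condition ψ)
    have : Epi l :=
      (ShortComplex.exact_of_g_is_cokernel (ShortComplex.mk ψ (cokernel.π ψ) (cokernel.condition ψ))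
        (cokernelIsCokernel ψ)).epi_kernelLift
    obtain ⟨V, hVU, a, hxV, ha⟩ := QC70.exists_local_lift l w hx
    refine ⟨V, homOfLE hVU, ?_, hxV⟩
    change res (quotPre ψ) hVU s = res (quotPre ψ) hVU t
    rw [← sub_eq_zero, ← map_sub, ← hz, res_qmk, qmk_eq_zero]
    refine ⟨a, ?_⟩
    rw [show ψ = l ≫ kernel.ι (cokernel.π ψ) from (kernel.lift_ι _ _ _).symm, Scheme.Modules.Hom.comp_app,
      ← hw]
    exact (congrArg _ ha).trans
      (ConcreteCategory.congr_hom ((kernel.ι (cokernel.π ψ)).mapPresheaf.naturality (homOfLE hVU).op) w)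

variable {V : S.Opens}

/-- The module structure of sections modulo the image, over a basic open. -/
@[instance_reducible]
noncomputable def quotModule (a : Γ(S, V)) : Module Γ(S, V) ((quotPre ψ).obj (op (S.basicOpen a))) where
  smul c := QuotientAddGroup.map _ _
    (DistribSMul.toAddMonoidHom Γ(B, S.basicOpen a)
      (show Γ(S, S.basicOpen a) from QC70.resO S (S.basicOpen_le a) c)) (by
      rintro _ ⟨t, rfl⟩
      exact ⟨(show Γ(S, S.basicOpen a) from QC70.resO S (S.basicOpen_le a) c) •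
        (show Γ(A, S.basicOpen a) from t), ψ.app_smul _ _⟩)
  one_smul x := by
    induction x using QuotientAddGroup.induction_on with
    | H z =>
      change qmk ψ (S.basicOpen a) (QC70.resO S (S.basicOpen_le a) 1 • z) = qmk ψ (S.basicOpen a) z
      simp only [QC70.resO, map_one, one_smul]
  mul_smul c d x := by
    induction x using QuotientAddGroup.induction_on with
    | H z =>
      change qmk ψ (S.basicOpen a) (QC70.resO S (S.basicOpen_le a) (c * d) • z) = qmk ψ (S.basicOpen a) (QC70.resO S (S.basicOpen_le a) c • QC70.resO S (S.basicOpen_le a) d • z)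
      simp only [QC70.resO, map_mul, mul_smul]
  smul_zero c := map_zero (QuotientAddGroup.map _ _ _ _)
  smul_add c := map_add (QuotientAddGroup.map _ _ _ _)
  add_smul c d x := by
    induction x using QuotientAddGroup.induction_on with
    | H z =>
      change qmk ψ (S.basicOpen a) (QC70.resO S (S.basicOpen_le a) (c + d) • z) =
        qmk ψ (S.basicOpen a) (QC70.resO S (S.basicOpen_le a) c • z) + qmk ψ (S.basicOpen a) (QC70.resO S (S.basicOpen_le a) d • z)
      simp only [QC70.resO, map_add, add_smul]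
  zero_smul x := by
    induction x using QuotientAddGroup.induction_on with
    | H z =>
      change qmk ψ (S.basicOpen a) (QC70.resO S (S.basicOpen_le a) 0 • z) = 0
      simp only [QC70.resO, map_zero, zero_smul]

attribute [local instance] quotModule

lemma qmk_smul (a c : Γ(S, V)) (z : Γ(B, S.basicOpen a)) :
    c • qmk ψ (S.basicOpen a) z = qmk ψ (S.basicOpen a) (QC70.resO S (S.basicOpen_le a) c • z) := rfl

/-- Radical membership from containment of basic opens. -/
lemma affineOpen_radical (hV : IsAffineOpen V) (a : Γ(S, V)) {κ : Type u} (b : κ → Γ(S, V))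
    (h : S.basicOpen a ≤ ⨆ i, S.basicOpen (b i)) : ∃ N : ℕ, a ^ N ∈ Ideal.span (Set.range b) := by
  change a ∈ (Ideal.span (Set.range b)).radical
  rw [Ideal.radical_eq_sInf, Submodule.mem_sInf]
  rintro p ⟨hp, hprime⟩
  by_contra ha
  have hmem : ∀ c : Γ(S, V), hV.fromSpec ⟨p, hprime⟩ ∈ S.basicOpen c ↔ c ∉ p := fun c => by
    change _ ↔ (⟨p, hprime⟩ : PrimeSpectrum Γ(S, V)) ∈ PrimeSpectrum.basicOpen c
    rw [← hV.fromSpec_preimage_basicOpen c]
    rfl
  obtain ⟨i, hi⟩ := Opens.mem_iSup.1 (h ((hmem a).2 ha))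
  exact (hmem _).1 hi (hp (Ideal.subset_span ⟨i, rfl⟩))

/-- A cokernel is localizing on an affine open if sections modulo the image are. -/
theorem isLocAt_cokernel (hV : IsAffineOpen V)
    (hker : ∀ (a : Γ(S, V)) (s : Γ(B, V)),
      (∃ t, ψ.app (S.basicOpen a) t = QC70.res B (S.basicOpen_le a) s) →
      ∃ (k : ℕ) (t : Γ(A, V)), ψ.app V t = a ^ k • s)
    (hsurj : ∀ (a : Γ(S, V)) (s' : Γ(B, S.basicOpen a)), ∃ (k : ℕ) (s : Γ(B, V)) (t : _),
      ψ.app (S.basicOpen a) t =
        QC70.res B (S.basicOpen_le a) s - QC70.resO S (S.basicOpen_le a) a ^ k • s') :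
    QC70.IsLocAt (cokernel ψ) V := by
  have h1V : V = S.basicOpen (1 : Γ(S, V)) := (Scheme.basicOpen_of_isUnit _ isUnit_one).symm
  have hu : ∀ a : Γ(S, V), IsUnit (QC70.resO S (S.basicOpen_le a) a) := fun a =>
    S.toRingedSpace.isUnit_res_basicOpen a
  have L : BasisLoc (quotPre ψ) (fun a : Γ(S, V) => S.basicOpen a) := by
    refine ⟨fun a b h c s => ?_, fun U x hx h1 => ?_, fun a b => Scheme.basicOpen_mul _ _ _,
      fun a => (hV.basicOpen a).isCompact, fun a _ _ b h => affineOpen_radical hV a b h,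
      fun a h t ht => ?_, fun a h s => ?_, fun a s hs => ?_, fun a s => ?_⟩
    · obtain ⟨z, rfl⟩ := qmk_surjective ψ _ s
      rw [qmk_smul, res_qmk, res_qmk, qmk_smul]
      refine congrArg (qmk ψ _) ?_
      rw [Scheme.Modules.map_smul, ← QC70.resO_resO (S.basicOpen_le a) h c]
    · obtain ⟨a, ha, hxa⟩ := hV.exists_basicOpen_le (V := U) ⟨x, hx⟩ (h1V.symm ▸ h1)
      exact ⟨a, hxa, ha⟩
    · obtain ⟨z, rfl⟩ := qmk_surjective ψ _ t
      rw [res_qmk, qmk_eq_zero] at ht
      obtain ⟨k, w, hw⟩ := hker a (QC70.res B h1V.le z) (by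
        rw [QC70.res_res]; exact ht)
      refine ⟨k, ?_⟩
      rw [qmk_smul, qmk_eq_zero]
      refine ⟨QC70.res A h1V.ge w, ?_⟩
      rw [QC70.app_res, hw, QC70.res_smul, QC70.res_res, QC70.res_self]
    · obtain ⟨z, rfl⟩ := qmk_surjective ψ _ s
      obtain ⟨k, s₀, t₀, ht₀⟩ := hsurj a z
      refine ⟨k, qmk ψ _ (QC70.res B h1V.ge s₀), ?_⟩
      rw [qmk_smul, res_qmk, ← sub_eq_zero, ← map_sub, qmk_eq_zero]
      refine ⟨t₀, ht₀.trans ?_⟩
      rw [QC70.resO_pow]
      congr 1
      exact (QC70.res_res h1V.ge h s₀).symm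
    · obtain ⟨z, rfl⟩ := qmk_surjective ψ _ s
      rw [qmk_smul, qmk_eq_zero] at hs
      obtain ⟨t, ht⟩ := hs
      rw [qmk_eq_zero]
      refine ⟨(↑((hu a).unit⁻¹) : Γ(S, S.basicOpen a)) • t, ?_⟩
      rw [Scheme.Modules.Hom.app_smul, ht, ← mul_smul, IsUnit.val_inv_mul, one_smul]
    · obtain ⟨z, rfl⟩ := qmk_surjective ψ _ s
      refine ⟨qmk ψ _ ((↑((hu a).unit⁻¹) : Γ(S, S.basicOpen a)) • z), ?_⟩
      rw [qmk_smul, ← mul_smul, IsUnit.mul_val_inv, one_smul]
  have hbij := fun a => L.bijective_app (Coh.toAb (cokernel ψ)) (toCoker ψ) a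
  constructor
  · intro a s
    obtain ⟨y, rfl⟩ := (hbij a).2 s
    obtain ⟨z, rfl⟩ := qmk_surjective ψ _ y
    obtain ⟨k, s₀, t₀, ht₀⟩ := hsurj a z
    refine ⟨k, (cokernel.π ψ).app V s₀, ?_⟩
    rw [← QC70.app_res]
    have e := congrArg ((cokernel.π ψ).app (S.basicOpen a)) ht₀
    rw [map_sub, ← ConcreteCategory.comp_apply, ← Scheme.Modules.Hom.comp_app, cokernel.condition,
      Scheme.Modules.Hom.app_smul] at e
    exact sub_eq_zero.1 (e.symm.trans rfl)
  · intro a t ht
    obtain ⟨y, hy⟩ := (hbij 1).2 (QC70.res (cokernel ψ) h1V.ge t)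
    obtain ⟨z, rfl⟩ := qmk_surjective ψ _ y
    have h0 : (toCoker ψ).app (op (S.basicOpen a)) (res (quotPre ψ) (L.le_one a) (qmk ψ _ z)) = 0 := by
      rw [res_qmk, toCoker_qmk]
      refine (QC70.app_res (cokernel.π ψ) (L.le_one a) z).trans ?_
      refine ((congrArg (QC70.res (cokernel ψ) (L.le_one a)) hy).trans ?_)
      rw [QC70.res_res]; exact ht
    obtain ⟨k, hk⟩ := L.ker a (L.le_one a) _ ((hbij a).1 (h0.trans (map_zero _).symm))
    refine ⟨k, ?_⟩
    have hk' := congrArg ((toCoker ψ).app (op (S.basicOpen (1 : Γ(S, V))))) hk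
    rw [map_zero, qmk_smul, toCoker_qmk, Scheme.Modules.Hom.app_smul] at hk'
    have hk'' := congrArg (QC70.res (cokernel ψ) h1V.le) hk'
    rw [QC70.res_smul, QC70.resO_resO, QC70.resO_self] at hk''
    replace hk'' := hk''.trans (map_zero ((cokernel ψ).presheaf.map (homOfLE h1V.le).op).hom)
    refine Eq.trans ?_ hk''
    rw [show (cokernel.π ψ).app (S.basicOpen (1 : Γ(S, V))) z = QC70.res (cokernel ψ) h1V.ge t from hy,
      QC70.res_res, QC70.res_self]

end Groth.Agent.Coh69
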