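import Groth.Agent.Coh69.Push
import Groth.Agent.TopCoh49.Coh

universe u

open CategoryTheory Limits TopologicalSpace Opposite

namespace Groth.Agent.Coh69

variable {X Y : TopCat.{u}} {f : X ⟶ Y} (hf : Topology.IsOpenEmbedding f)

/-- Restriction of abelian sheaves along an open embedding. -/
noncomputable abbrev restrSh : Sheaf (Opens.grothendieckTopology Y) AddCommGrpCat.{u} ⥤
    Sheaf (Opens.grothendieckTopology X) AddCommGrpCat.{u} :=
  hf.sheafPullback AddCommGrpCat.{u}

instance restrSh_additive : (restrSh hf).Additive where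

variable {S : ShortComplex (Sheaf (Opens.grothendieckTopology Y) AddCommGrpCat.{u})}

lemma restrSh_shortExact (hS : S.ShortExact) : (S.map (restrSh hf)).ShortExact := by
  let e := hf.sheafPullbackIso AddCommGrpCat.{u}
  have h1 : PreservesFiniteLimits (restrSh hf) :=
    @preservesFiniteLimits_of_natIso _ _ _ _ _ _ e (pullback_preservesFiniteLimits f)
  have h0 : PreservesColimitsOfSize.{0, 0} (TopCat.Sheaf.pullback AddCommGrpCat.{u} f) :=
    (TopCat.Sheaf.pullbackPushforwardAdjunction AddCommGrpCat.{u} f).leftAdjoint_preservesColimits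
  have h2 : PreservesFiniteColimits (restrSh hf) :=
    @preservesFiniteColimits_of_natIso _ _ _ _ _ _ e ⟨fun K _ _ => h0.preservesColimitsOfShape⟩
  exact hS.map_of_exact (restrSh hf)

instance restrSh_isFlasque (F : Sheaf (Opens.grothendieckTopology Y) AddCommGrpCat.{u})
    [TopCat.Sheaf.IsFlasque F] : TopCat.Sheaf.IsFlasque ((restrSh hf).obj F) where
  epi i :=
    TopCat.Presheaf.IsFlasque.epi (F := F.obj) (hf.functor.map i.unop).op

lemma restr_injective_acyclic (I : Sheaf (Opens.grothendieckTopology Y) AddCommGrpCat.{u})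
    [Injective I] (n : ℕ) (W : Opens X) : Subsingleton (HE ((restrSh hf).obj I) (n + 1) W) := by
  have : TopCat.Sheaf.IsFlasque I := TopCoh49.isFlasque_of_injective I
  exact TopCoh49.subsingleton_E_of_isFlasque n ((restrSh hf).obj I) W

/-- Cohomology of an open subspace in positive degrees. -/
noncomputable def restrEquivSucc : ∀ (n : ℕ)
    (F : Sheaf (Opens.grothendieckTopology Y) AddCommGrpCat.{u}) (W : Opens X),
      HE F (n + 1) (hf.functor.obj W) ≃+ HE ((restrSh hf).obj F) (n + 1) W
  | 0, F, W =>
    let hS := SiteCoh.injSES_shortExact F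
    haveI : Subsingleton (HE ((SiteCoh.injSES F).map (restrSh hf)).X₂ 1 W) :=
      restr_injective_acyclic hf (SiteCoh.injSES F).X₂ 0 W
    (coker0Equiv (restrSh_shortExact hf hS) W
      (B := HE F 1 (hf.functor.obj W))
      ((extDelta hS (CohCx.freeSheaf (Opens.grothendieckTopology Y) (hf.functor.obj W))).comp
        (SiteCoh.homAddEquivSec (hf.functor.obj W) (SiteCoh.injSES F).X₃).symm.toAddMonoidHom)
      ((extDelta_surjective hS _).comp
        (SiteCoh.homAddEquivSec (hf.functor.obj W) (SiteCoh.injSES F).X₃).symm.surjective)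
      (fun s => (extDelta_eq_zero_iff hS _ _).trans
        (exists_sect_iff (S := SiteCoh.injSES F) (SiteCoh.injSES F).g _ s))).symm
  | n + 1, F, W =>
    let hS := SiteCoh.injSES_shortExact F
    haveI : Subsingleton (HE ((SiteCoh.injSES F).map (restrSh hf)).X₂ (n + 1) W) :=
      restr_injective_acyclic hf (SiteCoh.injSES F).X₂ n W
    haveI : Subsingleton (HE ((SiteCoh.injSES F).map (restrSh hf)).X₂ (n + 2) W) :=
      restr_injective_acyclic hf (SiteCoh.injSES F).X₂ (n + 1) W
    haveI := fun (m : ℕ) (U : Opens Y) => he_subsingleton_of_injective (SiteCoh.injSES F).X₂ m U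
    (extShiftEquiv hS (CohCx.freeSheaf (Opens.grothendieckTopology Y) (hf.functor.obj W)) n).symm
      |>.trans ((restrEquivSucc n (SiteCoh.injSES F).X₃ W).trans
        (extShiftEquiv (restrSh_shortExact hf hS)
          (CohCx.freeSheaf (Opens.grothendieckTopology X) W) n))

/-- Cohomology of an open subspace. -/
theorem restr_nonempty_equiv (F : Sheaf (Opens.grothendieckTopology Y) AddCommGrpCat.{u}) (n : ℕ)
    (W : Opens X) : Nonempty (HE F n (hf.functor.obj W) ≃+ HE ((restrSh hf).obj F) n W) := by
  cases n with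
  | zero => exact ⟨(SiteCoh.hu0Equiv F _).trans (SiteCoh.hu0Equiv ((restrSh hf).obj F) W).symm⟩
  | succ n => exact ⟨restrEquivSucc hf n F W⟩

end Groth.Agent.Coh69
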