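import Groth.Agent.Coh69.ResLoc
import Groth.Agent.Coh69.CokerLoc
import Groth.Agent.Coh69.Restrict
import Groth.Agent.QC70.InjStalk
import Groth.Agent.QC70.ToSheaf
import Groth.Agent.QCqs72.Basic
import Mathlib.CategoryTheory.Abelian.RightDerived

/-! Quasi-coherence of higher direct images. -/

set_option backward.isDefEq.respectTransparency.types false

universe u

open CategoryTheory Limits AlgebraicGeometry Opposite TopologicalSpace

namespace Groth.Agent.Coh69

variable {X : Scheme.{u}}

instance abSheafFunctor_additive : (QC70.abSheafFunctor X).Additive :=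
  inferInstanceAs (SheafOfModules.toSheaf X.ringCatSheaf).Additive

instance abSheafFunctor_preservesFiniteLimits : PreservesFiniteLimits (QC70.abSheafFunctor X) :=
  inferInstanceAs (PreservesFiniteLimits (SheafOfModules.toSheaf X.ringCatSheaf))

instance abSheafFunctor_preservesFiniteColimits : PreservesFiniteColimits (QC70.abSheafFunctor X) :=
  inferInstanceAs (PreservesFiniteColimits (SheafOfModules.toSheaf X.ringCatSheaf))

/-- Cycles of an injective resolution. -/
noncomputable abbrev cycZ {M : X.Modules} (R : InjectiveResolution M) (j : ℕ) : X.Modules :=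
  kernel (R.cocomplex.d j (j + 1))

/-- The corestricted differential. -/
noncomputable abbrev cycπ {M : X.Modules} (R : InjectiveResolution M) (j : ℕ) :
    R.cocomplex.X j ⟶ cycZ R (j + 1) :=
  kernel.lift _ (R.cocomplex.d j (j + 1)) (R.cocomplex.d_comp_d _ _ _)

lemma cyc_w {M : X.Modules} (R : InjectiveResolution M) (j : ℕ) :
    kernel.ι (R.cocomplex.d j (j + 1)) ≫ cycπ R j = 0 := by
  rw [← cancel_mono (kernel.ι (R.cocomplex.d (j + 1) (j + 1 + 1))), Category.assoc,
    kernel.lift_ι, kernel.condition, zero_comp]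

lemma cyc_shortExact {M : X.Modules} (R : InjectiveResolution M) (j : ℕ) :
    (ShortComplex.mk (kernel.ι (R.cocomplex.d j (j + 1))) (cycπ R j) (cyc_w R j)).ShortExact := by
  have : Epi (cycπ R j) := (R.exact_succ j).epi_kernelLift
  refine { exact := ?_, mono_f := inferInstance, epi_g := this }
  refine ShortComplex.exact_of_f_is_kernel _ (KernelFork.IsLimit.ofι' _ _ fun {A} k hk =>
    ⟨kernel.lift _ k ?_, kernel.lift_ι _ _ _⟩)
  exact (congrArg (k ≫ ·) (kernel.lift_ι _ _ _).symm).trans
    ((Category.assoc _ _ _).symm.trans ((congrArg (· ≫ kernel.ι _) hk).trans zero_comp))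

/-- An injective resolution as a flasque resolution. -/
noncomputable def flResOfInj {M : X.Modules} (R : InjectiveResolution M) : FlRes X where
  Z := cycZ R
  I := R.cocomplex.X
  ι j := kernel.ι _
  π := cycπ R
  w j := (ShortComplex.map (ShortComplex.mk (kernel.ι (R.cocomplex.d j (j + 1))) (cycπ R j)
    (cyc_w R j)) (QC70.abSheafFunctor X)).zero
  shortExact j := (cyc_shortExact R j).map_of_exact (QC70.abSheafFunctor X)
  flasque j := ⟨fun i => (AddCommGrpCat.epi_iff_surjective _).2
    (QC70.restriction_surjective_of_injective (R.cocomplex.X j) (leOfHom i.unop))⟩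

set_option maxHeartbeats 1000000 in
/-- Restriction of a flasque resolution to an open subscheme. -/
noncomputable def FlRes.restrict (R : FlRes X) (W : X.Opens) : FlRes W.toScheme where
  Z j := (R.Z j).restrict W.ι
  I j := (R.I j).restrict W.ι
  ι j := (Scheme.Modules.restrictFunctor W.ι).map (R.ι j)
  π j := (Scheme.Modules.restrictFunctor W.ι).map (R.π j)
  w j := ((restrSh W.ι.isOpenEmbedding).map_comp _ _).symm.trans
    ((congrArg (restrSh W.ι.isOpenEmbedding).map (R.w j)).trans (Functor.map_zero _ _ _))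
  shortExact j := restrSh_shortExact W.ι.isOpenEmbedding (R.shortExact j)
  flasque j := @restrSh_isFlasque _ _ _ W.ι.isOpenEmbedding (Coh.toAb (R.I j)) (R.flasque j)

/-- A function on an open, as a global function of the open subscheme. -/
noncomputable def gRes (W : X.Opens) (g : Γ(X, W)) : Γ(W.toScheme, ⊤) :=
  QC70.resO X W.ι_image_top.le g

lemma restrict_app (W : X.Opens) {A B : X.Modules} (ψ : A ⟶ B) (U : W.toScheme.Opens)
    (x : Γ(A.restrict W.ι, U)) :
    (B.restrictAppIso W.ι U).hom (((Scheme.Modules.restrictFunctor W.ι).map ψ).app U x) =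
      ψ.app (W.ι ''ᵁ U) ((A.restrictAppIso W.ι U).hom x) := rfl

lemma restrict_res (W : X.Opens) (B : X.Modules) {U V : W.toScheme.Opens} (h : V ≤ U)
    (x : Γ(B.restrict W.ι, U)) :
    (B.restrictAppIso W.ι V).hom ((B.restrict W.ι).presheaf.map (homOfLE h).op x) =
      QC70.res B (W.ι.image_mono h) ((B.restrictAppIso W.ι U).hom x) := rfl

lemma restrict_smul (W : X.Opens) (B : X.Modules) (U : W.toScheme.Opens) (r : Γ(W.toScheme, U))
    (x : Γ(B.restrict W.ι, U)) :
    (B.restrictAppIso W.ι U).hom (r • x) =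
      (show Γ(X, W.ι ''ᵁ U) from r) • (B.restrictAppIso W.ι U).hom x := by
  rw [Scheme.Modules.smul_restrictAppIso_hom_apply, Scheme.Opens.ι_appIso]
  rfl

/-- Moving the localisation properties from an open subscheme. -/
theorem loc_transfer (W : X.Opens) {A B : X.Modules} (ψ : A ⟶ B) (g : Γ(X, W))
    (hker : ∀ s : Γ(B.restrict W.ι, ⊤),
      (∃ t, ((Scheme.Modules.restrictFunctor W.ι).map ψ).app
          (W.toScheme.basicOpen (gRes W g)) t =
        (B.restrict W.ι).presheaf.map (homOfLE le_top).op s) →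
      ∃ (k : ℕ) (t : Γ(A.restrict W.ι, ⊤)), ((Scheme.Modules.restrictFunctor W.ι).map ψ).app ⊤ t =
        (gRes W g) ^ k • s)
    (hsurj : ∀ s' : Γ(B.restrict W.ι,
        W.toScheme.basicOpen (gRes W g)),
      ∃ (k : ℕ) (s : Γ(B.restrict W.ι, ⊤)) (t : _),
        ((Scheme.Modules.restrictFunctor W.ι).map ψ).app
          (W.toScheme.basicOpen (gRes W g)) t =
        (B.restrict W.ι).presheaf.map (homOfLE le_top).op s -
          (W.toScheme.presheaf.map (homOfLE (le_top : W.toScheme.basicOpen (gRes W g) ≤ ⊤)).op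
            (gRes W g)) ^ k • s') :
    (∀ s : Γ(B, W),
      (∃ t, ψ.app (X.basicOpen g) t = QC70.res B (X.basicOpen_le g) s) →
      ∃ (k : ℕ) (t : Γ(A, W)), ψ.app W t = g ^ k • s) ∧
    ∀ s' : Γ(B, X.basicOpen g), ∃ (k : ℕ) (s : Γ(B, W)) (t : _),
      ψ.app (X.basicOpen g) t = QC70.res B (X.basicOpen_le g) s -
        QC70.resO X (X.basicOpen_le g) g ^ k • s' := by
  have hT : W.ι ''ᵁ ⊤ = W := W.ι_image_top
  let g' : Γ(W.toScheme, ⊤) := gRes W g
  have hB : W.ι ''ᵁ W.toScheme.basicOpen g' = X.basicOpen g := by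
    rw [Scheme.image_basicOpen, Scheme.Opens.ι_appIso]
    change X.basicOpen (QC70.resO X hT.le g) = _
    rw [Scheme.basicOpen_res, hT]
    exact inf_eq_right.2 (X.basicOpen_le g)
  constructor
  · rintro s ⟨t, ht⟩
    obtain ⟨t₁, ht₁⟩ : ∃ t₁, (A.restrictAppIso W.ι (W.toScheme.basicOpen g')).hom t₁ =
        QC70.res A hB.le t := ⟨_, (A.restrictAppIso W.ι _).inv_hom_id_apply _⟩
    obtain ⟨s₁, hs₁⟩ : ∃ s₁, (B.restrictAppIso W.ι ⊤).hom s₁ = QC70.res B hT.le s :=
      ⟨_, (B.restrictAppIso W.ι _).inv_hom_id_apply _⟩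
    obtain ⟨k, t', ht'⟩ := hker s₁ ⟨t₁, (B.restrictAppIso W.ι _).addCommGroupIsoToAddEquiv.injective
      ((restrict_app W ψ _ t₁).trans ((congrArg (ψ.app _) ht₁).trans
        ((QC70.app_res ψ hB.le t).trans (((congrArg (QC70.res B hB.le) ht).trans
          (QC70.res_res _ _ _)).trans (((congrArg (QC70.res B (W.ι.image_mono le_top)) hs₁).trans
            (QC70.res_res _ _ _)).symm.trans (restrict_res W B le_top s₁).symm)))))⟩
    refine ⟨k, QC70.res A hT.ge ((A.restrictAppIso W.ι ⊤).hom t'), ?_⟩
    have e := congrArg (B.restrictAppIso W.ι ⊤).hom ht'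
    rw [restrict_app, restrict_smul, hs₁] at e
    rw [QC70.app_res, e, QC70.res_smul, QC70.res_res, QC70.res_self]
    refine congrArg (fun z : Γ(X, W) => z • s) ?_
    refine (congrArg (QC70.resO X hT.ge) (QC70.resO_pow hT.le g k).symm).trans ?_
    rw [QC70.resO_resO, QC70.resO_self]
  · intro s'
    obtain ⟨s₁, hs₁⟩ : ∃ s₁, (B.restrictAppIso W.ι (W.toScheme.basicOpen g')).hom s₁ =
        QC70.res B hB.le s' := ⟨_, (B.restrictAppIso W.ι _).inv_hom_id_apply _⟩
    obtain ⟨k, s, t, ht⟩ := hsurj s₁
    refine ⟨k, QC70.res B hT.ge ((B.restrictAppIso W.ι ⊤).hom s),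
      QC70.res A hB.ge ((A.restrictAppIso W.ι _).hom t), ?_⟩
    have e := congrArg (B.restrictAppIso W.ι _).hom ht
    rw [restrict_app, map_sub, restrict_smul, restrict_res, hs₁] at e
    rw [QC70.app_res, e, QC70.res_sub, QC70.res_smul, QC70.res_res, QC70.res_res, QC70.res_res,
      QC70.res_self]
    congr 1
    refine congrArg (fun z : Γ(X, X.basicOpen g) => z • s') ?_
    refine Eq.trans (congrArg (fun z => QC70.resO X hB.ge (z ^ k))
      (QC70.resO_resO hT.le (W.ι.image_mono le_top) g)) ?_
    rw [QC70.resO_pow, QC70.resO_resO]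

/-- The localisation properties of cycles modulo boundaries on an open subscheme. -/
theorem FlRes.loc_cycles_within (R : FlRes X) (W : X.Opens) (hc : IsCompact (W : Set X))
    [QuasiSeparatedSpace W.toScheme] [(R.Z 0).IsQuasicoherent] (g : Γ(X, W)) (p : ℕ) :
    (∀ s : Γ(R.Z (p + 1), W),
      (∃ t, (R.π p).app (X.basicOpen g) t = QC70.res (R.Z (p + 1)) (X.basicOpen_le g) s) →
      ∃ (k : ℕ) (t : Γ(R.I p, W)), (R.π p).app W t = g ^ k • s) ∧
    ∀ s' : Γ(R.Z (p + 1), X.basicOpen g), ∃ (k : ℕ) (s : Γ(R.Z (p + 1), W)) (t : _),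
      (R.π p).app (X.basicOpen g) t = QC70.res (R.Z (p + 1)) (X.basicOpen_le g) s -
        QC70.resO X (X.basicOpen_le g) g ^ k • s' := by
  have : CompactSpace W.toScheme := isCompact_iff_compactSpace.1 hc
  have : ((R.restrict W).Z 0).IsQuasicoherent :=
    inferInstanceAs ((R.Z 0).restrict W.ι).IsQuasicoherent
  obtain ⟨hK, hS⟩ := (R.restrict W).loc_cycles (gRes W g) p
  exact loc_transfer W (R.π p) g hK hS

variable {S : Scheme.{u}} (f : X ⟶ S)

/-- Pushforward preserves the kernels of the differentials. -/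
noncomputable def pushHi {M : X.Modules} (R : InjectiveResolution M) (n : ℕ) :
    IsLimit (KernelFork.ofι ((Scheme.Modules.pushforward f).map (kernel.ι (R.cocomplex.d n (n + 1))))
      (((Scheme.Modules.pushforward f).map_comp _ _).symm.trans
        ((congrArg _ (kernel.condition (R.cocomplex.d n (n + 1)))).trans (Functor.map_zero _ _ _)) :
        _ ≫ (Scheme.Modules.pushforward f).map (R.cocomplex.d n (n + 1)) = 0)) :=
  KernelFork.mapIsLimit _ (kernelIsKernel (R.cocomplex.d n (n + 1))) (Scheme.Modules.pushforward f)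

lemma pushLift_eq {M : X.Modules} (R : InjectiveResolution M) (m : ℕ) :
    (pushHi f R (m + 1)).lift (KernelFork.ofι ((Scheme.Modules.pushforward f).map (R.cocomplex.d m (m + 1)))
      (((Scheme.Modules.pushforward f).map_comp _ _).symm.trans
        ((congrArg _ (R.cocomplex.d_comp_d m (m + 1) (m + 1 + 1))).trans (Functor.map_zero _ _ _)))) =
      (Scheme.Modules.pushforward f).map (cycπ R m) := by
  have : Mono ((Scheme.Modules.pushforward f).map (kernel.ι (R.cocomplex.d (m + 1) (m + 1 + 1)))) :=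
    mono_of_isLimit_fork (pushHi f R (m + 1))
  rw [← cancel_mono ((Scheme.Modules.pushforward f).map (kernel.ι (R.cocomplex.d (m + 1) (m + 1 + 1))))]
  exact ((pushHi f R (m + 1)).fac _ WalkingParallelPair.zero).trans
    ((congrArg (Scheme.Modules.pushforward f).map (kernel.lift_ι (R.cocomplex.d (m + 1) (m + 1 + 1))
      (R.cocomplex.d m (m + 1)) (R.cocomplex.d_comp_d _ _ _)).symm).trans
      ((Scheme.Modules.pushforward f).map_comp _ _))

/-- The pushforward of cycles are the cycles of the pushforward. -/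
noncomputable def pushLeftHomologyData {M : X.Modules} (R : InjectiveResolution M) (m : ℕ) :
    (ShortComplex.mk ((Scheme.Modules.pushforward f).map (R.cocomplex.d m (m + 1)))
      ((Scheme.Modules.pushforward f).map (R.cocomplex.d (m + 1) (m + 1 + 1)))
      (((Scheme.Modules.pushforward f).map_comp _ _).symm.trans
        ((congrArg _ (R.cocomplex.d_comp_d m (m + 1) (m + 1 + 1))).trans
          (Functor.map_zero _ _ _)))).LeftHomologyData where
  K := (Scheme.Modules.pushforward f).obj (cycZ R (m + 1))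
  H := cokernel ((Scheme.Modules.pushforward f).map (cycπ R m))
  i := (Scheme.Modules.pushforward f).map (kernel.ι _)
  π := cokernel.π _
  wi := ((Scheme.Modules.pushforward f).map_comp _ _).symm.trans
    ((congrArg _ (kernel.condition _)).trans (Functor.map_zero _ _ _))
  hi := pushHi f R (m + 1)
  wπ := (congrArg (· ≫ cokernel.π _) (pushLift_eq f R m)).trans (cokernel.condition _)
  hπ := CokernelCofork.IsColimit.ofπ' _ _ fun k hk =>
    ⟨cokernel.desc _ k ((congrArg (· ≫ k) (pushLift_eq f R m).symm).trans hk), cokernel.π_desc _ _ _⟩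

/-- Higher direct images as cokernels on cycles. -/
theorem nonempty_rpush_succ_iso [HasInjectiveResolutions X.Modules] {M : X.Modules}
    (R : InjectiveResolution M) (m : ℕ) :
    Nonempty ((Coh.Rpush f (m + 1)).obj M ≅
      cokernel ((Scheme.Modules.pushforward f).map (cycπ R m))) :=
  ⟨R.isoRightDerivedObj _ (m + 1) ≪≫
    ShortComplex.homologyMapIso (HomologicalComplex.isoSc' _ m (m + 1) (m + 1 + 1) (by simp) (by simp)) ≪≫
    (pushLeftHomologyData f R m).homologyIso⟩

/-- Higher direct images of quasi-coherent modules along qcqs morphisms are quasi-coherent. -/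
theorem isQuasicoherent_rpush [HasInjectiveResolutions X.Modules] [QuasiCompact f] [QuasiSeparated f]
    (M : X.Modules) [M.IsQuasicoherent] (p : ℕ) : ((Coh.Rpush f p).obj M).IsQuasicoherent := by
  cases p with
  | zero =>
    exact QC70.isQuasicoherent_of_iso ((Scheme.Modules.pushforward f).rightDerivedZeroIsoSelf.app M).symm
      (QCqs72.isQuasicoherent_pushforward M f)
  | succ m =>
    let R := injectiveResolution M
    obtain ⟨e⟩ := nonempty_rpush_succ_iso f R m
    refine QC70.isQuasicoherent_of_iso e.symm (QC70.isQuasicoherent_of_forall_isLocAt _ fun V hV => ?_)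
    have : ((flResOfInj R).Z 0).IsQuasicoherent :=
      QC70.isQuasicoherent_of_iso
        (IsLimit.conePointUniqueUpToIso R.isLimitKernelFork (limit.isLimit _)) ‹M.IsQuasicoherent›
    have : IsAffine V.toScheme := hV
    have : QuasiSeparatedSpace (f ⁻¹ᵁ V).toScheme := quasiSeparatedSpace_of_quasiSeparated (f ∣_ V)
    have hloc := fun a : Γ(S, V) => (flResOfInj R).loc_cycles_within (f ⁻¹ᵁ V)
      (f.isCompact_preimage hV.isCompact) (f.app V a) m
    have hB : ∀ a : Γ(S, V), f ⁻¹ᵁ S.basicOpen a = X.basicOpen (f.app V a) := fun a =>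
      Scheme.preimage_basicOpen f a
    refine isLocAt_cokernel _ hV (fun a s hs => ?_) (fun a s' => ?_)
    · obtain ⟨t, ht⟩ := hs
      obtain ⟨k, t', ht'⟩ := (hloc a).1 s ⟨QC70.res (R.cocomplex.X m) (hB a).ge t, by
        refine (QC70.app_res (cycπ R m) (hB a).ge t).trans ?_
        refine (congrArg (QC70.res (cycZ R (m + 1)) (hB a).ge) ht).trans ?_
        exact QC70.res_res _ _ _⟩
      refine ⟨k, t', ht'.trans ?_⟩
      exact congrArg (fun z : Γ(X, f ⁻¹ᵁ V) => z • (show Γ(cycZ R (m + 1), f ⁻¹ᵁ V) from s))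
        (map_pow (f.app V).hom a k).symm
    · obtain ⟨k, s, t, ht⟩ := (hloc a).2 (QC70.res (cycZ R (m + 1)) (hB a).ge s')
      refine ⟨k, s, QC70.res (R.cocomplex.X m) (hB a).le t, ?_⟩
      refine (QC70.app_res (cycπ R m) (hB a).le t).trans ?_
      refine (congrArg (QC70.res (cycZ R (m + 1)) (hB a).le) ht).trans ?_
      refine (QC70.res_sub _ _ _).trans ?_
      refine congrArg₂ (· - ·) (QC70.res_res _ _ _) ?_
      refine (QC70.res_pow_smul _ _ _ _).trans ?_
      refine congrArg₂ (· • ·) ?_ ((QC70.res_res _ _ _).trans (QC70.res_self _))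
      refine (congrArg (· ^ k) (QC70.resO_resO _ _ _)).trans ?_
      refine Eq.trans ?_ (map_pow (f.app (S.basicOpen a)).hom _ k).symm
      exact congrArg (· ^ k) (ConcreteCategory.congr_hom
        (f.naturality (homOfLE (S.basicOpen_le a)).op) a).symm

end Groth.Agent.Coh69
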