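import Groth.Agent.QC70.PushFinite
import Groth.Agent.QC70.CohOps
import Groth.Agent.QC70.ExtCoh
import Groth.Prelude.Def_CohB1

/-! Direct images of coherent modules on an open subscheme with support closed in the whole space. -/

set_option autoImplicit false
set_option backward.isDefEq.respectTransparency.types false

noncomputable section

universe u

open CategoryTheory CategoryTheory.Limits AlgebraicGeometry TopologicalSpace Opposite

namespace Groth.Agent.Coh69

open QC70

theorem subsingleton_sections_of_stalks {X : Scheme.{u}} (M : X.Modules) (U : X.Opens)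
    (h : ∀ x ∈ U, Subsingleton (M.presheaf.stalk x)) : Subsingleton Γ(M, U) := by
  refine subsingleton_of_forall_eq 0 fun s => section_ext M s 0 fun p hp => ?_
  obtain ⟨W, hW, hpW, h0⟩ := germM_eq_zero (hx := hp) (s := s) ((h p hp).elim _ _)
  exact ⟨W, hW, hpW, by rw [h0, res_zero]⟩

theorem isCoh_push_open {X : Scheme.{u}} (U : X.Opens) (T : Set X)
    (hT : IsClosed T) (hTU : T ⊆ (U : Set X)) (F : (↑U : Scheme.{u}).Modules) (hF : Coh.IsCoh F)
    (hs : ∀ x : ↥U, x ∈ CohB1.support F → (x : X) ∈ T) :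
    Coh.IsCoh ((Scheme.Modules.pushforward U.ι).obj F) := by
  haveI := hF.1
  haveI := hF.2
  let G := (Scheme.Modules.pushforward U.ι).obj F
  let V : X.Opens := ⟨Tᶜ, hT.isOpen_compl⟩
  have hzero : ∀ W ≤ V, Subsingleton Γ(G, W) := fun W hW =>
    subsingleton_sections_of_stalks F (U.ι ⁻¹ᵁ W) fun x hx => not_not.mp fun h => hW hx (hs x h)
  let O : ULift.{u} Bool → X.Opens := fun b => if b.down then U else V
  have hcov : IsOpenCover O := by
    refine top_le_iff.mp fun x _ => Opens.mem_iSup.mpr ?_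
    by_cases hx : x ∈ U
    · exact ⟨⟨true⟩, hx⟩
    · exact ⟨⟨false⟩, fun hxT => hx (hTU hxT)⟩
  haveI hq : G.IsQuasicoherent := by
    refine isQuasicoherent_of_isOpenCover G O hcov ?_
    rintro ⟨_ | _⟩
    · exact Groth.Agent.QC70.isQuasicoherent_of_isZero (isZero_restrict_of_sections_subsingleton (U := V) hzero)
    · exact isQuasicoherent_of_iso ((Scheme.Modules.restrictFunctorAdjCounitIso U.ι).app F).symm ‹_›
  let κ := {W : X.affineOpens // W.1 ≤ U ∨ W.1 ≤ V}
  have hκ : IsOpenCover (fun W : κ => W.1.1) := by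
    refine top_le_iff.mp fun x _ => Opens.mem_iSup.mpr ?_
    have hx : x ∈ U ∨ x ∈ V := by
      by_cases hx : x ∈ U
      · exact .inl hx
      · exact .inr fun hxT => hx (hTU hxT)
    rcases hx with hx | hx
    · obtain ⟨W, hW, hxW, hWU⟩ := exists_isAffineOpen_mem_and_subset hx
      exact ⟨⟨⟨W, hW⟩, .inl hWU⟩, hxW⟩
    · obtain ⟨W, hW, hxW, hWU⟩ := exists_isAffineOpen_mem_and_subset hx
      exact ⟨⟨⟨W, hW⟩, .inr hWU⟩, hxW⟩
  refine ⟨hq, isFiniteType_of_finite_sections G (fun W : κ => W.1.1) hκ (fun W => W.1.2) ?_⟩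
  rintro ⟨⟨W, hW⟩, hWU | hWV⟩
  · have hW' : IsAffineOpen (U.ι ⁻¹ᵁ W) := hW.preimage_of_isOpenImmersion U.ι (by simpa using hWU)
    have hsurj : Function.Surjective (U.ι.app W) := by
      haveI := U.ι.isIso_app W (by simpa using hWU)
      exact (ConcreteCategory.bijective_of_isIso (U.ι.app W)).2
    obtain ⟨S, hS⟩ := (finite_sections_of_isFiniteType F hW').fg_top
    refine ⟨⟨S, eq_top_iff.mpr fun t ht0 => ?_⟩⟩
    clear ht0
    have ht : (t : Γ(F, U.ι ⁻¹ᵁ W)) ∈ Submodule.span Γ(↑U, U.ι ⁻¹ᵁ W) (S : Set Γ(F, U.ι ⁻¹ᵁ W)) :=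
      hS ▸ trivial
    induction ht using Submodule.span_induction with
    | mem b hb => exact Submodule.subset_span hb
    | zero => exact zero_mem _
    | add b b' _ _ hb hb' => exact Submodule.add_mem _ hb hb'
    | smul a b _ hb =>
      obtain ⟨a, rfl⟩ := hsurj a
      exact (QCqs72.pushforward_smul (M := F) U.ι a b) ▸ Submodule.smul_mem _ a hb
  · haveI := hzero W hWV
    infer_instance

end Groth.Agent.Coh69
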