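import Groth.Agent.Crv77.TwistSection
import Groth.Agent.Serre69.Lifts
import Groth.Agent.SchBasics.Reduced
import Groth.Agent.Amp73.GlobGen

/-! Vanishing of `H¹` of twisted ideals implies ampleness. -/

set_option autoImplicit false
set_option maxSynthPendingDepth 6
set_option linter.style.haveILetI false
set_option backward.isDefEq.respectTransparency.types false

universe u

noncomputable section

open CategoryTheory CategoryTheory.Limits AlgebraicGeometry TopologicalSpace Opposite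

namespace Groth.Agent.Coh69.AmpleCrit

open Var76.LineBundle Var76.ZeroScheme
open Crv77 (valueAt valueAt_frame twistMap unitTm)
open Amp73 (tm)

variable {X : Scheme.{u}}

/-- Sections of `O/I` killed on an affine vanish on the zero set of `I`. -/
theorem notMem_basicOpen (C : Closeds X) {U : X.Opens} (hU : IsAffineOpen U) (a : Γ(X, U))
    (ha : (ClSub.toSubscheme (Scheme.IdealSheafData.vanishingIdeal C)).app U
      (a : Γ(Coh.structureModule X, U)) = 0) {z : X} (hzU : z ∈ U) (hzC : z ∈ C) :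
    z ∉ X.basicOpen a := by
  have h := (Crv77.toSubscheme_eq_zero_iff _ hU a).1 ha
  rw [Scheme.IdealSheafData.vanishingIdeal_ideal, PrimeSpectrum.mem_vanishingIdeal] at h
  intro hza
  have h1 : hU.primeIdealOf ⟨z, hzU⟩ ∈ hU.fromSpec ⁻¹ᵁ X.basicOpen a := by
    show hU.fromSpec _ ∈ X.basicOpen a
    rw [hU.fromSpec_primeIdealOf]; exact hza
  rw [hU.fromSpec_preimage_basicOpen] at h1
  refine h1 (h _ ?_)
  show hU.fromSpec (hU.primeIdealOf ⟨z, hzU⟩) ∈ C
  rw [hU.fromSpec_primeIdealOf]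
  exact hzC

theorem quotMod_eq_zero (C : Closeds X) {W : X.Opens} (h : ∀ z ∈ W, z ∉ C)
    (m : Γ(ClSub.quotMod (Scheme.IdealSheafData.vanishingIdeal C), W)) : m = 0 := by
  have e : (Scheme.IdealSheafData.vanishingIdeal C).subschemeι ⁻¹ᵁ W = ⊥ := by
    refine bot_unique fun w hw => ?_
    refine (h _ hw ?_).elim
    have h2 : (Scheme.IdealSheafData.vanishingIdeal C).subschemeι w ∈
        Set.range (Scheme.IdealSheafData.vanishingIdeal C).subschemeι := ⟨w, rfl⟩
    rw [SchBasics.range_vanishingIdeal_subschemeι] at h2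
    exact h2
  haveI : Subsingleton Γ((Scheme.IdealSheafData.vanishingIdeal C).subscheme,
      (Scheme.IdealSheafData.vanishingIdeal C).subschemeι ⁻¹ᵁ W) := by
    rw [e]; infer_instance
  exact Subsingleton.elim (α := Γ((Scheme.IdealSheafData.vanishingIdeal C).subscheme,
      (Scheme.IdealSheafData.vanishingIdeal C).subschemeι ⁻¹ᵁ W)) _ _

theorem surjective_valueAt (I : X.IdealSheafData) {Lp : X.Modules} (hLp : PicF.IsInvertible Lp)
    (h : Subsingleton (Coh.HH X (CohB1.tensorMod (ClSub.idealMod I) Lp) 1)) :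
    Function.Surjective ((valueAt I Lp).app ⊤) := by
  haveI := Crv77.isIso_unitTm hLp
  haveI : Lp.IsQuasicoherent := (Amp73.isCoh_of_isInvertible hLp).1
  obtain ⟨h0, h1⟩ := Crv77.exists_tR_shortExact (O := X.sheaf) Lp
    (Crv77.locally_flat_of_rank_one (Mero90.isFinLocFreeOfRank_of_isInvertible hLp))
    (Crv77.idealSeq_shortExact I)
  obtain ⟨j, hj, hT⟩ : ∃ (j : CohB1.tensorMod (ClSub.idealMod I) Lp ⟶ Lp) (hj : j ≫ valueAt I Lp = 0),
      (ShortComplex.mk j (valueAt I Lp) hj).ShortExact := by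
    refine ⟨twistMap (ClSub.idealModι I) Lp ≫ inv (unitTm Lp), ?_, ?_⟩
    · exact (Category.assoc _ _ _).trans ((congrArg (_ ≫ ·) (IsIso.inv_hom_id_assoc _ _)).trans h0)
    · exact Crv77.shortExact_middle_iso (twistMap (ClSub.idealModι I) Lp) (twistMap (ClSub.toSubscheme I) Lp)
        h0 h1 (unitTm Lp) _
  exact Serre69.Lifts.of_subsingleton_H1 h j (valueAt I Lp) hj hT inferInstance

variable {L : X.Modules}

/-- A closed point lies in an affine generating locus. -/
theorem exists_genSet_closed_point (hL : PicF.IsInvertible L)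
    (h : ∀ (I : X.Modules) (i : I ⟶ Coh.structureModule X), Mono i → Coh.IsQCoh I →
      ∃ n : ℕ, Subsingleton (Coh.HH X (CohB1.tensorMod I (CohB1.tensorPow L (n + 1))) 1))
    {x : X} (hx : IsClosed ({x} : Set X)) :
    ∃ G ∈ Amp73.GenSet L, x ∈ G ∧ IsAffineOpen G := by
  classical
  obtain ⟨_, ⟨U, hU, rfl⟩, hxU, -⟩ :=
    X.isBasis_affineOpens.exists_subset_of_mem_open (Set.mem_univ x) isOpen_univ
  let C : Closeds X := ⟨(U : Set X)ᶜ ∪ {x}, U.2.isClosed_compl.union hx⟩
  let I := Scheme.IdealSheafData.vanishingIdeal C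
  haveI : Coh.IsQCoh (ClSub.idealMod I) := by
    haveI : (ClSub.quotMod I).IsQuasicoherent := by
      haveI : (QC70.unitMod I.subscheme).IsQuasicoherent := QC70.isQuasicoherent_unit
      exact QCqs72.isQuasicoherent_pushforward (M := QC70.unitMod I.subscheme) I.subschemeι
    exact QC70.isQuasicoherent_kernel (ClSub.toSubscheme I)
  obtain ⟨n, hn⟩ := h (ClSub.idealMod I) (ClSub.idealModι I)
    (inferInstanceAs (Mono (kernel.ι (ClSub.toSubscheme I)))) inferInstance
  let Lp := CohB1.tensorPow L (n + 1)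
  have hLp : PicF.IsInvertible Lp := EGA73.isInvertible_tensorPow hL _
  obtain ⟨W, hxW, hWU, e, he⟩ := Mero90.exists_affine_frame hLp x U hxU
  let one : Γ(ClSub.quotMod I, W.1) := (ClSub.toSubscheme I).app W.1 ((1 : Γ(X, W.1)) :)
  let T : Γ(CohB1.tensorMod (ClSub.quotMod I) Lp, W.1) := tm (ClSub.quotMod I) Lp one e
  let V : ULift.{u} Bool → X.Opens := fun b => cond b.down W.1 ⟨{x}ᶜ, hx.isOpen_compl⟩
  let sf : ∀ b, Γ(CohB1.tensorMod (ClSub.quotMod I) Lp, V b) := fun
    | ⟨true⟩ => T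
    | ⟨false⟩ => 0
  have hzero : ∀ (O : X.Opens) (hO : O ≤ W.1), x ∉ O →
      Var76.LineBundle.res (CohB1.tensorMod (ClSub.quotMod I) Lp) hO T = 0 := fun O hO hxO => by
    rw [Amp73.res_tm, quotMod_eq_zero C (fun z hz hzC => hzC.elim (fun h' => h' (hWU (hO hz)))
      (fun h' => hxO ((Set.mem_singleton_iff.1 h') ▸ hz))) (Var76.LineBundle.res (ClSub.quotMod I) hO one), Amp73.tm_zero_left]
  have hcompat : ∀ a b, Var76.LineBundle.res (CohB1.tensorMod (ClSub.quotMod I) Lp) inf_le_left (sf a) =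
      Var76.LineBundle.res (CohB1.tensorMod (ClSub.quotMod I) Lp) (inf_le_right : V a ⊓ V b ≤ V b) (sf b) := by
    rintro ⟨a⟩ ⟨b⟩
    cases a <;> cases b
    · rfl
    · exact (map_zero _).trans (hzero _ inf_le_right fun h' => (show x ∈ ({x} : Set X)ᶜ from h'.1) rfl).symm
    · exact (hzero _ inf_le_left fun h' => (show x ∈ ({x} : Set X)ᶜ from h'.2) rfl).trans (map_zero _).symm
    · rfl
  obtain ⟨t, ht, -⟩ := TopCat.Sheaf.existsUnique_gluing' (C := AddCommGrpCat.{u})
    (⟨(CohB1.tensorMod (ClSub.quotMod I) Lp).presheaf, (CohB1.tensorMod (ClSub.quotMod I) Lp).isSheaf⟩ :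
      TopCat.Sheaf AddCommGrpCat.{u} X) V ⊤ (fun b => homOfLE le_top)
    (fun z _ => Opens.mem_iSup.mpr (if hz : z = x then ⟨⟨true⟩, hz ▸ hxW⟩ else ⟨⟨false⟩, hz⟩))
    sf hcompat
  obtain ⟨s, hs⟩ := surjective_valueAt I hLp hn t
  let φ := Var76.Frames.ofSection Lp s
  refine ⟨CohB1.genLocus Lp φ, ⟨n, φ, rfl⟩, ?_, ?_⟩
  · obtain ⟨c, hc⟩ := Amp73.exists_coord φ he
    have h1 : Var76.LineBundle.res _ (le_top : W.1 ≤ ⊤) ((valueAt I Lp).app ⊤ s) =
        tm (ClSub.quotMod I) Lp ((ClSub.toSubscheme I).app W.1 (c : Γ(Coh.structureModule X, W.1))) e := by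
      rw [← Mero90.app_res, ← valueAt_frame, hc, Var76.Frames.val_ofSection]
    rw [hs] at h1
    have h2 := h1.symm.trans (ht ⟨true⟩)
    have h3 : (ClSub.toSubscheme I).app W.1 (c : Γ(Coh.structureModule X, W.1)) = one :=
      Amp73.tm_frame_injective (L := ClSub.quotMod I) he le_rfl _ _ (by rw [Amp73.res_self]; exact h2)
    have h4 : x ∉ X.basicOpen (c - 1 : Γ(X, W.1)) := notMem_basicOpen C W.2 (c - 1)
      ((map_sub ((ClSub.toSubscheme I).app W.1).hom _ _).trans (sub_eq_zero.2 h3)) hxW (Or.inr rfl)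
    have h5 : x ∈ X.basicOpen c := by
      rw [Scheme.mem_basicOpen _ _ _ hxW] at h4 ⊢
      by_contra h6
      refine (IsLocalRing.maximalIdeal.isMaximal (X.presheaf.stalk x)).ne_top ((Ideal.eq_top_iff_one _).2 ?_)
      have h7 := sub_mem ((IsLocalRing.mem_maximalIdeal _).2 h6) ((IsLocalRing.mem_maximalIdeal _).2 h4)
      rwa [← map_sub, sub_sub_cancel, map_one] at h7
    exact ((Amp73.genLocus_inf_eq_basicOpen φ he hc).ge h5).1
  · have hle : CohB1.genLocus Lp φ ≤ U := fun y hy => by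
      by_contra hyU
      obtain ⟨_, ⟨W', hW', rfl⟩, hyW', hW'le⟩ := X.isBasis_affineOpens.exists_subset_of_mem_open
        (show y ∈ (CohB1.genLocus Lp φ : Set X) ∩ {x}ᶜ from
          ⟨hy, fun h' => hyU ((Set.mem_singleton_iff.1 h') ▸ hxU)⟩)
        ((CohB1.genLocus Lp φ).2.inter hx.isOpen_compl)
      have he' := (Amp73.isFrame_iff_le_genLocus φ W').2 (fun z hz => (hW'le hz).1)
      have h1 : Var76.LineBundle.res _ (le_top : W' ≤ ⊤) ((valueAt I Lp).app ⊤ s) =
          tm (ClSub.quotMod I) Lp ((ClSub.toSubscheme I).app W' ((1 : Γ(X, W')) :))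
            (val Lp φ W') := by
        rw [← Mero90.app_res, ← valueAt_frame, one_smul, Var76.Frames.val_ofSection]
      have hW'0 : W' ≤ V ⟨false⟩ := fun z hz => (hW'le hz).2
      rw [hs, ← Var76.LineBundle.res_res _ (le_top : V ⟨false⟩ ≤ ⊤) hW'0 t] at h1
      rw [show Var76.LineBundle.res _ (le_top : V ⟨false⟩ ≤ ⊤) t = 0 from ht ⟨false⟩] at h1
      have h3 : (ClSub.toSubscheme I).app W' ((1 : Γ(X, W')) :) = 0 :=
        Amp73.tm_frame_injective (L := ClSub.quotMod I) he' le_rfl _ 0 (by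
          rw [Amp73.res_self, Amp73.tm_zero_left]; exact h1.symm.trans (map_zero _))
      refine notMem_basicOpen C hW' 1 h3 hyW' (Or.inl hyU) ?_
      rw [Scheme.mem_basicOpen _ _ _ hyW', map_one]
      exact isUnit_one
    have h := Amp73.isAffineOpen_genLocus_inf hLp φ hU
    rwa [inf_eq_left.mpr hle] at h

/-- The criterion. -/
theorem isAmple_of_vanishing [CompactSpace X] (hL : PicF.IsInvertible L)
    (h : ∀ (I : X.Modules) (i : I ⟶ Coh.structureModule X), Mono i → Coh.IsQCoh I →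
      ∃ n : ℕ, Subsingleton (Coh.HH X (CohB1.tensorMod I (CohB1.tensorPow L (n + 1))) 1)) :
    CohB1.IsAmple L := by
  refine Amp73.isAmple_iff.2 ⟨hL, inferInstance, fun x => ?_⟩
  by_contra hxG
  let G := {O : X.Opens // O ∈ Amp73.GenSet L ∧ IsAffineOpen O}
  obtain ⟨z, hz, hzc⟩ := (isOpen_iUnion fun O : G => O.1.2).isClosed_compl.exists_closed_singleton
    ⟨x, fun hx => by
      obtain ⟨O, hxO⟩ := Set.mem_iUnion.1 hx
      exact hxG ⟨O.1, O.2.1, hxO, O.2.2⟩⟩
  obtain ⟨O, hO, hzO, hOa⟩ := exists_genSet_closed_point hL h hzc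
  exact hz (Set.mem_iUnion.2 ⟨⟨O, hO, hOa⟩, hzO⟩)

end Groth.Agent.Coh69.AmpleCrit
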