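import Groth.Agent.Coh69.FibreAmple
import Groth.Agent.Coh69.AmpleCrit
import Groth.Agent.LimTop61.RelAmpleStage
import Groth.Agent.LimTop61.StalkLimit
import Groth.Agent.FlatMor67.AmpleProjSpace

/-! A module ample on a fibre is relatively ample near that point. -/

set_option autoImplicit false
set_option maxSynthPendingDepth 6
set_option linter.style.haveILetI false
set_option maxHeartbeats 1000000
set_option backward.isDefEq.respectTransparency.types false

universe u

noncomputable section

open CategoryTheory CategoryTheory.Limits AlgebraicGeometry TopologicalSpace Opposite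

namespace Groth.Agent.Coh69.AmpleNhd

/-- Over a Noetherian local base, a module ample on the closed fibre is ample. -/
theorem isAmple_local {B : Type u} [CommRing B] [IsNoetherianRing B] [IsLocalRing B]
    {Y : Scheme.{u}} [Y.Over (Spec (CommRingCat.of B))] [IsProper (Y ↘ Spec (CommRingCat.of B))]
    (L : Y.Modules) (hL : PicF.IsInvertible L)
    (ha : CohB1.IsAmple ((Scheme.Modules.pullback
      (CohB1.thickι (Y ↘ Spec (CommRingCat.of B)) (IsLocalRing.maximalIdeal B) 0)).obj L)) :
    CohB1.IsAmple L := by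
  haveI : CompactSpace Y := QuasiCompact.compactSpace_of_compactSpace (Y ↘ Spec (CommRingCat.of B))
  haveI : IsLocallyNoetherian Y := LocallyOfFiniteType.isLocallyNoetherian (Y ↘ Spec (CommRingCat.of B))
  refine AmpleCrit.isAmple_of_vanishing hL fun I i hi hI => ?_
  haveI := hi
  haveI : I.IsQuasicoherent := hI
  haveI : (Coh.structureModule Y).IsQuasicoherent := QC70.isQuasicoherent_unit
  haveI : (Coh.structureModule Y).IsFiniteType := (Amp73.isCoh_of_isInvertible EGA73.isInvertible_structureModule).2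
  obtain ⟨n₀, hn⟩ := FibreAmple.exists_vanishing_local L hL I ⟨hI, QC70.isFiniteType_of_mono i⟩ ha
  exact ⟨n₀, hn (n₀ + 1) (Nat.le_succ _) 0⟩

/-- A module ample on a fibre is relatively ample near that point. -/
theorem exists_nhd {X Y : Scheme.{u}} (f : X ⟶ Y) [IsProper f] [AlgebraicGeometry.IsNoetherian Y]
    (L : X.Modules) (hL : PicF.IsInvertible L) (y : Y)
    (hy : CohB1.IsAmple ((Scheme.Modules.pullback (f.fiberι y)).obj L)) :
    ∃ V : Y.Opens, y ∈ V ∧ ∀ W : Y.Opens, W ≤ V → IsAffineOpen W →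
      CohB1.IsAmple (L.restrict (f ⁻¹ᵁ W).ι) := by
  let g := pullback.fst f (Y.fromSpecStalk y)
  letI : (pullback f (Y.fromSpecStalk y)).Over (Spec (CommRingCat.of (Y.presheaf.stalk y))) :=
    ⟨pullback.snd f (Y.fromSpecStalk y)⟩
  haveI : IsProper ((pullback f (Y.fromSpecStalk y)) ↘ Spec (CommRingCat.of (Y.presheaf.stalk y))) :=
    MorphismProperty.pullback_snd (P := @IsProper) f (Y.fromSpecStalk y) inferInstance
  obtain ⟨ha⟩ : Nonempty (PLift (CohB1.IsAmple ((Scheme.Modules.pullback g).obj L))) :=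
    ⟨⟨isAmple_local _ (Amp73.isInvertible_pullback g hL) (FibreAmple.isAmple_thick f L y g
      (pullback f (Y.fromSpecStalk y) ↘ Spec (CommRingCat.of (Y.presheaf.stalk y)))
      (IsPullback.of_hasPullback _ _) hy)⟩⟩
  let D := LimTop61.nhdSpec Y y
  let c := LimTop61.nhdCone Y y
  obtain ⟨O⟩ : Nonempty (LimTop61.AffineNhd Y y) := inferInstance
  let i₀ : (LimTop61.AffineNhd Y y)ᵒᵖ := op O
  let b : D.obj i₀ ⟶ Y := (LimTop61.nhdι Y y).app i₀
  let π₀ : Spec (Y.presheaf.stalk y) ⟶ D.obj i₀ := c.π.app i₀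
  haveI : CompactSpace (D.obj i₀) := inferInstanceAs (CompactSpace (Spec _))
  have hb : π₀ ≫ b = Y.fromSpecStalk y := LimTop61.nhdCone_π_ι Y y i₀
  let qX : pullback f (Y.fromSpecStalk y) ⟶ pullback f b :=
    pullback.lift g (pullback.snd f (Y.fromSpecStalk y) ≫ π₀)
      (by rw [Category.assoc, hb]; exact pullback.condition)
  have hX : IsPullback qX (pullback.snd f (Y.fromSpecStalk y)) (pullback.snd f b) π₀ := by
    refine IsPullback.of_right ?_ (pullback.lift_snd _ _ _) (IsPullback.of_hasPullback f b)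
    rw [hb, pullback.lift_fst]
    exact IsPullback.of_hasPullback _ _
  have hamp : RelAmple.IsRelAmple (pullback.snd f (Y.fromSpecStalk y))
      ((Scheme.Modules.pullback qX).obj ((Scheme.Modules.pullback (pullback.fst f b)).obj L)) :=
    Amp73.isRelAmple_of_iso
      ((LimTop61.pullbackCompIso (pullback.fst f b) qX (pullback.lift_fst _ _ _)).app L).symm
      (FlatMor67.AmpleProjSpace.isRelAmple_of_isAmple _ ha.down)
  obtain ⟨j, φ, Xj, Yj, fj, gj, pY, pX, hY', hX', hj⟩ := (LimTop61.isRelAmple_iff_stage D c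
    (LimTop61.isLimitNhdCone Y y) i₀ (pullback.snd f b) (𝟙 _) _
    (Amp73.isInvertible_pullback _ hL) (pullback.snd f (Y.fromSpecStalk y)) (𝟙 _) π₀ qX
    (IsPullback.id_vert (c.π.app i₀)) hX).mp hamp
  haveI : IsIso gj := hY'.isIso_snd_of_isIso
  let bj : D.obj j ⟶ Y := (LimTop61.nhdι Y y).app j
  have e : pY ≫ b = gj ≫ bj := by
    have h1 := hY'.w
    rw [Category.comp_id] at h1
    rw [h1, Category.assoc]
    exact congrArg (gj ≫ ·) (((LimTop61.nhdι Y y).naturality φ).trans (Category.comp_id _))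
  have hsq : IsPullback (pX ≫ pullback.fst f b) fj f (gj ≫ bj) :=
    e ▸ hX'.paste_horiz (IsPullback.of_hasPullback f b)
  let V := (OrderDual.ofDual j.unop).1.1
  haveI : IsOpenImmersion bj := inferInstanceAs (IsOpenImmersion (OrderDual.ofDual j.unop).1.2.fromSpec)
  haveI : IsOpenImmersion (gj ≫ bj) := inferInstance
  haveI hh : IsOpenImmersion (pX ≫ pullback.fst f b) :=
    MorphismProperty.of_isPullback hsq.flip ‹IsOpenImmersion (gj ≫ bj)›
  have hr : Set.range (pX ≫ pullback.fst f b) = f ⁻¹' (V : Set Y) := by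
    rw [← hsq.isoPullback_hom_fst, Scheme.Hom.comp_base, TopCat.coe_comp, Set.range_comp,
      Set.range_eq_univ.2 hsq.isoPullback.hom.surjective, Set.image_univ, Scheme.Pullback.range_fst,
      Scheme.Hom.comp_base, TopCat.coe_comp, Set.range_comp, Set.range_eq_univ.2 gj.surjective,
      Set.image_univ]
    exact congrArg (f ⁻¹' ·) (OrderDual.ofDual j.unop).1.2.range_fromSpec
  haveI : IsAffine (D.obj j) := inferInstanceAs (IsAffine (Spec _))
  haveI : IsAffine Yj := .of_isIso gj
  haveI := hj.1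
  have hja : CohB1.IsAmple (L.restrict (pX ≫ pullback.fst f b)) :=
    Amp73.isAmple_of_iso ((LimTop61.pullbackCompIso (pullback.fst f b) pX rfl).app L ≪≫
      ((Scheme.Modules.restrictFunctorIsoPullback (pX ≫ pullback.fst f b)).app L).symm)
      ((Amp73.isRelAmple_iff_isAmple fj).1 hj)
  refine ⟨V, (OrderDual.ofDual j.unop).2, fun W hW hWa => ?_⟩
  haveI : CompactSpace (f ⁻¹ᵁ W).toScheme :=
    isCompact_iff_compactSpace.1 (f.isCompact_preimage hWa.isCompact)
  refine Amp73.isAmple_restrict_mono _ (pX ≫ pullback.fst f b) ?_ hja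
  rw [hr, Scheme.Opens.range_ι]
  exact fun x hx => hW hx

end Groth.Agent.Coh69.AmpleNhd
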