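import Groth.Agent.Coh69.QcInd
import Groth.Agent.TopCoh49.Rpush

universe u

open CategoryTheory Limits AlgebraicGeometry Opposite TopologicalSpace

namespace Groth.Agent.Coh69

/-- Induction on quasi-compact opens inside a quasi-separated open subscheme. -/
theorem qc_induction_within {X : Scheme.{u}} (W : X.Opens) [QuasiSeparatedSpace W.toScheme]
    (P : X.Opens → Prop) (h₁ : ∀ U ≤ W, IsAffineOpen U → P U)
    (h₂ : ∀ U V : X.Opens, U ≤ W → V ≤ W → P U → P V → P (U ⊓ V) → P (U ⊔ V))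
    (U : X.Opens) (hUW : U ≤ W) (hU : IsCompact (U : Set X)) : P U := by
  have him : ∀ T : W.toScheme.Opens, W.ι ''ᵁ T ≤ W := fun T => W.ι_image_le T
  have key : W.ι ''ᵁ (W.ι ⁻¹ᵁ U) = U := by
    rw [Scheme.Hom.image_preimage_eq_opensRange_inf, Scheme.Opens.opensRange_ι,
      inf_eq_right.2 hUW]
  rw [← key]
  refine qc_induction (fun T : W.toScheme.Opens => P (W.ι ''ᵁ T))
    (fun T hT => h₁ _ (him T) (hT.image_of_isOpenImmersion W.ι)) ?_ _ ?_
  · intro S T _ _ hS hT hI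
    have hsup : W.ι ''ᵁ (S ⊔ T) = (W.ι ''ᵁ S) ⊔ (W.ι ''ᵁ T) := Opens.ext (Set.image_union _ _ _)
    rw [hsup]
    refine h₂ _ _ (him S) (him T) hS hT ?_
    have hinf : W.ι ''ᵁ (S ⊓ T) = (W.ι ''ᵁ S) ⊓ (W.ι ''ᵁ T) :=
      Opens.ext (Set.image_inter W.ι.isOpenEmbedding.injective)
    rw [← hinf]
    exact hI
  · have hpre := W.ι.isOpenEmbedding.isInducing
    refine hpre.isCompact_iff.2 ?_
    have e : (W.ι.base : W.toScheme → X) '' (W.ι ⁻¹ᵁ U : W.toScheme.Opens) = (U : Set X) :=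
      congrArg SetLike.coe key
    exact e ▸ hU

variable {X S : Scheme.{u}} (f : X ⟶ S)

/-- A higher direct image vanishes if cohomology vanishes over small opens of the base. -/
theorem isZero_RpushAb_of_subsingleton (F : Sheaf (Opens.grothendieckTopology X) AddCommGrpCat.{u})
    (n : ℕ)
    (h : ∀ (U : S.Opens) (y : S), y ∈ U → ∃ V : S.Opens, V ≤ U ∧ y ∈ V ∧
      Subsingleton (HE F n (f ⁻¹ᵁ V))) :
    IsZero ((Coh.RpushAb f n).obj F) :=
  TopCoh49.isZero_Rpush_of_locally_zero f.base F n fun U _ y hy => by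
    obtain ⟨V, hVU, hyV, hV⟩ := h U y hy
    exact ⟨V, hVU, hyV, hV.elim _ _⟩

/-- Vanishing of higher direct images along affine morphisms. -/
theorem isZero_RpushAb_of_isAffineHom [IsAffineHom f] (M : X.Modules) [M.IsQuasicoherent] (n : ℕ) :
    IsZero ((Coh.RpushAb f (n + 1)).obj (Coh.toAb M)) :=
  isZero_RpushAb_of_subsingleton f _ _ fun U y hy => by
    obtain ⟨_, ⟨V, hV, rfl⟩, hyV, hVU⟩ := S.isBasis_affineOpens.exists_subset_of_mem_open hy U.2
    exact ⟨V, hVU, hyV, qcoh_subsingleton_HE M (IsAffineOpen.preimage hV f) n⟩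

/-- Uniform bound over the basic opens of an affine open of the base. -/
theorem exists_bound_preimage_basicOpen [QuasiCompact f] [QuasiSeparated f] {V : S.Opens}
    (hV : IsAffineOpen V) :
    ∃ d : ℕ, ∀ (M : X.Modules), M.IsQuasicoherent → ∀ (g : Γ(S, V)) (p : ℕ), d ≤ p →
      Subsingleton (HE (Coh.toAb M) p (f ⁻¹ᵁ S.basicOpen g)) := by
  have : IsAffine V.toScheme := hV
  have : QuasiSeparatedSpace (f ⁻¹ᵁ V).toScheme := quasiSeparatedSpace_of_quasiSeparated (f ∣_ V)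
  have main := qc_induction_within (f ⁻¹ᵁ V) (fun U => ∃ d : ℕ, ∀ (M : X.Modules), M.IsQuasicoherent →
    ∀ (g : Γ(S, V)) (p : ℕ), d ≤ p →
      Subsingleton (HE (Coh.toAb M) p (U ⊓ f ⁻¹ᵁ S.basicOpen g))) ?_ ?_ (f ⁻¹ᵁ V) le_rfl
      (f.isCompact_preimage hV.isCompact)
  · obtain ⟨d, hd⟩ := main
    refine ⟨d, fun M hM g p hp => ?_⟩
    have := hd M hM g p hp
    rwa [inf_eq_right.2 (f.preimage_mono (S.basicOpen_le g))] at this
  · refine fun U hU hUa => ⟨1, fun M hM g p hp => ?_⟩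
    obtain ⟨m, rfl⟩ : ∃ m, p = m + 1 := ⟨p - 1, by omega⟩
    rw [Scheme.preimage_basicOpen, ← X.basicOpen_res _ (homOfLE hU).op]
    exact qcoh_subsingleton_HE M (hUa.basicOpen _) m
  · rintro U T - - ⟨a, ha⟩ ⟨b, hb⟩ ⟨c, hc⟩
    refine ⟨a + b + c + 1, fun M hM g p hp => ?_⟩
    obtain ⟨m, rfl⟩ : ∃ m, p = m + 1 := ⟨p - 1, by omega⟩
    rw [inf_sup_right]
    refine subsingleton_HE_sup _ _ _ m ?_ (ha M hM g _ (by omega)) (hb M hM g _ (by omega))
    have e : U ⊓ f ⁻¹ᵁ S.basicOpen g ⊓ (T ⊓ f ⁻¹ᵁ S.basicOpen g) = U ⊓ T ⊓ f ⁻¹ᵁ S.basicOpen g := by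
      ac_rfl
    rw [e]
    exact hc M hM g m (by omega)

/-- Uniform vanishing of higher direct images. -/
theorem exists_bound_RpushAb [QuasiCompact f] [QuasiSeparated f] [CompactSpace S] :
    ∃ n : ℕ, ∀ (M : X.Modules), M.IsQuasicoherent → ∀ p : ℕ, n ≤ p →
      IsZero ((Coh.RpushAb f p).obj (Coh.toAb M)) := by
  choose d hd using fun j : S.affineCover.finiteSubcover.I₀ =>
    exists_bound_preimage_basicOpen f
      (isAffineOpen_opensRange (S.affineCover.finiteSubcover.f j))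
  obtain ⟨N, hN⟩ := (Set.finite_range d).bddAbove
  refine ⟨N, fun M hM p hp => isZero_RpushAb_of_subsingleton f _ _ fun U y hy => ?_⟩
  obtain ⟨j, z, hz⟩ := S.affineCover.finiteSubcover.exists_eq y
  obtain ⟨g, hgU, hyg⟩ := (isAffineOpen_opensRange (S.affineCover.finiteSubcover.f j)).exists_basicOpen_le
    ⟨y, hy⟩ ⟨z, hz⟩
  exact ⟨_, hgU, hyg, hd j M hM g p ((hN (Set.mem_range_self j)).trans hp)⟩

end Groth.Agent.Coh69
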