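import Groth.Agent.Coh69.FibreAmple
import Groth.Agent.TopCoh49.Noetherian

/-! Higher direct images vanish at a point above the dimension of the fibre. -/

set_option autoImplicit false
set_option maxSynthPendingDepth 6
set_option linter.style.haveILetI false
set_option maxHeartbeats 1000000
set_option synthInstance.maxHeartbeats 200000
set_option backward.isDefEq.respectTransparency.types false

universe u

noncomputable section

open CategoryTheory CategoryTheory.Limits AlgebraicGeometry TopologicalSpace Opposite Topology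

namespace Groth.Agent.Coh69.FibreDim

theorem range_thickι {B : Type u} [CommRing B] {Y : Scheme.{u}} (h : Y ⟶ Spec (CommRingCat.of B))
    (I : Ideal B) (k : ℕ) :
    Set.range (CohB1.thickι h I k) = h ⁻¹' PrimeSpectrum.zeroLocus (I : Set B) := by
  have e : Set.range (CohB1.specQuot I k) = PrimeSpectrum.zeroLocus (I : Set B) := by
    refine (range_comap_of_surjective (B ⧸ I ^ (k + 1))
      (Ideal.Quotient.mk (I ^ (k + 1))) Ideal.Quotient.mk_surjective).trans ?_
    rw [Ideal.mk_ker, PrimeSpectrum.zeroLocus_pow _ (Nat.succ_ne_zero k)]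
  rw [← e]
  exact Scheme.Pullback.range_fst h _

theorem topologicalKrullDim_thick_eq {B : Type u} [CommRing B] {Y : Scheme.{u}}
    (h : Y ⟶ Spec (CommRingCat.of B)) (I : Ideal B) (k : ℕ) :
    topologicalKrullDim ↥(CohB1.thick h I k) = topologicalKrullDim ↥(CohB1.thick h I 0) := by
  haveI : ∀ l, IsClosedImmersion (CohB1.specQuot I l) := fun l =>
    IsClosedImmersion.spec_of_surjective _ Ideal.Quotient.mk_surjective
  have hemb : ∀ l, IsEmbedding (CohB1.thickι h I l) := fun l =>
    haveI : IsClosedImmersion (CohB1.thickι h I l) :=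
      MorphismProperty.pullback_fst (P := @IsClosedImmersion) _ _ inferInstance
    (CohB1.thickι h I l).isClosedEmbedding.isEmbedding
  let e : ↥(CohB1.thick h I k) ≃ₜ ↥(CohB1.thick h I 0) :=
    ((hemb k).toHomeomorph.trans
      (Homeomorph.setCongr ((range_thickι h I k).trans (range_thickι h I 0).symm))).trans
      (hemb 0).toHomeomorph.symm
  exact e.isHomeomorph.topologicalKrullDim_eq _

/-- Over a Noetherian local base, cohomology vanishes above the dimension of the closed fibre. -/
theorem subsingleton_local {B : Type u} [CommRing B] [IsNoetherianRing B] [IsLocalRing B]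
    {Y : Scheme.{u}} [Y.Over (Spec (CommRingCat.of B))] [IsProper (Y ↘ Spec (CommRingCat.of B))]
    (G : Y.Modules) (hG : Coh.IsCoh G) (d : ℕ)
    (hd : topologicalKrullDim ↥(CohB1.thick (Y ↘ Spec (CommRingCat.of B)) (IsLocalRing.maximalIdeal B) 0) ≤ d)
    (q : ℕ) (hq : d < q + 1) : Subsingleton (Coh.HH Y G (q + 1)) := by
  let m := IsLocalRing.maximalIdeal B
  let h := Y ↘ Spec (CommRingCat.of B)
  refine ThickCoh.subsingleton_hh_of_thickenings m le_rfl G hG q fun k => ?_
  haveI : IsClosedImmersion (CohB1.specQuot m k) :=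
    IsClosedImmersion.spec_of_surjective _ Ideal.Quotient.mk_surjective
  haveI : IsClosedImmersion (CohB1.thickι h m k) :=
    MorphismProperty.pullback_fst (P := @IsClosedImmersion) _ _ inferInstance
  haveI : CompactSpace Y := QuasiCompact.compactSpace_of_compactSpace h
  haveI : IsLocallyNoetherian Y := LocallyOfFiniteType.isLocallyNoetherian h
  haveI : AlgebraicGeometry.IsNoetherian Y := ⟨⟩
  haveI : NoetherianSpace (CohB1.thick h m k) :=
    (CohB1.thickι h m k).isClosedEmbedding.isInducing.noetherianSpace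
  exact TopCoh49.subsingleton_H_of_dim_lt (X := (CohB1.thick h m k).toPresheafedSpace.carrier) (d := d)
    ((topologicalKrullDim_thick_eq h m k).le.trans hd) _ (q + 1) hq

/-- The stalks of higher direct images vanish above the fibre dimension. -/
theorem isZero_stalk {X Y : Scheme.{u}} (f : X ⟶ Y) [IsProper f] [IsLocallyNoetherian Y] (y : Y) (d : ℕ)
    (hd : topologicalKrullDim ↥(f.fiber y) ≤ d) (M : X.Modules) (hM : Coh.IsCoh M) (p : ℕ) (hp : d < p) :
    IsZero (TopCat.Presheaf.stalk ((Coh.RpushAb f p).obj (Coh.toAb M)).obj y) := by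
  obtain ⟨q, rfl⟩ : ∃ q, p = q + 1 := ⟨p - 1, by omega⟩
  let g := pullback.fst f (Y.fromSpecStalk y)
  letI : (pullback f (Y.fromSpecStalk y)).Over (Spec (CommRingCat.of (Y.presheaf.stalk y))) :=
    ⟨pullback.snd f (Y.fromSpecStalk y)⟩
  haveI : IsProper ((pullback f (Y.fromSpecStalk y)) ↘ Spec (CommRingCat.of (Y.presheaf.stalk y))) :=
    MorphismProperty.pullback_snd (P := @IsProper) f (Y.fromSpecStalk y) inferInstance
  have hsq : IsPullback g (pullback f (Y.fromSpecStalk y) ↘ Spec (CommRingCat.of (Y.presheaf.stalk y))) f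
      (Y.fromSpecStalk y) := IsPullback.of_hasPullback _ _
  obtain ⟨e₀, -⟩ := FibreAmple.exists_iso_fibre f y g _ hsq
  have hd' := (e₀.hom.homeomorph.isHomeomorph.topologicalKrullDim_eq _).le.trans hd
  haveI := hM.1
  haveI := subsingleton_local _ (FibreAmple.isCoh_pullback' g hM) d hd' q hp
  obtain ⟨e⟩ := RB70.nonempty_stalk_rpush_equiv f M y (q + 1) (pullback f (Y.fromSpecStalk y)) g hsq
  haveI : Subsingleton (((Coh.Rpush f (q + 1)).obj M).presheaf.stalk y) := e.toEquiv.subsingleton
  obtain ⟨e''⟩ := GSS45.nonempty_toAb_Rpush f M (q + 1)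
  exact (AddCommGrpCat.isZero_of_subsingleton (((Coh.Rpush f (q + 1)).obj M).presheaf.stalk y)).of_iso
    ((TopCat.Presheaf.stalkFunctor AddCommGrpCat y).mapIso
      ((TopCat.Sheaf.forget AddCommGrpCat Y.toTopCat).mapIso e''.symm))

end Groth.Agent.Coh69.FibreDim
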