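import Groth.Agent.Serre71.Cohom
import Groth.Agent.Serre69.Lifts
import Mathlib.AlgebraicGeometry.Noetherian

set_option autoImplicit false
set_option backward.isDefEq.respectTransparency.types false

/-! Ascending chain condition for quasi-coherent submodules of coherent modules. -/

noncomputable section

universe u

open CategoryTheory CategoryTheory.Limits AlgebraicGeometry TopologicalSpace Opposite

namespace Groth.Agent.Coh69

open QC70

theorem acc_qcoh_sub {X : Scheme.{u}} [IsNoetherian X] (M : X.Modules) (hM : Coh.IsCoh M)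
    (F : ℕ →o Subobject M) (hF : ∀ n, Coh.IsQCoh ((F n : Subobject M) : X.Modules)) :
    ∃ n : ℕ, ∀ m : ℕ, n ≤ m → F m = F n := by
  classical
  obtain ⟨_, _⟩ := hM
  obtain ⟨κ, _, W, -, hW⟩ := Serre69.exists_finite_affine_cover (U := (⊤ : X.Opens)) isCompact_univ
  have := fun k => IsLocallyNoetherian.component_noetherian (W k)
  have := fun k => finite_sections_of_isFiniteType M (W k).2
  let R : ∀ k, ℕ →o Submodule Γ(X, (W k).1) Γ(M, (W k).1) := fun k =>
    ⟨fun n => LinearMap.range (appLinear (F n).arrow (W k).1), fun a b hab x ⟨y, hy⟩ =>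
      ⟨(Subobject.ofLE (F a) (F b) (F.mono hab)).app _ y, by
        have e := congr((Scheme.Modules.Hom.app $(Subobject.ofLE_arrow (F.mono hab)) (W k).1) y)
        exact e.trans hy⟩⟩
  have hex : ∀ k, ∃ n, ∀ m, n ≤ m → R k n = R k m := fun k =>
    monotone_stabilizes_iff_noetherian.mpr inferInstance (R k)
  choose N hN using hex
  obtain ⟨n, hn⟩ := (Set.finite_range N).bddAbove
  refine ⟨n, fun m hm => le_antisymm ?_ (F.mono hm)⟩
  let φ := Subobject.ofLE (F n) (F m) (F.mono hm)
  have hφ : Epi φ := by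
    refine Serre71.epi_of_app_surjective φ (fun k => (W k).1) (top_le_iff.mp hW) (fun k => (W k).2)
      (fun k => by have := hF m; exact isLocAt_of_isQuasicoherent _ (W k).2) fun k y => ?_
    have hk : R k n = R k m := ((hN k n (hn ⟨k, rfl⟩)).symm.trans (hN k m ((hn ⟨k, rfl⟩).trans hm)))
    obtain ⟨z, hz⟩ : (F m).arrow.app _ y ∈ R k n := hk.symm ▸ ⟨y, rfl⟩
    refine ⟨z, app_injective_of_mono (F m).arrow _ ?_⟩
    have e := congr((Scheme.Modules.Hom.app $(Subobject.ofLE_arrow (F.mono hm)) (W k).1) z)
    exact e.trans hz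
  have : IsIso φ := isIso_of_mono_of_epi φ
  exact Subobject.le_of_comm (inv φ) (by rw [IsIso.inv_comp_eq, Subobject.ofLE_arrow])

end Groth.Agent.Coh69
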