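import Groth.Agent.Coh69.AcyclicRes
import Groth.Agent.Coh69.LocCohom
import Groth.Agent.TopCoh49.Coh

universe u

open CategoryTheory Limits AlgebraicGeometry Opposite TopologicalSpace CategoryTheory.Abelian

namespace Groth.Agent.Coh69

variable {X : Scheme.{u}}

/-- A flasque resolution of a module by modules, cut into short exact sequences of sheaves. -/
structure FlRes (X : Scheme.{u}) where
  Z : ℕ → X.Modules
  I : ℕ → X.Modules
  ι : ∀ j, Z j ⟶ I j
  π : ∀ j, I j ⟶ Z (j + 1)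
  w : ∀ j, (SheafOfModules.toSheaf X.ringCatSheaf).map (ι j) ≫
    (SheafOfModules.toSheaf X.ringCatSheaf).map (π j) = 0
  shortExact : ∀ j, (ShortComplex.mk _ _ (w j)).ShortExact
  flasque : ∀ j, TopCat.Sheaf.IsFlasque
    (show TopCat.Sheaf AddCommGrpCat.{u} X.carrier from Coh.toAb (I j))

lemma smulAb_natural {M N : X.Modules} (φ : M ⟶ N) (g : Coh.Γtop X) :
    Coh.smulAb M g ≫ (SheafOfModules.toSheaf X.ringCatSheaf).map φ =
      (SheafOfModules.toSheaf X.ringCatSheaf).map φ ≫ Coh.smulAb N g := by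
  ext U m
  exact (φ.val.app U).hom.map_smul (Coh.resTop X U g) m

namespace FlRes

variable (R : FlRes X)

/-- The underlying resolution of abelian sheaves. -/
noncomputable def cosyz : Cosyz (Sheaf (Opens.grothendieckTopology X) AddCommGrpCat.{u}) where
  Z j := Coh.toAb (R.Z j)
  I j := Coh.toAb (R.I j)
  ι j := (SheafOfModules.toSheaf X.ringCatSheaf).map (R.ι j)
  π j := (SheafOfModules.toSheaf X.ringCatSheaf).map (R.π j)
  w := R.w
  shortExact := R.shortExact

/-- Multiplication by a global function on the resolution. -/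
noncomputable def smulEnd (g : Coh.Γtop X) : (R.cosyz).EndR where
  φ j := Coh.smulAb (R.Z j) g
  ψ j := Coh.smulAb (R.I j) g
  ι_comm j := (smulAb_natural (R.ι j) g).symm
  π_comm j := (smulAb_natural (R.π j) g).symm

lemma acyclic (U : X.Opens) (j k : ℕ) :
    Subsingleton (Ext.{u} (CohCx.freeSheaf (Opens.grothendieckTopology X) U) ((R.cosyz).I j) (k + 1)) :=
  @TopCoh49.subsingleton_E_of_isFlasque X.toTopCat k (Coh.toAb (R.I j)) (R.flasque j) U

/-- The class of a section of cycles. -/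
noncomputable def secExt (U : X.Opens) (p : ℕ) :
    Γ(R.Z p, U) →+ HE (Coh.toAb (R.Z 0)) p U :=
  ((R.cosyz).toExt (CohCx.freeSheaf (Opens.grothendieckTopology X) U) p).comp
    (SiteCoh.homAddEquivSec U (Coh.toAb (R.Z p))).symm.toAddMonoidHom

lemma secExt_res {U V : X.Opens} (h : V ≤ U) (p : ℕ) (s : Γ(R.Z p, U)) :
    (Ext.mk₀ (fmap (T := X.toTopCat) h)).comp (R.secExt U p s) (zero_add p) =
      R.secExt V p ((R.Z p).presheaf.map (homOfLE h).op s) :=
  ((R.cosyz).toExt_precomp _ p _).trans (congrArg ((R.cosyz).toExt _ p)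
    (SiteCoh.freeSheafMap_comp_symm (F := Coh.toAb (R.Z p)) (homOfLE h) s))

lemma secExt_smul (U : X.Opens) (g : Coh.Γtop X) (p : ℕ) (s : Γ(R.Z p, U)) :
    (R.secExt U p s).comp (Ext.mk₀ (Coh.smulAb (R.Z 0) g)) (add_zero p) =
      R.secExt U p ((Coh.smulAb (R.Z p) g).hom.app (op U) s) := by
  have h1 := (R.cosyz).toExt_postcomp (R.smulEnd g)
    (CohCx.freeSheaf (Opens.grothendieckTopology X) U) p
    ((SiteCoh.homAddEquivSec U (Coh.toAb (R.Z p))).symm s)
  have h2 := SiteCoh.homAddEquivSec_symm_comp (U := U) s (Coh.smulAb (R.Z p) g)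
  exact h1.trans (congrArg ((R.cosyz).toExt _ p) h2)

lemma secExt_surjective (U : X.Opens) (p : ℕ) : Function.Surjective (R.secExt U p) :=
  ((R.cosyz).toExt_surjective _ (R.acyclic U) p).comp
    (SiteCoh.homAddEquivSec U (Coh.toAb (R.Z p))).symm.surjective

lemma secExt_eq_zero_iff (U : X.Opens) (p : ℕ) (s : Γ(R.Z (p + 1), U)) :
    R.secExt U (p + 1) s = 0 ↔ ∃ t, (R.π p).app U t = s :=
  ((R.cosyz).toExt_eq_zero_iff _ (R.acyclic U) p _).trans
    (exists_sect_iff (S := (R.cosyz).S p) ((R.cosyz).S p).g U s)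

/-- The localisation properties of cycles modulo boundaries. -/
theorem loc_cycles [CompactSpace X] [QuasiSeparatedSpace X] [(R.Z 0).IsQuasicoherent]
    (g : Γ(X, ⊤)) (p : ℕ) :
    (∀ s : Γ(R.Z (p + 1), ⊤),
      (∃ t, (R.π p).app (X.basicOpen g) t =
        (R.Z (p + 1)).presheaf.map (homOfLE (le_top : X.basicOpen g ≤ ⊤)).op s) →
      ∃ (k : ℕ) (t : Γ(R.I p, ⊤)), (R.π p).app ⊤ t = g ^ k • s) ∧
    ∀ s' : Γ(R.Z (p + 1), X.basicOpen g), ∃ (k : ℕ) (s : Γ(R.Z (p + 1), ⊤)) (t : _),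
      (R.π p).app (X.basicOpen g) t =
        (R.Z (p + 1)).presheaf.map (homOfLE (le_top : X.basicOpen g ≤ ⊤)).op s -
          (X.presheaf.map (homOfLE (le_top : X.basicOpen g ≤ ⊤)).op g) ^ k • s' := by
  obtain ⟨hK, hS⟩ := locPair_cohomology (R.Z 0) g ⊤ (by rw [Opens.coe_top]; exact isCompact_univ)
    (p + 1) (X.basicOpen g) le_top (top_inf_eq _).symm
  have hsm : ∀ (U : X.Opens) (k : ℕ) (s : Γ(R.Z (p + 1), U)),
      extPow (Coh.smulAb (R.Z 0) g) _ (p + 1) k (R.secExt U (p + 1) s) =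
        R.secExt U (p + 1)
          (((X.presheaf.map (homOfLE (le_top : U ≤ ⊤)).op g) ^ k • s : Γ(R.Z (p + 1), U))) :=
    fun U k s => by
      rw [extPow_apply]
      erw [smulAb_endPow]
      refine (R.secExt_smul U _ _ s).trans (congrArg (R.secExt U (p + 1)) ?_)
      exact congrArg (fun z : Γ(X, U) => z • s)
        (map_pow (X.presheaf.map (homOfLE (le_top : U ≤ ⊤)).op).hom g k)
  constructor
  · intro s hs
    have h0 := (R.secExt_res le_top (p + 1) s).trans ((R.secExt_eq_zero_iff _ p _).2 hs)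
    obtain ⟨k, hk⟩ := hK _ h0
    obtain ⟨t, ht⟩ := (R.secExt_eq_zero_iff _ p _).1 ((hsm ⊤ k s).symm.trans hk)
    refine ⟨k, t, ht.trans ?_⟩
    rw [show X.presheaf.map (homOfLE (le_top : (⊤ : X.Opens) ≤ ⊤)).op g = g from
      congr($(X.presheaf.map_id (op ⊤)) g)]
  · intro s'
    obtain ⟨k, y, hy⟩ := hS (R.secExt _ (p + 1) s')
    obtain ⟨s, rfl⟩ := R.secExt_surjective ⊤ (p + 1) y
    refine ⟨k, s, (R.secExt_eq_zero_iff _ p _).1 ?_⟩
    rw [map_sub, sub_eq_zero]
    exact ((R.secExt_res le_top (p + 1) s).symm.trans hy).trans (hsm _ k s')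

end FlRes

end Groth.Agent.Coh69
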