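import Groth.Agent.Coh69.AffinePush
import Groth.Agent.ValVan29.Vanish
import Groth.Agent.QC70.CohOps
import Groth.Agent.QC70.Finite

/-! Embeddings of quasi-coherent modules into acyclic ones. -/

set_option autoImplicit false
set_option backward.isDefEq.respectTransparency.types false

noncomputable section

universe u

open CategoryTheory CategoryTheory.Limits AlgebraicGeometry TopologicalSpace Opposite

namespace Groth.Agent.Coh69

open QC70

theorem exists_mono_acyclic (X : Scheme.{u}) [CompactSpace X]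
    (hd : ∀ V W : X.Opens, IsAffineOpen V → IsAffineOpen W → IsAffineOpen (V ⊓ W))
    (M : X.Modules) [M.IsQuasicoherent] :
    ∃ (M' : X.Modules) (i : M ⟶ M'), Mono i ∧ M'.IsQuasicoherent ∧
      ∀ p : ℕ, 0 < p → Subsingleton (Coh.HH X M' p) := by
  obtain ⟨t, ht⟩ := isCompact_univ.elim_finite_subcover (fun W : X.affineOpens => (W.1 : Set X))
    (fun W => W.1.isOpen) (fun x _ => by
      obtain ⟨W, hW, hxW, -⟩ := exists_isAffineOpen_mem_and_subset (x := x) (U := ⊤) trivial
      exact Set.mem_iUnion.mpr ⟨⟨W, hW⟩, hxW⟩)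
  let U : Fin t.card → X.Opens := fun k => (t.equivFin.symm k).1.1
  have hU : ∀ k, IsAffineOpen (U k) := fun k => (t.equivFin.symm k).1.2
  have hcov : ∀ x : X, ∃ k, x ∈ U k := fun x => by
    obtain ⟨W, hW, hxW⟩ := Set.mem_iUnion₂.mp (ht (Set.mem_univ x))
    exact ⟨t.equivFin ⟨W, hW⟩, by simpa [U] using hxW⟩
  have hA : ∀ k, IsAffineHom (U k).ι := fun k => ⟨fun V hV => by
    rw [← (U k).ι.isAffineOpen_iff_of_isOpenImmersion, Scheme.Hom.image_preimage_eq_opensRange_inf,
      Scheme.Opens.opensRange_ι]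
    exact hd _ _ (hU k) hV⟩
  let F : Fin t.card → X.Modules := fun k =>
    (Scheme.Modules.pushforward (U k).ι).obj ((Scheme.Modules.restrictFunctor (U k).ι).obj M)
  let η : ∀ k, M ⟶ F k := fun k => (Scheme.Modules.restrictAdjunction (U k).ι).unit.app M
  have hF : ∀ k, (F k).IsQuasicoherent := fun k => by
    haveI := hA k
    exact QCqs72.isQuasicoherent_pushforward (M := (Scheme.Modules.restrictFunctor (U k).ι).obj M) (U k).ι
  have hFa : ∀ k p, 0 < p → Subsingleton (Coh.HH X (F k) p) := fun k p hp => by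
    haveI := hA k
    haveI : IsAffine (U k) := hU k
    obtain ⟨q, rfl⟩ : ∃ q, p = q + 1 := ⟨p - 1, by omega⟩
    obtain ⟨f⟩ := nonempty_hh_push (U k).ι ((Scheme.Modules.restrictFunctor (U k).ι).obj M) (q + 1)
    haveI := qcoh_subsingleton_HH ((Scheme.Modules.restrictFunctor (U k).ι).obj M) q
    exact f.symm.toEquiv.subsingleton
  refine ⟨⨁ F, biproduct.lift η, ?_, ?_, ?_⟩
  · refine Preadditive.mono_of_cancel_zero _ fun {N} g hg => ?_
    ext W z
    refine section_ext' M (fun k => W ⊓ U k) (fun k => inf_le_left) (fun x hx => ?_) _ _ fun k => ?_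
    · obtain ⟨k, hk⟩ := hcov x
      exact Opens.mem_iSup.mpr ⟨k, hx, hk⟩
    · have h1 : g ≫ η k = 0 := by
        rw [← biproduct.lift_π η k, ← Category.assoc, hg, zero_comp]
      have h2 : (η k).app W (g.app W z) = 0 := congr((Scheme.Modules.Hom.app $h1 W) z)
      have hle : W ⊓ U k ≤ (U k).ι ''ᵁ ((U k).ι ⁻¹ᵁ W) := by
        rw [Scheme.Hom.image_preimage_eq_opensRange_inf, Scheme.Opens.opensRange_ι, inf_comm]
      rw [Scheme.Modules.Hom.zero_app]
      refine Eq.trans ?_ (QC70.res_zero _).symm
      have h3 := (congrArg (QC70.res M hle) h2).trans (map_zero _)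
      refine Eq.trans ?_ h3
      simp only [η, Scheme.Modules.restrictAdjunction_unit_app_app]
      exact (QC70.res_res (M := M) _ _ _).symm
  · exact biproduct_induction (fun N : X.Modules => N.IsQuasicoherent)
      (fun _ => isQuasicoherent_of_isZero) (fun S hS h1 h3 => by
        haveI := h1
        haveI := h3
        exact isQuasicoherent_X₂ S hS) F hF
  · exact fun p hp => biproduct_induction (fun N : X.Modules => Subsingleton (Coh.HH X N p))
      (fun _ h => ValVan29.subsingleton_hh_of_isZero h p)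
      (fun S hS h1 h3 => ValVan29.subsingleton_hh_X₂ hS p h1 h3) F (fun k => hFa k p hp)

end Groth.Agent.Coh69
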