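import Groth.Agent.Coh69.AmpleCrit
import Groth.Agent.QC70.DevissageAux
import Groth.Agent.RB70.AmpleVanish
import Groth.Agent.Amp73.QA
import Groth.Agent.ValVan29.PushTwist
import Groth.Agent.QC70.PushFinite

/-! Ampleness descends along finite surjective morphisms of proper schemes. -/

set_option autoImplicit false
set_option maxSynthPendingDepth 6
set_option linter.style.haveILetI false
set_option maxHeartbeats 1000000
set_option backward.isDefEq.respectTransparency.types false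

universe u

noncomputable section

open CategoryTheory CategoryTheory.Limits AlgebraicGeometry TopologicalSpace Opposite CategoryTheory.Abelian

namespace Groth.Agent.Coh69.AmpleFinite

open QC70

theorem exists_iso_pushforward_idealMul {X Z : Scheme.{u}} [IsLocallyNoetherian X] (i : Z ⟶ X) [IsAffineHom i]
    (H : Z.Modules) [IsLocallyNoetherian Z] [H.IsQuasicoherent]
    (J : X.IdealSheafData) :
    ∃ e : (Scheme.Modules.pushforward i).obj ((Dual3.idealMul (J.comap i)).obj H) ≅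
        (Dual3.idealMul J).obj ((Scheme.Modules.pushforward i).obj H),
      e.hom ≫ Dual3.idealMulι J _ =
        (Scheme.Modules.pushforward i).map (Dual3.idealMulι (J.comap i) H) := by
  haveI := QCqs72.isQuasicoherent_pushforward (M := H) i
  haveI := isQuasicoherent_idealMul (J.comap i) H
  haveI := QCqs72.isQuasicoherent_pushforward (M := (Dual3.idealMul (J.comap i)).obj H) i
  haveI := (Scheme.Modules.pullbackPushforwardAdjunction i).rightAdjoint_preservesLimits
  let f := (Scheme.Modules.pushforward i).map (Dual3.idealMulι (J.comap i) H)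
  haveI : Mono f := inferInstance
  have hr : ∀ (W : X.affineOpens) (x : Γ(H, i ⁻¹ᵁ W.1)),
      x ∈ ((J.comap i).ideal ⟨i ⁻¹ᵁ W.1, W.2.preimage i⟩ • ⊤ :
          Submodule Γ(Z, i ⁻¹ᵁ W.1) Γ(H, i ⁻¹ᵁ W.1)) ↔
        (x : Γ((Scheme.Modules.pushforward i).obj H, W.1)) ∈ (J.ideal W • ⊤ :
          Submodule Γ(X, W.1) Γ((Scheme.Modules.pushforward i).obj H, W.1)) := by
    intro W x
    rw [ideal_comap_preimage]
    constructor
    · refine fun hx => Submodule.smul_induction_on
        (p := fun y : Γ(H, i ⁻¹ᵁ W.1) => (y : Γ((Scheme.Modules.pushforward i).obj H, W.1)) ∈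
          (J.ideal W • ⊤ : Submodule Γ(X, W.1) Γ((Scheme.Modules.pushforward i).obj H, W.1)))
        hx (fun a ha y _ => ?_) (fun _ _ hy hz => add_mem hy hz)
      rw [Ideal.map] at ha
      induction ha using Submodule.span_induction generalizing y with
      | mem a ha =>
        obtain ⟨b, hb, rfl⟩ := ha
        let y' : Γ((Scheme.Modules.pushforward i).obj H, W.1) := y
        have h0 : b • y' ∈ (J.ideal W • ⊤ :
            Submodule Γ(X, W.1) Γ((Scheme.Modules.pushforward i).obj H, W.1)) :=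
          Submodule.smul_mem_smul hb Submodule.mem_top
        exact (congrArg (fun z : Γ((Scheme.Modules.pushforward i).obj H, W.1) =>
          z ∈ (J.ideal W • ⊤ : Submodule Γ(X, W.1) Γ((Scheme.Modules.pushforward i).obj H, W.1)))
            (QCqs72.pushforward_smul (M := H) i b y')).mp h0
      | zero => rw [zero_smul]; exact zero_mem _
      | add a a' _ _ h h' => rw [add_smul]; exact add_mem (h y trivial) (h' y trivial)
      | smul c a _ h => rw [smul_eq_mul, mul_comm, mul_smul]; exact h (c • y) trivial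
    · refine fun hx => Submodule.smul_induction_on
        (p := fun y : Γ((Scheme.Modules.pushforward i).obj H, W.1) => (y : Γ(H, i ⁻¹ᵁ W.1)) ∈
          ((J.ideal W).map (i.app W.1).hom • ⊤ : Submodule Γ(Z, i ⁻¹ᵁ W.1) Γ(H, i ⁻¹ᵁ W.1)))
        hx (fun a ha y _ => ?_) (fun _ _ hy hz => add_mem hy hz)
      let y' : Γ(H, i ⁻¹ᵁ W.1) := y
      have h0 : i.app W.1 a • y' ∈ ((J.ideal W).map (i.app W.1).hom • ⊤ :
          Submodule Γ(Z, i ⁻¹ᵁ W.1) Γ(H, i ⁻¹ᵁ W.1)) :=
        Submodule.smul_mem_smul (Ideal.mem_map_of_mem (i.app W.1).hom ha) Submodule.mem_top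
      exact (congrArg (fun z : Γ(H, i ⁻¹ᵁ W.1) => z ∈ ((J.ideal W).map (i.app W.1).hom • ⊤ :
          Submodule Γ(Z, i ⁻¹ᵁ W.1) Γ(H, i ⁻¹ᵁ W.1)))
          (QCqs72.pushforward_smul (M := H) i a y)).mpr h0
  obtain ⟨a, ha⟩ := exists_lift_of_mono f (Dual3.idealMulι J _) (fun W : X.affineOpens => W.1)
    (iSup_affineOpens_eq_top X) (fun W => W.2) (fun W => isLocAt_of_isQuasicoherent _ W.2)
    fun W x => (mem_idealMul_iff J _ W _).mpr ((hr W _).mp
      ((mem_idealMul_iff (J.comap i) H ⟨i ⁻¹ᵁ W.1, W.2.preimage i⟩ _).mp ⟨x, rfl⟩))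
  obtain ⟨c, hc⟩ := exists_lift_of_mono (Dual3.idealMulι J _) f (fun W : X.affineOpens => W.1)
    (iSup_affineOpens_eq_top X) (fun W => W.2) (fun W => isLocAt_idealMul J _ W.2) fun W x => by
      obtain ⟨d, hd⟩ := (mem_idealMul_iff (J.comap i) H ⟨i ⁻¹ᵁ W.1, W.2.preimage i⟩ _).mpr
        ((hr W _).mpr ((mem_idealMul_iff J _ W _).mp ⟨x, rfl⟩))
      exact ⟨d, hd⟩
  refine ⟨⟨a, c, ?_, ?_⟩, ha⟩
  · rw [← cancel_mono f, Category.assoc, hc, ha, Category.id_comp]
  · rw [← cancel_mono (Dual3.idealMulι J _), Category.assoc, ha, hc, Category.id_comp]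

/-- A retract of a module without cohomology has none. -/
theorem subsingleton_hh_of_retract {X : Scheme.{u}} {M N : X.Modules} (s : N ⟶ M) (r : M ⟶ N) (hsr : s ≫ r = 𝟙 N)
    (q : ℕ) (h : Subsingleton (Coh.HH X M q)) : Subsingleton (Coh.HH X N q) := by
  refine ⟨fun x y => ?_⟩
  have h' : Subsingleton (Ext.{u} (Crv77.srcObj X) ((Crv77.toAbF X).obj M) q) := h
  have key : ∀ x : Ext.{u} (Crv77.srcObj X) ((Crv77.toAbF X).obj N) q, x = 0 := fun x => by
    rw [← Ext.comp_mk₀_id x, ← (Crv77.toAbF X).map_id, ← hsr, Functor.map_comp,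
      ← Crv77.ext_comp_comp, Subsingleton.elim (Ext.comp x (Ext.mk₀ _) (add_zero q)) 0, Ext.zero_comp]
  exact (key x).trans (key y).symm

variable {R : Type u} [CommRing R] [IsNoetherianRing R] {X Y : Scheme.{u}}
  (gX : X ⟶ Spec (CommRingCat.of R)) (gY : Y ⟶ Spec (CommRingCat.of R))

/-- High twists of `F` are acyclic. -/
def Good (L F : X.Modules) : Prop :=
  ∃ n₀ : ℕ, ∀ n, n₀ ≤ n → ∀ q : ℕ, 1 ≤ q →
    Subsingleton (Coh.HH X (CohB1.tensorMod F (CohB1.tensorPow L n)) q)

theorem good_X₂ {L : X.Modules} (hL : PicF.IsInvertible L) (S : ShortComplex X.Modules) (hS : S.ShortExact)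
    (h₁ : Good L S.X₁) (h₃ : Good L S.X₃) : Good L S.X₂ := by
  obtain ⟨n₁, hn₁⟩ := h₁
  obtain ⟨n₃, hn₃⟩ := h₃
  refine ⟨max n₁ n₃, fun n hn q hq => ?_⟩
  obtain ⟨T, hT, e₁, e₂, e₃⟩ := Crv77.shortExact_twist
    (Mero90.isFinLocFreeOfRank_of_isInvertible (EGA73.isInvertible_tensorPow hL n)) hS
  rw [← e₂]
  exact ValVan29.subsingleton_hh_X₂ hT q (e₁ ▸ hn₁ n (le_of_max_le_left hn) q hq)
    (e₃ ▸ hn₃ n (le_of_max_le_right hn) q hq)

theorem good_of_retract {L M N : X.Modules} (s : N ⟶ M) (r : M ⟶ N) (hsr : s ≫ r = 𝟙 N) (h : Good L M) :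
    Good L N := by
  obtain ⟨n₀, hn₀⟩ := h
  exact ⟨n₀, fun n hn q hq => subsingleton_hh_of_retract
    ((Crv77.twist (CohB1.tensorPow L n)).map s) ((Crv77.twist (CohB1.tensorPow L n)).map r)
    (((Crv77.twist (CohB1.tensorPow L n)).map_comp s r).symm.trans
      ((congrArg _ hsr).trans ((Crv77.twist (CohB1.tensorPow L n)).map_id N))) q (hn₀ n hn q hq)⟩

theorem good_of_isZero {L F : X.Modules} (hL : PicF.IsInvertible L) (h : IsZero F) : Good L F :=
  ⟨0, fun n _ q _ => ValVan29.subsingleton_hh_of_isZero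
    (ValVan29.isZero_tensorMod h (EGA73.isInvertible_tensorPow hL n)) q⟩

include gX in
theorem good_push [IsProper gX] {L : X.Modules} (hL : PicF.IsInvertible L) {Z : Scheme.{u}} (h : Z ⟶ X) [IsFinite h]
    (ha : CohB1.IsAmple ((Scheme.Modules.pullback h).obj L)) (H : Z.Modules) (hH : Coh.IsCoh H) :
    Good L ((Scheme.Modules.pushforward h).obj H) := by
  haveI : IsProper (h ≫ gX) := inferInstance
  haveI : IsLocallyNoetherian Z := LocallyOfFiniteType.isLocallyNoetherian (h ≫ gX)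
  obtain ⟨n₀, hn₀⟩ := RB70.exists_vanishing_ample (h ≫ gX) ha H hH
  refine ⟨n₀, fun n hn q hq => ?_⟩
  let e : CohB1.tensorMod H ((Scheme.Modules.pullback h).obj (CohB1.tensorPow L n)) ≅
      CohB1.tensorMod H (CohB1.tensorPow ((Scheme.Modules.pullback h).obj L) n) :=
    EGA73.tensIso (Iso.refl H) (Amp73.pullPowIso h hL n)
  haveI : (CohB1.tensorMod H ((Scheme.Modules.pullback h).obj (CohB1.tensorPow L n))).IsQuasicoherent :=
    Amp73.isQCoh_tensorMod hH.1 (Mero90.isQCoh_of_isInvertible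
      (Amp73.isInvertible_pullback h (EGA73.isInvertible_tensorPow hL n)))
  obtain ⟨e'⟩ := Coh69.nonempty_hh_push h
    (CohB1.tensorMod H ((Scheme.Modules.pullback h).obj (CohB1.tensorPow L n))) q
  haveI := ValVan29.subsingleton_hh_of_iso e.symm q (hn₀ n hn q hq)
  exact ValVan29.subsingleton_hh_of_iso (ValVan29.projIso h H _ (EGA73.isInvertible_tensorPow hL n)).symm q
    e'.symm.toEquiv.subsingleton

include gX gY in
theorem good_of_finite_surjective [IsProper gX] [IsProper gY] (f : Y ⟶ X) [IsFinite f] [Surjective f]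
    {L : X.Modules} (hL : PicF.IsInvertible L) (ha : CohB1.IsAmple ((Scheme.Modules.pullback f).obj L))
    (F : X.Modules) (hF : Coh.IsCoh F) : Good L F := by
  haveI : CompactSpace X := QuasiCompact.compactSpace_of_compactSpace gX
  haveI : IsLocallyNoetherian X := LocallyOfFiniteType.isLocallyNoetherian gX
  haveI : AlgebraicGeometry.IsNoetherian X := {}
  haveI : CompactSpace Y := QuasiCompact.compactSpace_of_compactSpace gY
  haveI : IsLocallyNoetherian Y := LocallyOfFiniteType.isLocallyNoetherian gY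
  refine QC70.devissage (Good L) ?_ (fun F hF => good_of_isZero hL hF) (fun S hS _ _ _ h1 h3 => good_X₂ hL S hS h1 h3)
    ?_ Set.univ isClosed_univ (fun y _ _ => ?_) F hF (Set.subset_univ _)
  · rintro M N ⟨e⟩ h
    exact good_of_retract e.inv e.hom e.inv_hom_id h
  · intro M r _ hr h
    exact good_of_retract (Sigma.ι (fun _ : Fin r => M) ⟨0, hr⟩)
      (Sigma.desc fun _ => 𝟙 M) (Sigma.ι_desc _ _) h
  obtain ⟨z, hz⟩ := f.surjective y
  obtain ⟨Z, j, hj, hZ, -, hjz⟩ := exists_integral_closed z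
  haveI := hj
  haveI := hZ
  haveI : IsLocallyNoetherian Z := LocallyOfFiniteType.isLocallyNoetherian j
  haveI : CompactSpace Z := QuasiCompact.compactSpace_of_compactSpace j
  let h : Z ⟶ X := j ≫ f
  haveI : IsFinite h := inferInstanceAs (IsFinite (j ≫ f))
  have hy : h (genericPoint Z) = y := by
    show f (j (genericPoint Z)) = y
    rw [hjz, hz]
  haveI : IsProper (h ≫ gX) := inferInstance
  have hha : CohB1.IsAmple ((Scheme.Modules.pullback h).obj L) :=
    Amp73.isAmple_of_iso ((Scheme.Modules.pullbackComp j f).app L)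
      (Amp73.isAmple_pullback j (Amp73.isQuasiAffine_of_isAffineHom _) ha)
  have hO := QC70.isCoh_unit (X := Z)
  haveI : (unitMod Z).IsQuasicoherent := hO.1
  let G := (Scheme.Modules.pushforward h).obj (unitMod Z)
  have hG : Coh.IsCoh G := QC70.isCoh_pushforward_of_isFinite h _ hO
  haveI := hG.1
  haveI : G.IsFiniteType := hG.2
  refine ⟨G, hG, ?_, ?_, fun J hJ => ⟨(Dual3.idealMul J).obj G, 𝟙 _, inferInstance, isCoh_idealMul J hG, ?_, ?_⟩⟩
  · refine nontrivial_of_ne (germM G ⊤ y trivial (show Γ(G, ⊤) from toUnit (1 : Γ(Z, h ⁻¹ᵁ ⊤)))) 0 fun he => ?_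
    obtain ⟨W, hW, hyW, h0⟩ := germM_eq_zero he
    have hzW : genericPoint Z ∈ h ⁻¹ᵁ W := show h (genericPoint Z) ∈ W by rw [hy]; exact hyW
    have h1 : resO Z (h.preimage_mono hW) (1 : Γ(Z, h ⁻¹ᵁ ⊤)) = 0 := h0
    have h2 := congrArg (Z.presheaf.germ (h ⁻¹ᵁ W) (genericPoint Z) hzW) h1
    rw [germ_resO, map_one, map_zero] at h2
    exact one_ne_zero h2
  · intro a ha' e
    obtain ⟨W, hyW, s, rfl⟩ := germM_exist e
    obtain ⟨W', hyW', b, rfl⟩ := TopCat.Presheaf.exists_germ_eq X.presheaf a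
    have hy' : y ∈ W ⊓ W' := ⟨hyW, hyW'⟩
    rw [← germM_res (inf_le_left : W ⊓ W' ≤ W) hy' s, ← germ_resO (inf_le_right : W ⊓ W' ≤ W') hy' b,
      ← germM_smul]
    refine (congrArg (germM G (W ⊓ W') y hy') ?_).trans (germM_zero hy')
    let b' := resO X (inf_le_right : W ⊓ W' ≤ W') b
    show b' • (show Γ(G, W ⊓ W') from QC70.res G inf_le_left s) = 0
    refine (QCqs72.pushforward_smul (M := unitMod Z) h b' _).trans ?_
    suffices hb : h.app (W ⊓ W') b' = 0 by
      rw [hb]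
      exact zero_smul Γ(Z, h ⁻¹ᵁ (W ⊓ W')) (show Γ(unitMod Z, h ⁻¹ᵁ (W ⊓ W')) from QC70.res G inf_le_left s)
    have hzW : genericPoint Z ∈ h ⁻¹ᵁ (W ⊓ W') := show h (genericPoint Z) ∈ W ⊓ W' by rw [hy]; exact hy'
    haveI : Nonempty (h ⁻¹ᵁ (W ⊓ W') : Z.Opens) := ⟨⟨_, hzW⟩⟩
    refine germ_injective_of_isIntegral Z _ hzW (Eq.trans ?_ (map_zero _).symm)
    by_contra hne
    let Kz := Z.functionField
    have hu : IsUnit (Z.presheaf.germ (h ⁻¹ᵁ (W ⊓ W')) (genericPoint Z) hzW (h.app _ b')) :=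
      isUnit_iff_ne_zero.2 (hne : (Z.presheaf.germ (h ⁻¹ᵁ (W ⊓ W')) (genericPoint Z) hzW (h.app _ b') : Kz) ≠ 0)
    rw [← Scheme.mem_basicOpen _ _ _ hzW, ← Scheme.preimage_basicOpen] at hu
    have hu' : y ∈ X.basicOpen b' := hy ▸ hu
    rw [Scheme.mem_basicOpen _ _ _ hy', germ_resO] at hu'
    exact (IsLocalRing.mem_maximalIdeal _).1 ha' hu'
  · rw [Category.id_comp]
    exact bijective_stalk_idealMulι J G hJ
  · obtain ⟨e, -⟩ := exists_iso_pushforward_idealMul h (unitMod Z) J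
    exact good_of_retract e.inv e.hom e.inv_hom_id (good_push gX hL h hha _ (isCoh_idealMul (J.comap h) hO))

include gX gY in
theorem isAmple_iff [IsProper gX] [IsProper gY] (f : Y ⟶ X) [IsFinite f] [Surjective f]
    {L : X.Modules} (hL : PicF.IsInvertible L) :
    CohB1.IsAmple L ↔ CohB1.IsAmple ((Scheme.Modules.pullback f).obj L) := by
  refine ⟨fun h => Amp73.isAmple_pullback f (Amp73.isQuasiAffine_of_isAffineHom _) h, fun h => ?_⟩
  haveI : CompactSpace X := QuasiCompact.compactSpace_of_compactSpace gX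
  haveI : IsLocallyNoetherian X := LocallyOfFiniteType.isLocallyNoetherian gX
  refine AmpleCrit.isAmple_of_vanishing hL fun I i hi hI => ?_
  haveI := hi
  haveI : I.IsQuasicoherent := hI
  haveI : (Coh.structureModule X).IsFiniteType := QC70.isCoh_unit.2
  haveI : (Coh.structureModule X).IsQuasicoherent := QC70.isCoh_unit.1
  obtain ⟨n₀, hn⟩ := good_of_finite_surjective gX gY f hL h I ⟨hI, QC70.isFiniteType_of_mono i⟩
  exact ⟨n₀, hn (n₀ + 1) (Nat.le_succ _) 1 le_rfl⟩

end Groth.Agent.Coh69.AmpleFinite
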