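import Groth.Agent.Div89.FreeStalks
import Groth.Agent.CAlg1.AB
import Groth.Agent.S0605
import Groth.Prelude.Def_CAlg
import Groth.Prelude.Def_CohB1

/-! Cohen-Macaulay coherent modules with full support on a regular scheme are locally free. -/

set_option autoImplicit false
set_option backward.isDefEq.respectTransparency.types false
set_option linter.style.haveILetI false

universe u

open CategoryTheory AlgebraicGeometry Opposite TopologicalSpace
open Groth.Agent.QC70 Groth.Agent.Props58.LocFree

namespace Groth.Agent.Coh69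

/-- A localisation of a finite module whose support is everything has full support over a domain. -/
theorem supportDim_eq_of_localized {C R M N : Type u} [CommRing C] [CommRing R] [Algebra C R] (P : Ideal C) [P.IsPrime]
    [IsLocalization.AtPrime R P] [IsDomain R] [AddCommGroup M] [Module C M] [Module.Finite C M] [AddCommGroup N]
    [Module C N] [Module R N] [IsScalarTower C R N] [Module.Finite R N] (l : M →ₗ[C] N)
    [IsLocalizedModule P.primeCompl l] (h : Module.support C M = Set.univ) :
    Module.supportDim R N = ringKrullDim R := by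
  have hann : Module.annihilator R N = ⊥ := by
    refine eq_bot_iff.2 fun r hr => ?_
    obtain ⟨⟨c, s⟩, hcs⟩ := IsLocalization.surj P.primeCompl r
    have hc : ∀ m : M, ∃ t : P.primeCompl, (t : C) • c • m = 0 := fun m => by
      have h0 : l (c • m) = 0 := by
        rw [map_smul, ← IsScalarTower.algebraMap_smul R c (l m), ← hcs, mul_comm r, mul_smul,
          Module.mem_annihilator.1 hr, smul_zero]
      obtain ⟨t, ht⟩ := (IsLocalizedModule.eq_zero_iff P.primeCompl l).1 h0
      exact ⟨t, ht⟩
    choose t ht using hc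
    obtain ⟨g, hg⟩ := (Module.finite_def.1 (inferInstance : Module.Finite C M))
    let u : C := ∏ m ∈ g, (t m : C)
    have hu : ∀ m : M, (u * c) • m = (0 : M) := fun m => by
      have hm : m ∈ Submodule.span C (g : Set M) := hg ▸ trivial
      induction hm using Submodule.span_induction with
      | mem x hx =>
        obtain ⟨v, hv⟩ : (t x : C) ∣ u := Finset.dvd_prod_of_mem _ hx
        rw [hv, mul_comm (t x : C) v, mul_assoc, ← smul_smul, ← smul_smul, ht, smul_zero]
      | zero => exact smul_zero _
      | add x y _ _ hx hy => rw [smul_add, hx, hy, add_zero]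
      | smul a x _ hx => rw [smul_comm, hx, smul_zero]
    have hnil : IsNilpotent (u * c) := nilpotent_iff_mem_prime.2 fun q hq => by
      have hmem : (⟨q, hq⟩ : PrimeSpectrum C) ∈ Module.support C M := h ▸ trivial
      rw [Module.support_eq_zeroLocus] at hmem
      exact hmem (Module.mem_annihilator.2 hu)
    have hz : algebraMap C R (u * c) = 0 := (hnil.map (algebraMap C R)).eq_zero
    rw [map_mul] at hz
    have hu' : IsUnit (algebraMap C R u) :=
      IsLocalization.map_units R (⟨u, prod_mem fun m _ => (t m).2⟩ : P.primeCompl)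
    rw [hu'.mul_right_eq_zero, ← hcs] at hz
    exact ((IsLocalization.map_units R s).mul_left_eq_zero).1 hz
  rw [Module.supportDim_eq_ringKrullDim_quotient_annihilator, hann]
  exact ringKrullDim_eq_of_ringEquiv (RingEquiv.quotientBot R)

variable (X : Scheme.{u}) [IsLocallyNoetherian X] (hreg : ∀ x : X, IsRegularLocalRing (X.presheaf.stalk x))
  (F : X.Modules) (hF : Coh.IsCoh F)

include hreg hF in
theorem cohenMacaulay_iff :
    (CohB1.support F = Set.univ ∧
        ∀ x : X, LocCoh.IsCohenMacaulayModule (X.presheaf.stalk x) ↑(F.presheaf.stalk x)) ↔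
      ∀ x : X, ∃ (U : X.Opens) (n : ℕ), x ∈ U ∧ 0 < n ∧
        Nonempty (F.restrict U.ι ≅ FlatMod.freeMod (↑U) n) := by
  haveI : F.IsQuasicoherent := hF.1
  haveI : F.IsFiniteType := hF.2
  haveI := fun x : X => finite_stalk_of_isFiniteType (M := F) x
  constructor
  · rintro ⟨hs, hcm⟩ x
    haveI := hreg x
    haveI := Groth.Agent.Ega11.RegLocal.isDomain (X.presheaf.stalk x)
    have hne : ¬ Subsingleton (F.presheaf.stalk x) := (Set.eq_univ_iff_forall.1 hs x :)
    obtain ⟨U, hU, hx, -⟩ := exists_isAffineOpen_mem_and_subset (show x ∈ (⊤ : X.Opens) from trivial)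
    letI := QC70.stalkModule F hx
    letI : Algebra Γ(X, U) (X.presheaf.stalk x) := (X.presheaf.germ U x hx).hom.toAlgebra
    haveI : IsScalarTower Γ(X, U) (X.presheaf.stalk x) (F.presheaf.stalk x) :=
      IsScalarTower.of_algebraMap_smul fun _ _ => rfl
    haveI : IsLocalization.AtPrime (X.presheaf.stalk x) (hU.primeIdealOf ⟨x, hx⟩).asIdeal :=
      hU.isLocalization_stalk ⟨x, hx⟩
    haveI := QC70.isLocalizedModule_germ (isLocAt_of_isQuasicoherent F hU) hU hx
    haveI := finite_sections_of_isFiniteType F hU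
    have hsupp : Module.support Γ(X, U) Γ(F, U) = Set.univ := Set.eq_univ_of_forall fun q => by
      obtain ⟨y, hy, rfl⟩ : ∃ (y : X) (hy : y ∈ U), hU.primeIdealOf ⟨y, hy⟩ = q := by
        refine ⟨hU.fromSpec q, hU.range_fromSpec.subset ⟨q, rfl⟩, ?_⟩
        exact hU.fromSpec.isOpenEmbedding.injective (hU.fromSpec_primeIdealOf _)
      letI := QC70.stalkModule F hy
      letI : Algebra Γ(X, U) (X.presheaf.stalk y) := (X.presheaf.germ U y hy).hom.toAlgebra
      haveI := QC70.isLocalizedModule_germ (isLocAt_of_isQuasicoherent F hU) hU hy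
      have hy' : ¬ Subsingleton (F.presheaf.stalk y) := (Set.eq_univ_iff_forall.1 hs y :)
      exact not_subsingleton_iff_nontrivial.1 fun h => hy'
        ((IsLocalizedModule.iso (hU.primeIdealOf ⟨y, hy⟩).asIdeal.primeCompl (germLinear F hy)).symm.toEquiv.subsingleton)
    have hdim : Module.supportDim (X.presheaf.stalk x) (F.presheaf.stalk x) = ringKrullDim (X.presheaf.stalk x) :=
      supportDim_eq_of_localized (hU.primeIdealOf ⟨x, hx⟩).asIdeal (germLinear F hx) hsupp
    have hfree : Module.Free (X.presheaf.stalk x) (F.presheaf.stalk x) :=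
      Groth.Agent.S0605.result _ _ ((hcm x).symm.trans hdim)
    obtain ⟨W, n, hxW, ⟨e⟩⟩ := Div89.exists_nhd_free_of_free_stalk hF hfree
    refine ⟨W, n, hxW, Nat.pos_of_ne_zero fun h0 => hne ?_, ⟨e⟩⟩
    subst h0
    obtain ⟨s, hs⟩ := exists_stalkBasis_of_iso e
    exact (Equiv.ofBijective _ (hs x hxW)).symm.subsingleton
  · intro h
    have key : ∀ x : X, Nontrivial (F.presheaf.stalk x) ∧ Module.Free (X.presheaf.stalk x) (F.presheaf.stalk x) := fun x => by
      obtain ⟨W, n, hxW, hn, ⟨e⟩⟩ := h x
      obtain ⟨s, hs⟩ := exists_stalkBasis_of_iso e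
      haveI : Nonempty (Fin n) := ⟨⟨0, hn⟩⟩
      exact ⟨(Equiv.ofBijective _ (hs x hxW)).symm.nontrivial, hs.free_stalk x hxW⟩
    refine ⟨Set.eq_univ_of_forall fun x => not_subsingleton_iff_nontrivial.2 (key x).1, fun x => ?_⟩
    haveI := hreg x
    haveI := (key x).1
    haveI := (key x).2
    obtain ⟨d, hd⟩ : ∃ d : ℕ, ringKrullDim (X.presheaf.stalk x) = d :=
      ⟨_, (IsRegularLocalRing.spanFinrank_maximalIdeal (R := X.presheaf.stalk x)).symm⟩
    haveI := Groth.Agent.Ega11.RegLocal.isDomain (X.presheaf.stalk x)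
    have hann : Module.annihilator (X.presheaf.stalk x) (F.presheaf.stalk x) = ⊥ := by
      refine eq_bot_iff.2 fun r hr => ?_
      obtain ⟨⟨ι, b⟩⟩ := Module.Free.exists_basis (X.presheaf.stalk x) (F.presheaf.stalk x)
      obtain ⟨i⟩ := b.index_nonempty
      exact (smul_eq_zero_iff_left (b.ne_zero i)).1 (Module.mem_annihilator.1 hr (b i))
    show Module.supportDim _ _ = _
    rw [Module.supportDim_eq_ringKrullDim_quotient_annihilator, hann, CAlg1.depth_eq_of_free,
      CAlg1.depth_regular _ hd, ringKrullDim_eq_of_ringEquiv (RingEquiv.quotientBot _), hd]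
    rfl

end Groth.Agent.Coh69
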