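import Groth.Prelude.Def_CohTop
import Mathlib.CategoryTheory.Limits.Shapes.ConcreteCategory
import Mathlib.Algebra.Homology.ShortComplex.Ab

universe u

open CategoryTheory Limits TopologicalSpace Opposite Simplicial

namespace Groth.Agent.Coh69

variable {X : TopCat.{u}}

/-- Restriction map of a presheaf of abelian groups. -/
abbrev res (P : (Opens X)ᵒᵖ ⥤ AddCommGrpCat.{u}) {V W : Opens X} (h : V ≤ W) :
    P.obj (op W) →+ P.obj (op V) :=
  (P.map (homOfLE h).op).hom

lemma res_res (P : (Opens X)ᵒᵖ ⥤ AddCommGrpCat.{u}) {V W Z : Opens X} (h : V ≤ W) (h' : W ≤ Z)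
    (s : P.obj (op Z)) : res P h (res P h' s) = res P (h.trans h') s := by
  simp only [res]
  rw [← ConcreteCategory.comp_apply, ← P.map_comp]
  rfl

lemma res_self (P : (Opens X)ᵒᵖ ⥤ AddCommGrpCat.{u}) {V : Opens X} (h : V ≤ V)
    (s : P.obj (op V)) : res P h s = s := by
  simp only [res]
  rw [show (homOfLE h).op = 𝟙 (op V) from Subsingleton.elim _ _, P.map_id]
  rfl

lemma hom_res {P Q : (Opens X)ᵒᵖ ⥤ AddCommGrpCat.{u}} (φ : P ⟶ Q) {V W : Opens X} (h : V ≤ W)
    (s : P.obj (op W)) : φ.app (op V) (res P h s) = res Q h (φ.app (op W) s) :=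
  ConcreteCategory.congr_hom (φ.naturality (homOfLE h).op) s

variable {ι : Type u} (U : ι → Opens X)

/-- The intersection attached to a finite tuple of indices. -/
noncomputable def cOpen {n : ℕ} (i : Fin n → ι) : Opens X := ∏ᶜ (U ∘ i)

lemma cOpen_le {n : ℕ} (i : Fin n → ι) (j : Fin n) : cOpen U i ≤ U (i j) :=
  leOfHom (Pi.π (U ∘ i) j)

lemma le_cOpen {n : ℕ} {i : Fin n → ι} {V : Opens X} (h : ∀ j, V ≤ U (i j)) : V ≤ cOpen U i :=
  leOfHom (Pi.lift (f := U ∘ i) fun j => homOfLE (h j))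

lemma cOpen_eq_iInf {n : ℕ} (i : Fin n → ι) : cOpen U i = ⨅ j, U (i j) :=
  le_antisymm (le_iInf fun j => cOpen_le U i j) (le_cOpen U fun j => iInf_le _ j)

lemma cOpen_comp_le {m n : ℕ} (i : Fin n → ι) (φ : Fin m → Fin n) :
    cOpen U i ≤ cOpen U (i ∘ φ) :=
  le_cOpen U fun j => cOpen_le U i (φ j)

lemma mem_cOpen {n : ℕ} (i : Fin n → ι) (x : X) : x ∈ cOpen U i ↔ ∀ j, x ∈ U (i j) := by
  refine ⟨fun h j => cOpen_le U i j h, fun h => ?_⟩
  have hopen : IsOpen (⋂ j, (U (i j) : Set X)) := isOpen_iInter_of_finite fun j => (U (i j)).2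
  exact le_cOpen U (V := ⟨_, hopen⟩) (fun j y hy => Set.mem_iInter.1 hy j) (Set.mem_iInter.2 h)

lemma cOpen_cons {n : ℕ} (k : ι) (i : Fin n → ι) :
    cOpen U (Fin.cons k i : Fin (n + 1) → ι) = U k ⊓ cOpen U i := by
  apply le_antisymm
  · refine le_inf ?_ (le_cOpen U fun j => ?_)
    · simpa using cOpen_le U (Fin.cons k i : Fin (n + 1) → ι) 0
    · simpa using cOpen_le U (Fin.cons k i : Fin (n + 1) → ι) j.succ
  · refine le_cOpen U fun j => ?_
    induction j using Fin.cases with
    | zero => simp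
    | succ j => simpa using inf_le_right.trans (cOpen_le U i j)

lemma cOpen_cons_le {n : ℕ} (k : ι) (i : Fin n → ι) :
    cOpen U (Fin.cons k i : Fin (n + 1) → ι) ≤ cOpen U i :=
  (cOpen_cons U k i).le.trans inf_le_right

variable (P : (Opens X)ᵒᵖ ⥤ AddCommGrpCat.{u})

/-- Cech cochains in degree `n`, as families of sections. -/
abbrev Cochain (n : ℕ) : Type u := ∀ i : Fin (n + 1) → ι, P.obj (op (cOpen U i))

/-- The Cech differential. -/
noncomputable def cd (n : ℕ) : Cochain U P n →+ Cochain U P (n + 1) where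
  toFun s i := ∑ j : Fin (n + 2),
    (-1 : ℤ) ^ (j : ℕ) • res P (cOpen_comp_le U i j.succAbove) (s (i ∘ j.succAbove))
  map_zero' := by ext i; simp
  map_add' s t := by ext i; simp [Finset.sum_add_distrib]

lemma cd_apply (n : ℕ) (s : Cochain U P n) (i : Fin (n + 2) → ι) :
    cd U P n s i = ∑ j : Fin (n + 2),
      (-1 : ℤ) ^ (j : ℕ) • res P (cOpen_comp_le U i j.succAbove) (s (i ∘ j.succAbove)) := rfl

/-- Transport of a cochain component along an equality of tuples. -/
lemma cochain_congr {n : ℕ} (s : Cochain U P n) {i i' : Fin (n + 1) → ι} (h : i = i')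
    {V : Opens X} (hV : V ≤ cOpen U i) :
    res P hV (s i) = res P (hV.trans_eq (by rw [h])) (s i') := by
  subst h; rfl

/-- Mathlib's Cech complex in explicit form. -/
noncomputable def cechEquiv (n : ℕ) :
    ((cechComplexFunctor U).obj P).X n ≃+ Cochain U P n :=
  AddEquiv.mk' (M := ToType (∏ᶜ fun i : Fin (n + 1) → ι => P.obj (op (cOpen U i))))
    (Limits.Concrete.productEquiv _) (fun a b => by
      funext i
      rw [Pi.add_apply]
      simp only [Limits.Concrete.productEquiv_apply_apply]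
      exact map_add _ a b)

lemma cechEquiv_apply (n : ℕ) (s : ((cechComplexFunctor U).obj P).X n) (i : Fin (n + 1) → ι) :
    cechEquiv U P n s i = Pi.π (fun i : Fin (n + 1) → ι => P.obj (op (cOpen U i))) i s :=
  Limits.Concrete.productEquiv_apply_apply
    (fun i : Fin (n + 1) → ι => P.obj (op (cOpen U i))) s i

lemma hom_sum_apply {A B : AddCommGrpCat.{u}} {κ : Type*} (S : Finset κ) (f : κ → (A ⟶ B))
    (a : A) : (∑ k ∈ S, f k).hom a = ∑ k ∈ S, (f k).hom a := by
  rw [← AddMonoidHom.finsetSum_apply]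
  exact DFunLike.congr_fun (map_sum AddCommGrpCat.homAddEquiv f S) a

lemma sum_comp_apply {m : ℕ} {A B B' : AddCommGrpCat.{u}} (δ : Fin m → (A ⟶ B)) (π : B ⟶ B')
    (g : Fin m → (A ⟶ B')) (h : ∀ j, δ j ≫ π = g j) (a : A) :
    π.hom ((∑ j : Fin m, (-1 : ℤ) ^ (j : ℕ) • δ j).hom a) =
      ∑ j : Fin m, (-1 : ℤ) ^ (j : ℕ) • (g j).hom a := by
  rw [hom_sum_apply, map_sum]
  refine Finset.sum_congr rfl fun j _ => ?_
  rw [AddCommGrpCat.hom_zsmul, AddMonoidHom.smul_apply, map_zsmul, ← h j]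
  rfl

lemma cechEquiv_d (n : ℕ) (s : ((cechComplexFunctor U).obj P).X n) :
    cechEquiv U P (n + 1) (((cechComplexFunctor U).obj P).d n (n + 1) s) =
      cd U P n (cechEquiv U P n s) := by
  funext i
  set C : CosimplicialObject AddCommGrpCat.{u} :=
    (FormalCoproduct.cosimplicialObjectFunctor (FormalCoproduct.mk _ U).cech).obj P with hC
  have hd : ((cechComplexFunctor U).obj P).d n (n + 1) =
      AlgebraicTopology.AlternatingCofaceMapComplex.objD C n :=
    CochainComplex.of_d (fun k => C.obj ⦋k⦌) (AlgebraicTopology.AlternatingCofaceMapComplex.objD C) n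
  have key : ∀ j : Fin (n + 2),
      C.δ j ≫ Pi.π (fun i : Fin (n + 2) → ι => P.obj (op (cOpen U i))) i =
      Pi.π (fun i : Fin (n + 1) → ι => P.obj (op (cOpen U i))) (i ∘ j.succAbove) ≫
        P.map (homOfLE (cOpen_comp_le U i j.succAbove)).op := fun j => Pi.lift_π _ _
  rw [cechEquiv_apply, cd_apply, hd]
  refine (sum_comp_apply (fun j => C.δ j) _ _ key s).trans ?_
  refine Finset.sum_congr rfl fun j _ => ?_
  rw [cechEquiv_apply]
  rfl

/-- A presheaf is Cech acyclic for a family when every cocycle of positive degree is a coboundary. -/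
def CechAcyclic : Prop :=
  ∀ (n : ℕ) (s : Cochain U P (n + 1)), cd U P (n + 1) s = 0 → ∃ t, cd U P n t = s

lemma isZero_cechH_of_acyclic (h : CechAcyclic U P) (p : ℕ) (hp : 0 < p) :
    IsZero (CohTop.cechH P U p) := by
  obtain ⟨n, rfl⟩ : ∃ n, p = n + 1 := ⟨p - 1, by omega⟩
  rw [← HomologicalComplex.exactAt_iff_isZero_homology,
    HomologicalComplex.exactAt_iff' _ n (n + 1) (n + 2) (by simp) (by simp)]
  rw [ShortComplex.ab_exact_iff]
  intro (x : ((cechComplexFunctor U).obj P).X (n + 1)) hx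
  have hx' : ((cechComplexFunctor U).obj P).d (n + 1) (n + 2) x = 0 := hx
  obtain ⟨t, ht⟩ := h n (cechEquiv U P (n + 1) x) (by
    rw [← cechEquiv_d]
    exact (congrArg (cechEquiv U P (n + 2)) hx').trans (map_zero _))
  refine ⟨(cechEquiv U P n).symm t, (cechEquiv U P (n + 1)).injective ?_⟩
  refine (cechEquiv_d U P n _).trans ?_
  rw [AddEquiv.apply_symm_apply, ht]

lemma cechAcyclic_of_isZero_cechH (h : ∀ p, 0 < p → IsZero (CohTop.cechH P U p)) :
    CechAcyclic U P := by
  intro n s hs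
  have h' := h (n + 1) (Nat.succ_pos n)
  rw [← HomologicalComplex.exactAt_iff_isZero_homology,
    HomologicalComplex.exactAt_iff' _ n (n + 1) (n + 2) (by simp) (by simp),
    ShortComplex.ab_exact_iff] at h'
  obtain ⟨(t : ((cechComplexFunctor U).obj P).X n), ht⟩ :=
    h' ((cechEquiv U P (n + 1)).symm s) ((cechEquiv U P (n + 2)).injective (by
      refine (cechEquiv_d U P (n + 1) _).trans ?_
      rw [AddEquiv.apply_symm_apply, hs]
      exact (map_zero (cechEquiv U P (n + 2))).symm))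
  refine ⟨cechEquiv U P n t, ?_⟩
  refine (cechEquiv_d U P n t).symm.trans ?_
  exact (congrArg (cechEquiv U P (n + 1)) ht).trans (AddEquiv.apply_symm_apply _ _)

variable {P} {Q : (Opens X)ᵒᵖ ⥤ AddCommGrpCat.{u}}

/-- The map on cochains induced by a map of presheaves. -/
noncomputable def cmap (φ : P ⟶ Q) (n : ℕ) : Cochain U P n →+ Cochain U Q n where
  toFun s i := φ.app _ (s i)
  map_zero' := by ext i; simp
  map_add' s t := by ext i; simp

lemma cmap_apply (φ : P ⟶ Q) (n : ℕ) (s : Cochain U P n) (i : Fin (n + 1) → ι) :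
    cmap U φ n s i = φ.app _ (s i) := rfl

lemma cd_cmap (φ : P ⟶ Q) (n : ℕ) (s : Cochain U P n) :
    cd U Q n (cmap U φ n s) = cmap U φ (n + 1) (cd U P n s) := by
  funext i
  simp only [cd_apply, cmap_apply, map_sum, map_zsmul]
  exact Finset.sum_congr rfl fun j _ => by rw [hom_res]

lemma cechEquiv_map (φ : P ⟶ Q) (n : ℕ) (s : ((cechComplexFunctor U).obj P).X n) :
    cechEquiv U Q n (((cechComplexFunctor U).map φ).f n s) = cmap U φ n (cechEquiv U P n s) := by
  funext i
  have key : ((cechComplexFunctor U).map φ).f n ≫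
      Pi.π (fun i : Fin (n + 1) → ι => Q.obj (op (cOpen U i))) i =
      Pi.π (fun i : Fin (n + 1) → ι => P.obj (op (cOpen U i))) i ≫ φ.app _ :=
    Pi.map_π (fun i : Fin (n + 1) → ι => φ.app (op (cOpen U i))) i
  rw [cechEquiv_apply, cmap_apply, cechEquiv_apply]
  exact ConcreteCategory.congr_hom key s

/-- The differential composed with itself vanishes. -/
lemma cd_cd (n : ℕ) (s : Cochain U P n) : cd U P (n + 1) (cd U P n s) = 0 := by
  obtain ⟨x, rfl⟩ := (cechEquiv U P n).surjective s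
  rw [← cechEquiv_d, ← cechEquiv_d]
  rw [show ((cechComplexFunctor U).obj P).d (n + 1) (n + 1 + 1)
      (((cechComplexFunctor U).obj P).d n (n + 1) x) = 0 from
    ConcreteCategory.congr_hom (((cechComplexFunctor U).obj P).d_comp_d n (n + 1) (n + 2)) x]
  exact map_zero _

end Groth.Agent.Coh69
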