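import Groth.Agent.TopCoh49.ColimCoh

/-!
Cohomology over compact opens of a quasi-separated open commutes with filtered colimits
(variant of `Groth.Agent.TopCoh49.ColimCoh`, where the whole space is quasi-separated).
-/

universe u

open CategoryTheory Limits TopologicalSpace Opposite Abelian MorphismProperty ZeroObject
open Groth.Agent.TopCoh49

namespace Groth.Agent.Coh69.ColimRel

variable {X : TopCat.{u}}

/-- Compact opens inside `U₀` have compact intersections. -/
def QSep (U₀ : Opens X) : Prop :=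
  ∀ A B : Opens X, (IsCompact (A : Set X) ∧ A ≤ U₀) → (IsCompact (B : Set X) ∧ B ≤ U₀) →
    (IsCompact ((A ⊓ B : Opens X) : Set X) ∧ A ⊓ B ≤ U₀)

variable {I : Type u} [SmallCategory I] [IsFiltered I] [PrespectralSpace X]

/-- A section of the colimit over a compact open comes from a stage. -/
lemma colim_sec_surjective (U₀ : Opens X) (hq : QSep U₀) {F : I ⥤ CohTop.Ab X} {c : Cocone F} (hc : IsColimit c) {U : Opens X}
    (hU : IsCompact (U : Set X)) (hU₀ : U ≤ U₀) (y : c.pt.obj.obj (op U)) : ∃ i t, cι c i U t = y := by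
  classical
  have hloc : ∀ z : U, ∃ (V : Opens X) (hV : V ≤ U), z.1 ∈ V ∧ IsCompact (V : Set X) ∧
      ∃ i t, cι c i V t = rs c.pt.obj hV y := fun z => by
    obtain ⟨V, hV, hzV, i, t, ht⟩ := (colim_local hc).1 U y z.1 z.2
    obtain ⟨W, hW, hzW, hWV⟩ := Opens.isBasis_iff_nbhd.1 (PrespectralSpace.isBasis_opens X) hzV
    exact ⟨W, hWV.trans hV, hzW, hW, i, rs (F.obj i).obj hWV t, by rw [cι_rs, ht, rs_rs]⟩
  choose V hV hzV hcpt i t ht using hloc
  obtain ⟨s, hs⟩ := hU.elim_finite_subcover (fun z : U => (V z : Set X)) (fun z => (V z).2)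
    (fun z hz => Set.mem_iUnion.2 ⟨⟨z, hz⟩, hzV ⟨z, hz⟩⟩)
  obtain ⟨k, hk⟩ := exists_stage (fun a : {z // z ∈ s} => i a.1)
  let T : ∀ a : {z // z ∈ s}, (F.obj k).obj.obj (op (V a.1)) := fun a => ctr F (hk a).some _ (t a.1)
  have hT : ∀ a, cι c k _ (T a) = rs c.pt.obj (hV a.1) y := fun a => by rw [cι_ctr, ht]
  obtain ⟨k', g, hg⟩ := colim_kill_finite hc (fun p : {z // z ∈ s} × {z // z ∈ s} => V p.1.1 ⊓ V p.2.1)
    (fun p => hq _ _ ⟨hcpt _, (hV _).trans hU₀⟩ ⟨hcpt _, (hV _).trans hU₀⟩ |>.1) k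
    (fun p => rs (F.obj k).obj inf_le_left (T p.1) - rs (F.obj k).obj inf_le_right (T p.2))
    (fun p => by rw [map_sub, cι_rs, cι_rs, hT, hT, rs_rs, rs_rs, sub_self])
  obtain ⟨T', hT'⟩ := exists_glue (F.obj k') (V := fun a : {z // z ∈ s} => V a.1) (fun a => hV a.1)
    (fun z hz => by
      obtain ⟨w, hw, hzw⟩ := Set.mem_iUnion₂.1 (hs hz)
      exact Opens.mem_iSup.2 ⟨⟨w, hw⟩, hzw⟩)
    (fun a => ctr F g _ (T a)) (fun a b => by
      refine sub_eq_zero.1 ((congrArg₂ (· - ·) (ctr_rs g _ _).symm (ctr_rs g _ _).symm).trans ?_)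
      exact (map_sub _ _ _).symm.trans (hg (a, b)))
  refine ⟨k', T', eq_of_forall_rs_eq c.pt (fun a : {z // z ∈ s} => hV a.1) (fun z hz => ?_) fun a => ?_⟩
  · obtain ⟨w, hw, hzw⟩ := Set.mem_iUnion₂.1 (hs hz)
    exact Opens.mem_iSup.2 ⟨⟨w, hw⟩, hzw⟩
  · rw [← cι_rs, hT', cι_ctr, hT]

/-- Cech acyclicity of a filtered colimit of flasque sheaves, for finite covers by compact opens. -/
lemma isZero_cechH_colim (U₀ : Opens X) (hq : QSep U₀) (F : I ⥤ CohTop.Ab X) (hF : ∀ i, TopCat.Sheaf.IsFlasque (F.obj i))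
    {κ : Type u} [Finite κ] (V : κ → Opens X) (hV : ∀ k, IsCompact (V k : Set X) ∧ V k ≤ U₀) (p : ℕ) :
    IsZero (CohTop.cechH (colimit F).obj V (p + 1)) := by
  have hinter : ∀ {n : ℕ} (a : Fin (n + 1) → κ), IsCompact (inter V a : Set X) ∧ inter V a ≤ U₀ :=
    inter_mem V (𝒮 := {W : Opens X | IsCompact (W : Set X) ∧ W ≤ U₀})
      (fun A hA B hB => hq A B hA hB) hV
  refine (isZero_cechH_succ_iff _ _ p).2 fun f hf => ?_
  have hc := colimit.isColimit F
  choose i t ht using fun a => colim_sec_surjective U₀ hq hc (hinter a).1 (hinter a).2 (f a)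
  obtain ⟨k, hk⟩ := exists_stage i
  let T : Coch (F.obj k).obj V (p + 1) := fun a => ctr F (hk a).some _ (t a)
  have hT : cochMap V (colimit.ι F k).hom (p + 1) T = f := funext fun a =>
    (cι_ctr (colimit.cocone F) (hk a).some _ (t a)).trans (ht a)
  obtain ⟨k', g, hg⟩ := colim_kill_finite hc _ (fun a => (hinter a).1) k (cochD _ V (p + 1) T) (fun a => by
    refine (congrFun (cochD_cochMap V (colimit.ι F k).hom (p + 1) T).symm a).trans ?_
    rw [hT, hf]
    rfl)
  have := hF k'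
  obtain ⟨z, hz⟩ := (isZero_cechH_succ_iff _ _ p).1 (isZero_cechH_of_isFlasque V (F.obj k') p)
    (cochMap V (F.map g).hom (p + 1) T) ((cochD_cochMap V (F.map g).hom (p + 1) T).trans (funext hg))
  refine ⟨cochMap V (colimit.ι F k').hom p z, ?_⟩
  rw [cochD_cochMap, hz, ← hT]
  exact funext fun a => cι_ctr (colimit.cocone F) g _ (T a)

/-- A filtered colimit of flasque sheaves is acyclic on compact opens. -/
lemma subsingleton_E_colim (U₀ : Opens X) (hq : QSep U₀) (F : I ⥤ CohTop.Ab X) (hF : ∀ i, TopCat.Sheaf.IsFlasque (F.obj i))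
    {U : Opens X} (hU : IsCompact (U : Set X)) (hU₀ : U ≤ U₀) (p : ℕ) : Subsingleton (E (colimit F) (p + 1) U) := by
  refine cartan {W : Opens X | IsCompact (W : Set X) ∧ W ≤ U₀}
    (fun κ V => Finite κ ∧ ∀ k, IsCompact (V k : Set X) ∧ V k ≤ U₀) ?_ ?_ p (colimit F)
    (fun κ V hV q => @isZero_cechH_colim _ _ _ _ _ U₀ hq F hF κ hV.1 V hV.2 q) U ⟨hU, hU₀⟩
  · rintro κ V ⟨_, hV⟩
    refine ⟨⟨?_, iSup_le fun k => (hV k).2⟩, fun n a => inter_mem V (𝒮 := {W : Opens X | IsCompact (W : Set X) ∧ W ≤ U₀})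
      (fun A hA B hB => hq A B hA hB) hV a⟩
    change IsCompact ((iSup V : Opens X) : Set X)
    rw [Opens.coe_iSup]
    exact isCompact_iUnion fun k => (hV k).1
  · rintro W ⟨hW, hW₀⟩ κ V hV
    classical
    have hloc : ∀ z : W, ∃ (A : Opens X), IsCompact (A : Set X) ∧ z.1 ∈ A ∧ A ≤ W ∧ ∃ k, A ≤ V k := fun z => by
      obtain ⟨k, hk⟩ := Opens.mem_iSup.1 (hV.symm ▸ z.2 : z.1 ∈ iSup V)
      obtain ⟨A, hA, hzA, hAV⟩ := Opens.isBasis_iff_nbhd.1 (PrespectralSpace.isBasis_opens X) hk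
      exact ⟨A, hA, hzA, hAV.trans (hV ▸ le_iSup V k), k, hAV⟩
    choose A hA hzA hAW k hk using hloc
    obtain ⟨s, hs⟩ := hW.elim_finite_subcover (fun z : W => (A z : Set X)) (fun z => (A z).2)
      (fun z hz => Set.mem_iUnion.2 ⟨⟨z, hz⟩, hzA ⟨z, hz⟩⟩)
    refine ⟨{z // z ∈ s}, fun z => A z.1, ⟨inferInstance, fun z => ⟨hA z.1, (hAW z.1).trans hW₀⟩⟩,
      le_antisymm (iSup_le fun z => hAW z.1) (fun z hz => ?_), fun z => ⟨k z.1, hk z.1⟩⟩
    obtain ⟨w, hw, hzw⟩ := Set.mem_iUnion₂.1 (hs hz)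
    exact Opens.mem_iSup.2 ⟨⟨w, hw⟩, hzw⟩

/-- Classes on a compact open in a filtered colimit come from a stage, and vanish at a stage. -/
theorem colim_E (U₀ : Opens X) (hq : QSep U₀) {U : Opens X} (hU : IsCompact (U : Set X)) (hU₀ : U ≤ U₀) : ∀ (p : ℕ) (F : I ⥤ CohTop.Ab X),
    (∀ y : E (colimit F) p U, ∃ i x, emap (colimit.ι F i) p U x = y) ∧
    (∀ i (x : E (F.obj i) p U), emap (colimit.ι F i) p U x = 0 →
      ∃ (j : I) (f : i ⟶ j), emap (F.map f) p U x = 0) := by
  intro p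
  induction p with
  | zero =>
    intro F
    refine ⟨fun y => ?_, fun i x hx => ?_⟩
    · obtain ⟨i, t, ht⟩ := colim_sec_surjective U₀ hq (colimit.isColimit F) hU hU₀ (E₀ _ U y)
      refine ⟨i, (E₀ _ U).symm t, (E₀ _ U).injective ?_⟩
      rw [E₀_emap, AddEquiv.apply_symm_apply]
      exact ht
    · have h0 : cι (colimit.cocone F) i U (E₀ _ U x) = 0 :=
        (E₀_emap _ U x).symm.trans ((congrArg (E₀ _ U) hx).trans (map_zero _))
      obtain ⟨j, f, hf⟩ := colim_kill_finite (colimit.isColimit F) (α := PUnit.{u + 1}) (fun _ => U)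
        (fun _ => hU) i (fun _ => E₀ _ U x) (fun _ => h0)
      refine ⟨j, f, (E₀ _ U).injective ?_⟩
      rw [E₀_emap, map_zero]
      exact hf PUnit.unit
  | succ p ih =>
    intro F
    have hS := diagSES_colim_shortExact F
    have hSi := diagSES_eval_shortExact F
    refine ⟨fun y => ?_, fun i x hx => ?_⟩
    · have hJ : Subsingleton (E (colimit (diagSES F).X₂) (p + 1) U) :=
        subsingleton_E_colim U₀ hq _ (fun i => @isFlasque_of_injective _ _ (injective_injFun (F.obj i))) hU hU₀ p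
      obtain ⟨z, rfl⟩ := exact₁ hS rfl U y (hJ.elim _ _)
      obtain ⟨i, w, rfl⟩ := (ih (diagSES F).X₃).1 z
      exact ⟨i, δ (hSi i) rfl U w, emap_δ (hSi i) hS (diagToColim F i) rfl U w⟩
    · have hJ : Subsingleton (E ((diagSES F).X₂.obj i) (p + 1) U) :=
        @subsingleton_E_of_injective _ _ (injective_injFun (F.obj i)) p U
      obtain ⟨z, rfl⟩ := exact₁ (hSi i) rfl U x (hJ.elim _ _)
      have h0 : δ hS rfl U (emap (colimit.ι (diagSES F).X₃ i) p U z) = 0 :=
        (emap_δ (hSi i) hS (diagToColim F i) rfl U z).symm.trans hx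
      obtain ⟨w, hw⟩ := exact₃ hS rfl U _ h0
      obtain ⟨j, wj, rfl⟩ := (ih (diagSES F).X₂).1 w
      obtain ⟨k, a, b, -⟩ : ∃ (k : I) (_ : i ⟶ k) (_ : j ⟶ k), True :=
        ⟨IsFiltered.max i j, IsFiltered.leftToMax i j, IsFiltered.rightToMax i j, trivial⟩
      have h1 : emap (colimit.ι (diagSES F).X₃ k) p U
          (emap ((diagSES F).X₃.map a) p U z -
            emap ((diagSES F).g.app k) p U (emap ((diagSES F).X₂.map b) p U wj)) = 0 := by
        refine (map_sub _ _ _).trans (sub_eq_zero.2 ?_)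
        refine ((emap_emap _ _ p U z).trans (congrArg (fun φ => emap φ p U z)
          (colimit.w (diagSES F).X₃ a))).trans ?_
        refine hw.symm.trans ?_
        refine (emap_square (colimit.ι_map (diagSES F).g j) p U wj).trans ?_
        refine Eq.trans ?_ (congrArg (emap (colimit.ι (diagSES F).X₃ k) p U)
          (emap_square ((diagSES F).g.naturality b).symm p U wj))
        exact ((emap_emap _ _ p U _).trans (congrArg (fun φ => emap φ p U _)
          (colimit.w (diagSES F).X₃ b))).symm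
      obtain ⟨l, e, he⟩ := (ih (diagSES F).X₃).2 k _ h1
      replace he : emap ((diagSES F).X₃.map (a ≫ e)) p U z =
          emap ((diagSES F).g.app l) p U (emap ((diagSES F).X₂.map (b ≫ e)) p U wj) := by
        refine Eq.trans (congrArg (fun φ => emap φ p U z) ((diagSES F).X₃.map_comp a e)) ?_
        refine (emap_emap _ _ p U z).symm.trans ((sub_eq_zero.1 ((map_sub _ _ _).symm.trans he)).trans ?_)
        refine (emap_square ((diagSES F).g.naturality e).symm p U _).trans ?_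
        exact congrArg (emap ((diagSES F).g.app l) p U) ((emap_emap _ _ p U wj).trans
          (congrArg (fun φ => emap φ p U wj) ((diagSES F).X₂.map_comp b e).symm))
      refine ⟨l, a ≫ e, ?_⟩
      refine (emap_δ (hSi i) (hSi l) (diagTrans F (a ≫ e)) rfl U z).trans ?_
      change δ (hSi l) rfl U (emap ((diagSES F).X₃.map (a ≫ e)) p U z) = 0
      rw [he]
      exact δ_emap_g (hSi l) rfl U _

/-- Cohomology over a compact open preserves filtered colimits. -/
theorem colim_HU (U₀ : Opens X) (hq : QSep U₀) {U : Opens X} (hU : IsCompact (U : Set X)) (hU₀ : U ≤ U₀) (q : ℕ) :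
    PreservesColimitsOfShape I
      ((Sheaf.cohomologyPresheafFunctor (Opens.grothendieckTopology X) q).flip.obj (op U) :
        CohTop.Ab X ⥤ AddCommGrpCat.{u}) := by
  have hmap : ∀ {A B : CohTop.Ab X} (g : A ⟶ B) (x : E A q U),
      ((Sheaf.cohomologyPresheafFunctor (Opens.grothendieckTopology X) q).flip.obj (op U)).map g x =
        emap g q U x := fun g x => flip_extFunctor_map_app (freeFun X) q g U x
  refine preservesColimitsOfShape_of_surj_ker _ fun K => ⟨fun x => ?_, fun i x hx => ?_⟩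
  · obtain ⟨i, xi, hxi⟩ := (colim_E U₀ hq hU hU₀ q K).1 x
    exact ⟨i, xi, (hmap _ xi).trans hxi⟩
  · obtain ⟨j, f, hf⟩ := (colim_E U₀ hq hU hU₀ q K).2 i x ((hmap _ x).symm.trans hx)
    exact ⟨j, f, (hmap _ x).trans hf⟩

end Groth.Agent.Coh69.ColimRel
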