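import Groth.Agent.Coh69.AffVanish
import Groth.Agent.TopCoh49.Coh
import Groth.Agent.QC70.CohOps
import Mathlib.AlgebraicGeometry.Noetherian

set_option autoImplicit false
set_option backward.isDefEq.respectTransparency.types false

/-! Modules with discrete support are flasque. -/

noncomputable section

universe u

open CategoryTheory CategoryTheory.Limits AlgebraicGeometry TopologicalSpace Opposite

namespace Groth.Agent.Coh69

variable {X : Scheme.{u}}

lemma inter_affine_finite [IsLocallyNoetherian X] {T : Set X} (hT : IsClosed T)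
    (h0 : ∀ x ∈ T, IsClosed ({x} : Set X)) (W : X.affineOpens) : (T ∩ (W.1 : Set X)).Finite := by
  have : IsAffine W.1.toScheme := W.2
  have : IsLocallyNoetherian W.1.toScheme := LocallyOfFiniteType.isLocallyNoetherian W.1.ι
  have : IsNoetherian W.1.toScheme := {}
  have : NoetherianSpace W.1.toScheme := inferInstance
  let T' : Set W.1.toScheme := W.1.ι ⁻¹' T
  have hT' : IsClosed T' := hT.preimage W.1.ι.continuous
  have hsub : T' ⊆ ⋃ t ∈ {t : Set W.1.toScheme | t ⊆ T' ∧ ∃ x, t = {x}}, t := fun x hx =>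
    Set.mem_biUnion (⟨Set.singleton_subset_iff.mpr hx, x, rfl⟩ : {x} ⊆ T' ∧ _) rfl
  obtain ⟨S, hSf, hSc, hSi, hS⟩ := NoetherianSpace.exists_finite_set_isClosed_irreducible hT'
  have hpt : ∀ s ∈ S, s.Subsingleton := by
    intro s hs
    obtain ⟨g, hg⟩ := QuasiSober.sober (hSi s hs) (hSc s hs)
    have hgT : g ∈ T' := hS.ge (Set.mem_sUnion.mpr ⟨s, hs, hg.mem⟩)
    have h1 : IsClosed ({g} : Set W.1.toScheme) := by
      have := (h0 _ hgT).preimage W.1.ι.continuous
      rwa [show W.1.ι ⁻¹' {W.1.ι g} = {g} from Set.ext fun y => ⟨fun h => W.1.ι.isOpenEmbedding.injective h,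
        fun h => congrArg _ h⟩] at this
    rw [← hg.def, h1.closure_eq]
    exact Set.subsingleton_singleton
  have hfin : T'.Finite := hS ▸ hSf.sUnion fun s hs => (hpt s hs).finite
  refine (hfin.image W.1.ι).subset fun x hx => ⟨⟨x, hx.2⟩, hx.1, rfl⟩

lemma isClosed_of_subset {T A : Set X} [IsLocallyNoetherian X] (hT : IsClosed T)
    (h0 : ∀ x ∈ T, IsClosed ({x} : Set X)) (hA : A ⊆ T) : IsClosed A := by
  refine isClosed_of_closure_subset fun x hx => ?_
  obtain ⟨_, ⟨W, hW, rfl⟩, hxW, -⟩ := X.isBasis_affineOpens.exists_subset_of_mem_open (Set.mem_univ x) isOpen_univ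
  have hfin := (inter_affine_finite hT h0 ⟨W, hW⟩).subset (Set.inter_subset_inter_left (W : Set X) hA)
  have hclosed : IsClosed (A ∩ (W : Set X)) := by
    rw [← Set.biUnion_of_singleton (A ∩ (W : Set X))]
    exact hfin.isClosed_biUnion fun y hy => h0 y (hA hy.1)
  have : x ∈ closure (A ∩ (W : Set X)) := mem_closure_iff.mpr fun o ho hxo => by
    obtain ⟨y, hy, hyA⟩ := mem_closure_iff.mp hx (o ∩ W) (ho.inter W.2) ⟨hxo, hxW⟩
    exact ⟨y, hy.1, hyA, hy.2⟩
  exact (hclosed.closure_subset this).1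

/-- Modules supported at closed points have restriction maps that are surjective. -/
theorem restriction_surjective_of_support [IsLocallyNoetherian X] (M : X.Modules) [M.IsFiniteType]
    (h0 : ∀ x ∈ CohB1.support M, IsClosed ({x} : Set X)) {U V : X.Opens} (h : V ≤ U) (s : Γ(M, V)) :
    ∃ t : Γ(M, U), QC70.res M h t = s := by
  let A : Set X := {x | ∃ hx : x ∈ V, QC70.germM M V x hx s ≠ 0}
  have hAT : A ⊆ CohB1.support M := fun x ⟨hx, hne⟩ hsub => hne (hsub.elim _ _)
  let C : X.Opens := ⟨Aᶜ, (isClosed_of_subset (QC70.isClosed_support M) h0 hAT).isOpen_compl⟩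
  let W : Bool → X.Opens := fun b => cond b V (U ⊓ C)
  let x : ∀ b, Γ(M, W b) := fun b => match b with
    | true => s
    | false => 0
  have hW : ∀ b, W b ≤ U := fun b => by cases b; exacts [inf_le_left, h]
  have hcov : U ≤ ⨆ b, W b := fun p hp => Opens.mem_iSup.mpr (by
    by_cases hpA : p ∈ A
    · exact ⟨true, hpA.1⟩
    · exact ⟨false, hp, hpA⟩)
  have hzero : QC70.res M (inf_le_left : V ⊓ (U ⊓ C) ≤ V) s = 0 := by
    refine QC70.section_ext M _ _ fun p hp => ?_
    have hp0 : QC70.germM M V p hp.1 s = 0 := by_contra fun hne => hp.2.2 ⟨hp.1, hne⟩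
    obtain ⟨O, hO, hpO, hO0⟩ := QC70.germM_eq_zero hp0
    refine ⟨O ⊓ (U ⊓ C), fun q hq => ⟨hO hq.1, hq.2⟩, ⟨hpO, hp.2⟩, ?_⟩
    rw [QC70.res_res, QC70.res_zero, ← QC70.res_res hO inf_le_left, hO0, QC70.res_zero]
  obtain ⟨t, ht⟩ := QC70.exists_glue M W hW hcov x (by
    rintro (_ | _) (_ | _)
    · rfl
    · show QC70.res M inf_le_left (0 : Γ(M, U ⊓ C)) = QC70.res M inf_le_right s
      rw [QC70.res_zero, ← QC70.res_res (inf_le_left : V ⊓ (U ⊓ C) ≤ V) (le_inf inf_le_right inf_le_left), hzero,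
        QC70.res_zero]
    · show QC70.res M inf_le_left s = QC70.res M inf_le_right (0 : Γ(M, U ⊓ C))
      rw [QC70.res_zero]
      exact hzero
    · rfl)
  exact ⟨t, ht true⟩

theorem subsingleton_HH_of_closed_support [IsLocallyNoetherian X] (M : X.Modules) [M.IsFiniteType]
    (h0 : ∀ x ∈ CohB1.support M, IsClosed ({x} : Set X)) (n : ℕ) :
    Subsingleton (Coh.HH X M (n + 1)) := by
  have : TopCat.Sheaf.IsFlasque (show TopCat.Sheaf AddCommGrpCat.{u} X.carrier from Coh.toAb M) :=
    ⟨fun i => (AddCommGrpCat.epi_iff_surjective _).2 fun s =>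
      restriction_surjective_of_support M h0 (leOfHom i.unop) s⟩
  have := TopCoh49.subsingleton_E_of_isFlasque (X := X.toTopCat) n (Coh.toAb M) (⊤ : X.Opens)
  exact @Equiv.subsingleton _ _ (hhEquiv M (n + 1)).toEquiv this

end Groth.Agent.Coh69
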