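import Mathlib.Algebra.Homology.DerivedCategory.Ext.ExactSequences
import Mathlib.CategoryTheory.Endomorphism

universe w v u

open CategoryTheory Limits CategoryTheory.Abelian

namespace Groth.Agent.Coh69

variable {A : Type u} [Category.{v} A] [Abelian A] [HasExt.{w} A] {F : A} (φ : F ⟶ F)

lemma ext_comp_sub {Z Z' : A} {n : ℕ} (α : Ext.{w} Z' Z 0) (x y : Ext.{w} Z F n) :
    α.comp (x - y) (zero_add n) = α.comp x (zero_add n) - α.comp y (zero_add n) :=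
  map_sub (α.precomp F (zero_add n)) x y

/-- Powers of an endomorphism. -/
noncomputable def endPow : ℕ → (F ⟶ F)
  | 0 => 𝟙 F
  | k + 1 => endPow k ≫ φ

omit [Abelian A] [HasExt.{w} A] in
lemma endPow_add (k l : ℕ) : endPow φ (k + l) = endPow φ k ≫ endPow φ l := by
  induction l with
  | zero => simp [endPow]
  | succ l ih => rw [← add_assoc, endPow, ih, endPow, Category.assoc]

/-- Action of a power of the endomorphism on Ext classes. -/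
noncomputable def extPow (Z : A) (n k : ℕ) : Ext.{w} Z F n →+ Ext.{w} Z F n :=
  (Ext.mk₀ (endPow φ k)).postcomp Z (add_zero n)

lemma extPow_apply {Z : A} {n : ℕ} (k : ℕ) (x : Ext.{w} Z F n) :
    extPow φ Z n k x = x.comp (Ext.mk₀ (endPow φ k)) (add_zero n) := rfl

lemma extPow_zero {Z : A} {n : ℕ} (x : Ext.{w} Z F n) : extPow φ Z n 0 x = x := by
  simp [extPow_apply, endPow]

lemma extPow_add {Z : A} {n : ℕ} (k l : ℕ) (x : Ext.{w} Z F n) :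
    extPow φ Z n (k + l) x = extPow φ Z n l (extPow φ Z n k x) := by
  rw [extPow_apply, extPow_apply, extPow_apply, endPow_add, Ext.comp_assoc _ _ _ (add_zero n)
    (add_zero 0) (by omega), Ext.mk₀_comp_mk₀]

lemma comp_extPow {Z Z' : A} {m n p : ℕ} (α : Ext.{w} Z' Z m) (h : m + n = p) (k : ℕ)
    (x : Ext.{w} Z F n) :
    α.comp (extPow φ Z n k x) h = extPow φ Z' p k (α.comp x h) := by
  rw [extPow_apply, extPow_apply, Ext.comp_assoc α x _ h (add_zero n) (by omega)]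

variable {Z Z' : A} (j : Z' ⟶ Z)

/-- Classes upstairs extend up to powers. -/
def ExtSurj (n : ℕ) : Prop :=
  ∀ x : Ext.{w} Z' F n, ∃ (k : ℕ) (y : Ext.{w} Z F n),
    (Ext.mk₀ j).comp y (zero_add n) = extPow φ Z' n k x

/-- Classes killed upstairs are killed by powers. -/
def ExtKer (n : ℕ) : Prop :=
  ∀ y : Ext.{w} Z F n, (Ext.mk₀ j).comp y (zero_add n) = 0 → ∃ k, extPow φ Z n k y = 0

variable {S' S : ShortComplex A} (hS' : S'.ShortExact) (hS : S.ShortExact) (u : S' ⟶ S)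

lemma extClass_comp_map {n p : ℕ} (h : 1 + n = p) (w : Ext.{w} S.X₁ F n) :
    (Ext.mk₀ u.τ₃).comp (hS.extClass.comp w h) (zero_add p) =
      hS'.extClass.comp ((Ext.mk₀ u.τ₁).comp w (zero_add n)) h := by
  rw [← Ext.comp_assoc _ _ _ (zero_add 1) h (by omega), ← hS'.extClass_naturality hS u,
    Ext.comp_assoc _ _ _ (add_zero 1) (zero_add n) (by omega)]

lemma g_comp_map {n : ℕ} (y : Ext.{w} S.X₃ F n) :
    (Ext.mk₀ u.τ₂).comp ((Ext.mk₀ S.g).comp y (zero_add n)) (zero_add n) =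
      (Ext.mk₀ S'.g).comp ((Ext.mk₀ u.τ₃).comp y (zero_add n)) (zero_add n) := by
  rw [Ext.mk₀_comp_mk₀_assoc, Ext.mk₀_comp_mk₀_assoc, u.comm₂₃]

lemma f_comp_map {n : ℕ} (y : Ext.{w} S.X₂ F n) :
    (Ext.mk₀ u.τ₁).comp ((Ext.mk₀ S.f).comp y (zero_add n)) (zero_add n) =
      (Ext.mk₀ S'.f).comp ((Ext.mk₀ u.τ₂).comp y (zero_add n)) (zero_add n) := by
  rw [Ext.mk₀_comp_mk₀_assoc, Ext.mk₀_comp_mk₀_assoc, u.comm₁₂]

include hS' hS in
lemma extKer_X₃ (n : ℕ) (h2 : ExtKer φ u.τ₂ (n + 1)) (h2' : ExtSurj φ u.τ₂ n)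
    (h1 : ExtKer φ u.τ₁ n) : ExtKer φ u.τ₃ (n + 1) := by
  intro y hy
  obtain ⟨k, hk⟩ := h2 ((Ext.mk₀ S.g).comp y (zero_add _)) (by rw [g_comp_map, hy, Ext.comp_zero])
  obtain ⟨w, hw⟩ := Ext.contravariant_sequence_exact₃ hS F (extPow φ _ _ k y)
    (by rw [comp_extPow]; exact hk) (add_comm 1 n)
  obtain ⟨z', hz'⟩ := Ext.contravariant_sequence_exact₁ hS' F
    ((Ext.mk₀ u.τ₁).comp w (zero_add n)) (add_comm 1 n)
    (by rw [← extClass_comp_map hS' hS u, hw, comp_extPow, hy, map_zero])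
  obtain ⟨l, z, hz⟩ := h2' z'
  obtain ⟨m, hm⟩ := h1 (extPow φ _ _ l w - (Ext.mk₀ S.f).comp z (zero_add n)) (by
    rw [ext_comp_sub, comp_extPow, f_comp_map, hz, comp_extPow, hz', sub_self])
  refine ⟨k + l + m, ?_⟩
  rw [map_sub, sub_eq_zero] at hm
  rw [extPow_add, extPow_add, ← hw, ← comp_extPow, ← comp_extPow, hm, comp_extPow,
    hS.extClass_comp_assoc, map_zero]

include hS' hS in
lemma extSurj_X₃ (n : ℕ) (h2 : ExtSurj φ u.τ₂ (n + 1)) (h1 : ExtKer φ u.τ₁ (n + 1))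
    (h1' : ExtSurj φ u.τ₁ n) : ExtSurj φ u.τ₃ (n + 1) := by
  intro x
  obtain ⟨k, z, hz⟩ := h2 ((Ext.mk₀ S'.g).comp x (zero_add _))
  obtain ⟨l, hl⟩ := h1 ((Ext.mk₀ S.f).comp z (zero_add _)) (by
    rw [f_comp_map, hz, comp_extPow, Ext.mk₀_comp_mk₀_assoc, S'.zero, Ext.mk₀_zero, Ext.zero_comp,
      map_zero])
  obtain ⟨y, hy⟩ := Ext.contravariant_sequence_exact₂ hS F (extPow φ _ _ l z)
    (by rw [comp_extPow]; exact hl)
  obtain ⟨w', hw'⟩ := Ext.contravariant_sequence_exact₃ hS' F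
    (extPow φ _ _ (k + l) x - (Ext.mk₀ u.τ₃).comp y (zero_add _)) (by
      rw [ext_comp_sub, comp_extPow, ← g_comp_map, hy, comp_extPow, hz, ← extPow_add, sub_self])
    (add_comm 1 n)
  obtain ⟨m, w, hw⟩ := h1' w'
  refine ⟨k + l + m, extPow φ _ _ m y + hS.extClass.comp w (add_comm 1 n), ?_⟩
  rw [Ext.comp_add, comp_extPow, extClass_comp_map hS' hS u, hw, comp_extPow, hw', map_sub,
    ← extPow_add, add_sub_cancel]

include hS in
lemma eq_zero_of_g_comp (y : Ext.{w} S.X₃ F 0) (h : (Ext.mk₀ S.g).comp y (zero_add 0) = 0) :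
    y = 0 := by
  have := hS.epi_g
  obtain ⟨t, rfl⟩ := (Ext.mk₀_bijective S.X₃ F).2 y
  rw [Ext.mk₀_comp_mk₀, ← Ext.mk₀_zero] at h
  rw [show t = 0 from (cancel_epi S.g).1 (((Ext.mk₀_bijective S.X₂ F).1 h).trans comp_zero.symm),
    Ext.mk₀_zero]

include hS in
lemma extKer_X₃_zero (h2 : ExtKer φ u.τ₂ 0) : ExtKer φ u.τ₃ 0 := by
  intro y hy
  obtain ⟨k, hk⟩ := h2 ((Ext.mk₀ S.g).comp y (zero_add _)) (by rw [g_comp_map, hy, Ext.comp_zero])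
  exact ⟨k, eq_zero_of_g_comp hS _ (by rw [comp_extPow]; exact hk)⟩

include hS' hS in
lemma extSurj_X₃_zero (h2 : ExtSurj φ u.τ₂ 0) (h1 : ExtKer φ u.τ₁ 0) : ExtSurj φ u.τ₃ 0 := by
  intro x
  obtain ⟨k, z, hz⟩ := h2 ((Ext.mk₀ S'.g).comp x (zero_add _))
  obtain ⟨l, hl⟩ := h1 ((Ext.mk₀ S.f).comp z (zero_add _)) (by
    rw [f_comp_map, hz, comp_extPow, Ext.mk₀_comp_mk₀_assoc, S'.zero, Ext.mk₀_zero, Ext.zero_comp,
      map_zero])
  obtain ⟨y, hy⟩ := Ext.contravariant_sequence_exact₂ hS F (extPow φ _ _ l z)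
    (by rw [comp_extPow]; exact hl)
  refine ⟨k + l, y, sub_eq_zero.1 (eq_zero_of_g_comp hS' _ ?_)⟩
  rw [ext_comp_sub, comp_extPow, ← g_comp_map, hy, comp_extPow, hz, ← extPow_add, sub_self]

variable {Z₁ Z₂ Z₁' Z₂' : A} (j₁ : Z₁' ⟶ Z₁) (j₂ : Z₂' ⟶ Z₂)

lemma biprod_inl_comp {n : ℕ} (y : Ext.{w} (Z₁ ⊞ Z₂) F n) :
    (Ext.mk₀ biprod.inl).comp ((Ext.mk₀ (biprod.map j₁ j₂)).comp y (zero_add n)) (zero_add n) =
      (Ext.mk₀ j₁).comp ((Ext.mk₀ biprod.inl).comp y (zero_add n)) (zero_add n) := by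
  rw [Ext.mk₀_comp_mk₀_assoc, Ext.mk₀_comp_mk₀_assoc, biprod.inl_map]

lemma biprod_inr_comp {n : ℕ} (y : Ext.{w} (Z₁ ⊞ Z₂) F n) :
    (Ext.mk₀ biprod.inr).comp ((Ext.mk₀ (biprod.map j₁ j₂)).comp y (zero_add n)) (zero_add n) =
      (Ext.mk₀ j₂).comp ((Ext.mk₀ biprod.inr).comp y (zero_add n)) (zero_add n) := by
  rw [Ext.mk₀_comp_mk₀_assoc, Ext.mk₀_comp_mk₀_assoc, biprod.inr_map]

lemma biprod_ext_comp {n : ℕ} {x y : Ext.{w} (Z₁ ⊞ Z₂) F n}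
    (h1 : (Ext.mk₀ biprod.inl).comp x (zero_add n) = (Ext.mk₀ biprod.inl).comp y (zero_add n))
    (h2 : (Ext.mk₀ biprod.inr).comp x (zero_add n) = (Ext.mk₀ biprod.inr).comp y (zero_add n)) :
    x = y := by
  have e : ∀ z : Ext.{w} (Z₁ ⊞ Z₂) F n, z =
      (Ext.mk₀ biprod.fst).comp ((Ext.mk₀ biprod.inl).comp z (zero_add n)) (zero_add n) +
      (Ext.mk₀ biprod.snd).comp ((Ext.mk₀ biprod.inr).comp z (zero_add n)) (zero_add n) := fun z => by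
    rw [Ext.mk₀_comp_mk₀_assoc, Ext.mk₀_comp_mk₀_assoc, ← Ext.add_comp, ← Ext.mk₀_add,
      biprod.total, Ext.mk₀_id_comp]
  rw [e x, e y, h1, h2]

lemma extKer_biprod {n : ℕ} (h₁ : ExtKer φ j₁ n) (h₂ : ExtKer φ j₂ n) :
    ExtKer φ (biprod.map j₁ j₂) n := by
  intro y hy
  obtain ⟨k, hk⟩ := h₁ ((Ext.mk₀ biprod.inl).comp y (zero_add n))
    (by rw [← biprod_inl_comp (j₂ := j₂), hy, Ext.comp_zero])
  obtain ⟨l, hl⟩ := h₂ ((Ext.mk₀ biprod.inr).comp y (zero_add n))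
    (by rw [← biprod_inr_comp (j₁ := j₁), hy, Ext.comp_zero])
  refine ⟨k + l, biprod_ext_comp ?_ ?_⟩
  · rw [comp_extPow, extPow_add, hk, map_zero, Ext.comp_zero]
  · rw [comp_extPow, add_comm, extPow_add, hl, map_zero, Ext.comp_zero]

lemma extSurj_biprod {n : ℕ} (h₁ : ExtSurj φ j₁ n) (h₂ : ExtSurj φ j₂ n) :
    ExtSurj φ (biprod.map j₁ j₂) n := by
  intro x
  obtain ⟨k, y, hy⟩ := h₁ ((Ext.mk₀ biprod.inl).comp x (zero_add n))
  obtain ⟨l, z, hz⟩ := h₂ ((Ext.mk₀ biprod.inr).comp x (zero_add n))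
  refine ⟨k + l, (Ext.mk₀ biprod.fst).comp (extPow φ _ _ l y) (zero_add n) +
    (Ext.mk₀ biprod.snd).comp (extPow φ _ _ k z) (zero_add n), biprod_ext_comp ?_ ?_⟩
  · rw [biprod_inl_comp, Ext.comp_add, Ext.mk₀_comp_mk₀_assoc, Ext.mk₀_comp_mk₀_assoc,
      biprod.inl_fst, biprod.inl_snd, Ext.mk₀_id_comp, Ext.mk₀_zero, Ext.zero_comp, add_zero,
      comp_extPow, hy, ← extPow_add, comp_extPow]
  · rw [biprod_inr_comp, Ext.comp_add, Ext.mk₀_comp_mk₀_assoc, Ext.mk₀_comp_mk₀_assoc,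
      biprod.inr_fst, biprod.inr_snd, Ext.mk₀_id_comp, Ext.mk₀_zero, Ext.zero_comp, zero_add,
      comp_extPow, hz, ← extPow_add, add_comm l k, comp_extPow]

end Groth.Agent.Coh69
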