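import Groth.Agent.Coh69.InjExtend
import Groth.Agent.QC70.CohOps
import Groth.Agent.QC70.Stalk
import Groth.Agent.FMK72.BaseChange
import Groth.Agent.ZClos93.Exact

/-! Extension of morphisms of coherent modules from an open, after shrinking the source. -/

set_option autoImplicit false
set_option backward.isDefEq.respectTransparency.types false

noncomputable section

universe u

open CategoryTheory CategoryTheory.Limits AlgebraicGeometry TopologicalSpace Opposite
open Groth.Agent.QC70 Groth.Agent.SubMod72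

namespace Groth.Agent.Coh69

variable {X : Scheme.{u}}

/-- The whole module as a subsheaf. -/
def topSub (M : X.Modules) : Sub M where
  carrier _ := ⊤
  res_mem _ _ _ := trivial
  local_mem _ _ := trivial

theorem fg_topSub (M : X.Modules) [M.IsFiniteType] (U : X.Opens) : FG U (topSub M) := by
  refine FG.mono ?_ (le_top : U ≤ ⊤)
  intro p _
  obtain ⟨V, ι, _, s, hpV, hs⟩ := exists_locGenBy M p
  refine ⟨V, Set.range s, le_top, hpV, Set.finite_range s, fun W hW => ?_⟩
  refine le_antisymm (fun x _ q hq _ => ?_) le_top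
  obtain ⟨W', h₁, h₂, a, hq', e⟩ := hs W hW x q hq
  refine ⟨W', h₁, h₂, hq', ?_⟩
  rw [e]
  exact Submodule.sum_mem _ fun i _ => Submodule.smul_mem _ _
    (Submodule.subset_span ⟨s i, ⟨i, rfl⟩, rfl⟩)

theorem exists_extend_hom [IsLocallyNoetherian X] (F G : X.Modules) (hF : Coh.IsCoh F)
    (hG : Coh.IsCoh G) (U : X.Opens)
    (φ : (Scheme.Modules.restrictFunctor U.ι).obj F ⟶ (Scheme.Modules.restrictFunctor U.ι).obj G) :
    ∃ (F' : X.Modules) (ι : F' ⟶ F) (φ' : F' ⟶ G), Mono ι ∧ Coh.IsCoh F' ∧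
      IsIso ((Scheme.Modules.restrictFunctor U.ι).map ι) ∧
      (Scheme.Modules.restrictFunctor U.ι).map φ' =
        (Scheme.Modules.restrictFunctor U.ι).map ι ≫ φ := by
  haveI := hF.1
  haveI := hF.2
  haveI := hG.1
  haveI := hG.2
  haveI := ZClos93.preservesFiniteLimits_restrictFunctor U.ι
  let R := Scheme.Modules.restrictFunctor U.ι
  let adj := Scheme.Modules.restrictAdjunction U.ι
  let J := Scheme.Modules.pushforward U.ι
  haveI : PreservesBinaryBiproducts R := preservesBinaryBiproducts_of_preservesBinaryProducts R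
  haveI : R.Additive := Functor.additive_of_preservesBinaryBiproducts _
  haveI : (J.obj (R.obj G)).IsQuasicoherent :=
    QCqs72.isQuasicoherent_pushforward (M := R.obj G) U.ι
  let ψ : F ⊞ G ⟶ J.obj (R.obj G) :=
    biprod.desc (adj.unit.app F ≫ J.map φ) (-adj.unit.app G)
  have hFG : Coh.IsCoh (F ⊞ G) :=
    isCoh_X₂ _ (ShortComplex.Splitting.ofHasBinaryBiproduct F G).shortExact hF hG
  let H := kernel ψ
  have hH : Coh.IsCoh H := isCoh_kernel ψ hFG (inferInstanceAs (J.obj (R.obj G)).IsQuasicoherent)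
  haveI := hH.1
  haveI := hH.2
  let g : H ⟶ F := kernel.ι ψ ≫ biprod.fst
  let k : H ⟶ G := kernel.ι ψ ≫ biprod.snd
  have hgk : R.map g ≫ φ = R.map k := by
    refine (adj.homEquiv _ _).injective ?_
    rw [adj.homEquiv_unit, adj.homEquiv_unit]
    refine (congrArg (adj.unit.app H ≫ ·) (J.map_comp (R.map g) φ)).trans ?_
    refine ((Category.assoc _ _ _).symm.trans (congrArg (· ≫ J.map φ) (adj.unit_naturality g))).trans ?_
    refine (Category.assoc _ _ _).trans (Eq.trans ?_ (adj.unit_naturality k).symm)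
    have h : kernel.ι ψ ≫ biprod.desc (adj.unit.app F ≫ J.map φ) (-adj.unit.app G) = 0 := kernel.condition ψ
    rw [biprod.desc_eq, Preadditive.comp_add, Preadditive.comp_neg, Preadditive.comp_neg,
      ← sub_eq_add_neg, sub_eq_zero] at h
    simpa only [g, k, Category.assoc] using h
  have hmono : Mono (R.map g) := Preadditive.mono_of_cancel_zero _ fun x hx => by
    rw [← cancel_mono (R.map (kernel.ι ψ)), zero_comp]
    have e : R.map (biprod.fst : F ⊞ G ⟶ F) ≫ R.map biprod.inl +
        R.map biprod.snd ≫ R.map biprod.inr = 𝟙 _ := by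
      rw [← R.map_comp, ← R.map_comp, ← R.map_add, biprod.total, R.map_id]
    have h1 : x ≫ R.map k = 0 := by rw [← hgk, ← Category.assoc, hx, zero_comp]
    have hx' : x ≫ R.map (kernel.ι ψ) ≫ R.map biprod.fst = 0 := by
      rw [← R.map_comp]; exact hx
    have h1' : x ≫ R.map (kernel.ι ψ) ≫ R.map biprod.snd = 0 := by
      rw [← R.map_comp]; exact h1
    rw [← Category.comp_id (x ≫ R.map (kernel.ι ψ)), ← e, Preadditive.comp_add]
    simp only [Category.assoc]
    rw [reassoc_of% hx', reassoc_of% h1', zero_comp, zero_comp, add_zero]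
  let l : R.obj F ⟶ R.obj (F ⊞ G) := R.map biprod.inl + φ ≫ R.map biprod.inr
  have hl : l ≫ R.map ψ = 0 := by
    rw [← cancel_mono (adj.counit.app (R.obj G)), zero_comp, Category.assoc,
      Preadditive.add_comp, Category.assoc, ← R.map_comp_assoc, ← R.map_comp_assoc,
      biprod.inl_desc, biprod.inr_desc, R.map_neg, Preadditive.neg_comp, Preadditive.comp_neg]
    have t1 : R.map (adj.unit.app F ≫ J.map φ) ≫ adj.counit.app (R.obj G) = φ := by
      rw [R.map_comp, Category.assoc]
      refine (congrArg (R.map (adj.unit.app F) ≫ ·) (adj.counit_naturality φ)).trans ?_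
      exact (Category.assoc _ _ _).symm.trans ((congrArg (· ≫ φ) (adj.left_triangle_components F)).trans (Category.id_comp φ))
    have t2 : R.map (adj.unit.app G) ≫ adj.counit.app (R.obj G) = 𝟙 _ :=
      adj.left_triangle_components G
    rw [t1, t2]
    exact (congrArg (φ + -·) (Category.comp_id φ)).trans (add_neg_cancel φ)
  let s : R.obj F ⟶ R.obj H := kernel.lift _ l hl ≫ (PreservesKernel.iso R ψ).inv
  have hs : s ≫ R.map (kernel.ι ψ) = l := by
    rw [Category.assoc, PreservesKernel.iso_inv_ι, kernel.lift_ι]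
  have hsg : s ≫ R.map g = 𝟙 _ := by
    rw [R.map_comp, ← Category.assoc, hs, Preadditive.add_comp, Category.assoc,
      ← R.map_comp, ← R.map_comp, biprod.inl_fst, biprod.inr_fst, R.map_id, R.map_zero, comp_zero,
      add_zero]
  haveI : IsIso (R.map g) := ⟨s, by rw [← cancel_mono (R.map g), Category.assoc, hsg, Category.comp_id,
    Category.id_comp], hsg⟩
  have hinj : InjOn g U (topSub H) := fun W hW x _ hx => by
    have hb := ConcreteCategory.bijective_of_isIso ((R.map g).app (U.ι ⁻¹ᵁ W))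
    have he : U.ι ''ᵁ (U.ι ⁻¹ᵁ W) = W := by
      rw [Scheme.Hom.image_preimage_eq_opensRange_inf, Scheme.Opens.opensRange_ι, inf_eq_right.mpr hW]
    have h0 : g.app (U.ι ''ᵁ (U.ι ⁻¹ᵁ W)) (res H he.le x) = 0 := by rw [app_res, hx, res_zero]
    have h1 : (show Γ(R.obj H, U.ι ⁻¹ᵁ W) from res H he.le x) = 0 :=
      hb.1 (h0.trans (map_zero ((R.map g).app (U.ι ⁻¹ᵁ W)).hom).symm)
    have h2 := congrArg (res H he.ge) (show res H he.le x = 0 from h1)
    rwa [res_res, res_self, res_zero] at h2
  obtain ⟨Q, hQ, hQU, hQi⟩ := exists_inj_extension (fg_topSub H U) hinj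
  obtain ⟨hQq, hQf⟩ := isQuasicoherent_isFiniteType_toMod hQ
  refine ⟨toMod Q, toModι Q ≫ g, toModι Q ≫ k, mono_of_app_injective _ fun W => ?_, ⟨hQq, hQf⟩, ?_, ?_⟩
  · refine (injective_iff_map_eq_zero ((toModι Q ≫ g).app W).hom).mpr fun y hy => ?_
    refine app_injective_of_mono (toModι Q) W ?_
    rw [map_zero]
    exact hQi W le_top _ ((mem_iff_exists Q _).mpr ⟨y, rfl⟩) hy
  · haveI : IsIso (R.map (toModι Q)) := FMK72.isIso_of_basis _ fun x W hxW => by
      refine ⟨W, le_rfl, hxW, app_injective_of_mono (toModι Q) (U.ι ''ᵁ W), fun z => ?_⟩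
      obtain ⟨y, hy⟩ := (mem_iff_exists Q (show Γ(H, U.ι ''ᵁ W) from z)).mp (by
        rw [hQU _ ((U.ι.image_mono le_top).trans (by simp))]; trivial)
      exact ⟨y, hy⟩
    show IsIso (R.map (toModι Q ≫ g))
    rw [R.map_comp]
    infer_instance
  · show R.map (toModι Q ≫ k) = R.map (toModι Q ≫ g) ≫ φ
    exact (R.map_comp _ k).trans ((congrArg (R.map (toModι Q) ≫ ·) hgk.symm).trans
      ((Category.assoc _ _ _).symm.trans (congrArg (· ≫ φ) (R.map_comp _ g).symm)))

end Groth.Agent.Coh69
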