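import Groth.Agent.Coh69.ThickCoh
import Groth.Agent.RB70.ThickVanish
import Groth.Agent.RB70.Stalk
import Groth.Agent.Desc59.AmpleDesc
import Groth.Agent.Amp73.QA
import Groth.Agent.Amp73.Tensor
import Groth.Agent.GSS45.SchemeSS
import Groth.Agent.Coh69.Grothendieck

/-! High twists by a module ample on a fibre have no higher direct images at that point. -/

set_option autoImplicit false
set_option maxSynthPendingDepth 6
set_option linter.style.haveILetI false
set_option maxHeartbeats 1000000
set_option synthInstance.maxHeartbeats 200000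
set_option backward.isDefEq.respectTransparency.types false

universe u

noncomputable section

open CategoryTheory CategoryTheory.Limits AlgebraicGeometry TopologicalSpace Opposite

namespace Groth.Agent.Coh69.FibreAmple

theorem isCoh_pullback' {X P : Scheme.{u}} (i : X ⟶ P) {F : P.Modules} (hF : Coh.IsCoh F) :
    Coh.IsCoh ((Scheme.Modules.pullback i).obj F) := by
  haveI := hF.1
  haveI := hF.2
  exact ⟨QCPull72.isQuasicoherent_pullback i F, QCPull72.isFiniteType_pullback i F⟩

theorem nonempty_pullback_twist {X P : Scheme.{u}} (i : X ⟶ P) (F L : P.Modules) (hL : PicF.IsInvertible L)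
    (n : ℕ) : Nonempty ((Scheme.Modules.pullback i).obj (CohB1.tensorMod F (CohB1.tensorPow L n)) ≅
      CohB1.tensorMod ((Scheme.Modules.pullback i).obj F)
        (CohB1.tensorPow ((Scheme.Modules.pullback i).obj L) n)) :=
  ⟨Desc59.AmpleDesc.pullTensIso i F _ ≪≫ EGA73.tensIso (Iso.refl _) (Amp73.pullPowIso i hL n)⟩

theorem isPullback_thickTrans {B : Type u} [CommRing B] {Y : Scheme.{u}} (h : Y ⟶ Spec (CommRingCat.of B))
    (I : Ideal B) (k : ℕ) :
    IsPullback (CohB1.thickTrans h I k) (CohB1.thickToBase h I k) (CohB1.thickToBase h I (k + 1))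
      (CohB1.specQuotTrans I k) := by
  have e1 : CohB1.thickTrans h I k ≫ CohB1.thickι h I (k + 1) = CohB1.thickι h I k :=
    (pullback.lift_fst _ _ _).trans (Category.comp_id _)
  have outer : IsPullback (CohB1.thickTrans h I k ≫ CohB1.thickι h I (k + 1)) (CohB1.thickToBase h I k)
      h (CohB1.specQuotTrans I k ≫ CohB1.specQuot I (k + 1)) := by
    rw [e1, CohB1.specQuotTrans_specQuot]
    exact IsPullback.of_hasPullback _ _
  exact outer.of_right (pullback.lift_snd _ _ _) (IsPullback.of_hasPullback _ _)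

/-- Over a Noetherian local base, high twists by a module ample on the closed fibre are acyclic. -/
theorem exists_vanishing_local {B : Type u} [CommRing B] [IsNoetherianRing B] [IsLocalRing B]
    {Y : Scheme.{u}} [Y.Over (Spec (CommRingCat.of B))] [IsProper (Y ↘ Spec (CommRingCat.of B))]
    (L : Y.Modules) (hL : PicF.IsInvertible L) (G : Y.Modules) (hG : Coh.IsCoh G)
    (ha : CohB1.IsAmple ((Scheme.Modules.pullback
      (CohB1.thickι (Y ↘ Spec (CommRingCat.of B)) (IsLocalRing.maximalIdeal B) 0)).obj L)) :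
    ∃ n₀ : ℕ, ∀ n, n₀ ≤ n → ∀ q : ℕ,
      Subsingleton (Coh.HH Y (CohB1.tensorMod G (CohB1.tensorPow L n)) (q + 1)) := by
  let m := IsLocalRing.maximalIdeal B
  let h := Y ↘ Spec (CommRingCat.of B)
  haveI : IsProper (CohB1.thickToBase h m 0) := MorphismProperty.pullback_snd _ _ inferInstance
  have hcomm : ∀ (M : Y.Modules) (k : ℕ), Nonempty ((Scheme.Modules.pullback (CohB1.thickTrans h m k)).obj
      ((Scheme.Modules.pullback (CohB1.thickι h m (k + 1))).obj M) ≅
        (Scheme.Modules.pullback (CohB1.thickι h m k)).obj M) := fun M k =>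
    ⟨(Scheme.Modules.pullbackComp (CohB1.thickTrans h m k) (CohB1.thickι h m (k + 1))).app M ≪≫
      (Scheme.Modules.pullbackCongr (show CohB1.thickTrans h m k ≫ CohB1.thickι h m (k + 1) =
        CohB1.thickι h m k from (pullback.lift_fst _ _ _).trans (Category.comp_id _))).app M⟩
  obtain ⟨n₀, hn₀⟩ := RB70.Thick.exists_uniform B m (fun k => CohB1.thick h m k)
    (fun k => CohB1.thickToBase h m k) (fun k => CohB1.thickTrans h m k)
    (fun k => isPullback_thickTrans h m k) inferInstance
    (fun k => (Scheme.Modules.pullback (CohB1.thickι h m k)).obj L)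
    (fun k => Amp73.isInvertible_pullback _ hL) (fun k => hcomm L k) ha
    (fun k => (Scheme.Modules.pullback (CohB1.thickι h m k)).obj G)
    (fun k => isCoh_pullback' _ hG) (fun k => hcomm G k)
  refine ⟨n₀, fun n hn q => ?_⟩
  have hGn : Coh.IsCoh (CohB1.tensorMod G (CohB1.tensorPow L n)) :=
    Amp73.isCoh_tensorMod hG (Amp73.isCoh_of_isInvertible (EGA73.isInvertible_tensorPow hL n))
  refine ThickCoh.subsingleton_hh_of_thickenings m le_rfl _ hGn q fun k => ?_
  obtain ⟨e⟩ := nonempty_pullback_twist (CohB1.thickι h m k) G L hL n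
  exact ValVan29.subsingleton_hh_of_iso e.symm (q + 1) ((hn₀ n hn k).1 (q + 1) (Nat.succ_pos q))

/-- The closed fibre of the base change to the local ring is the fibre. -/
theorem exists_iso_fibre {X Y X₁ : Scheme.{u}} (f : X ⟶ Y) (y : Y)
    (g : X₁ ⟶ X) (h : X₁ ⟶ Spec (CommRingCat.of (Y.presheaf.stalk y)))
    (hsq : IsPullback g h f (Y.fromSpecStalk y)) :
    ∃ e : CohB1.thick h (IsLocalRing.maximalIdeal (Y.presheaf.stalk y)) 0 ≅ f.fiber y,
      e.hom ≫ f.fiberι y = CohB1.thickι h (IsLocalRing.maximalIdeal (Y.presheaf.stalk y)) 0 ≫ g := by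
  let m := IsLocalRing.maximalIdeal (Y.presheaf.stalk y)
  let θ : Spec (CommRingCat.of (Y.presheaf.stalk y ⧸ m ^ (0 + 1))) ≅ Spec (Y.residueField y) :=
    Scheme.Spec.mapIso (RingEquiv.toCommRingCatIso
      ((Ideal.quotEquivOfEq (by rw [zero_add, pow_one] : m ^ (0 + 1) = m)).symm :
        (Y.presheaf.stalk y ⧸ m) ≃+* (Y.presheaf.stalk y ⧸ m ^ (0 + 1)))).op
  have hθ : θ.hom ≫ Y.fromSpecResidueField y = CohB1.specQuot m 0 ≫ Y.fromSpecStalk y := by
    rw [Scheme.fromSpecResidueField, ← Category.assoc]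
    refine congrArg (· ≫ Y.fromSpecStalk y) ?_
    show Spec.map _ ≫ Spec.map _ = Spec.map _
    rw [← Spec.map_comp]
    refine congrArg Spec.map (CommRingCat.hom_ext (RingHom.ext fun b => ?_))
    rfl
  have h0 : IsPullback (CohB1.thickι h m 0 ≫ g) (CohB1.thickToBase h m 0) f
      (CohB1.specQuot m 0 ≫ Y.fromSpecStalk y) :=
    (IsPullback.of_hasPullback h (CohB1.specQuot m 0)).paste_horiz hsq
  have h1 : IsPullback (CohB1.thickι h m 0 ≫ g) (CohB1.thickToBase h m 0 ≫ θ.hom) f
      (Y.fromSpecResidueField y) := by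
    refine h0.of_iso (Iso.refl _) (Iso.refl _) θ (Iso.refl _) (by simp) (by simp) (by simp) ?_
    simp only [Iso.refl_hom, Category.comp_id, Category.id_comp]
    exact hθ.symm
  exact ⟨h1.isoPullback, h1.isoPullback_hom_fst⟩

/-- Ampleness on the fibre, read on the closed fibre over the local ring. -/
theorem isAmple_thick {X Y X₁ : Scheme.{u}} (f : X ⟶ Y) (L : X.Modules) (y : Y)
    (g : X₁ ⟶ X) (h : X₁ ⟶ Spec (CommRingCat.of (Y.presheaf.stalk y)))
    (hsq : IsPullback g h f (Y.fromSpecStalk y))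
    (hy : CohB1.IsAmple ((Scheme.Modules.pullback (f.fiberι y)).obj L)) :
    CohB1.IsAmple ((Scheme.Modules.pullback (CohB1.thickι h
      (IsLocalRing.maximalIdeal (Y.presheaf.stalk y)) 0)).obj
        ((Scheme.Modules.pullback g).obj L)) := by
  obtain ⟨e, he⟩ := exists_iso_fibre f y g h hsq
  exact Amp73.isAmple_of_iso ((Scheme.Modules.pullbackComp e.hom (f.fiberι y)).app L ≪≫
      (Scheme.Modules.pullbackCongr he).app L ≪≫
      ((Scheme.Modules.pullbackComp (CohB1.thickι h (IsLocalRing.maximalIdeal (Y.presheaf.stalk y)) 0) g).app L).symm)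
      (Amp73.isAmple_pullback e.hom (Amp73.isQuasiAffine_of_isAffineHom _) hy)

/-- High twists by a module ample on the fibre over `y` have vanishing higher direct images at `y`. -/
theorem exists_isZero_stalk {X Y : Scheme.{u}} (f : X ⟶ Y) [IsProper f] [AlgebraicGeometry.IsNoetherian Y]
    (L : X.Modules) (hL : PicF.IsInvertible L) (M : X.Modules) (hM : Coh.IsCoh M) (y : Y)
    (hy : CohB1.IsAmple ((Scheme.Modules.pullback (f.fiberι y)).obj L)) :
    ∃ d₀ : ℕ, ∀ d : ℕ, d₀ ≤ d → ∀ p : ℕ, 0 < p →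
      IsZero (TopCat.Presheaf.stalk
        ((Coh.RpushAb f p).obj (Coh.toAb (CohB1.tensorMod M (CohB1.tensorPow L d)))).obj y) := by
  let g := pullback.fst f (Y.fromSpecStalk y)
  letI : (pullback f (Y.fromSpecStalk y)).Over (Spec (CommRingCat.of (Y.presheaf.stalk y))) :=
    ⟨pullback.snd f (Y.fromSpecStalk y)⟩
  haveI : IsProper ((pullback f (Y.fromSpecStalk y)) ↘ Spec (CommRingCat.of (Y.presheaf.stalk y))) :=
    MorphismProperty.pullback_snd (P := @IsProper) f (Y.fromSpecStalk y) inferInstance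
  have hsq : IsPullback g (pullback f (Y.fromSpecStalk y) ↘ Spec (CommRingCat.of (Y.presheaf.stalk y))) f
      (Y.fromSpecStalk y) := IsPullback.of_hasPullback _ _
  have ha := isAmple_thick f L y g (pullback f (Y.fromSpecStalk y) ↘ Spec (CommRingCat.of (Y.presheaf.stalk y))) hsq hy
  obtain ⟨n₀, hn₀⟩ := exists_vanishing_local ((Scheme.Modules.pullback g).obj L)
    (Amp73.isInvertible_pullback g hL) ((Scheme.Modules.pullback g).obj M)
    (isCoh_pullback' g hM) ha
  refine ⟨n₀, fun d hd p hp => ?_⟩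
  obtain ⟨q, rfl⟩ : ∃ q, p = q + 1 := ⟨p - 1, by omega⟩
  let F := CohB1.tensorMod M (CohB1.tensorPow L d)
  have hF : Coh.IsCoh F :=
    Amp73.isCoh_tensorMod hM (Amp73.isCoh_of_isInvertible (EGA73.isInvertible_tensorPow hL d))
  haveI := hF.1
  obtain ⟨e⟩ := RB70.nonempty_stalk_rpush_equiv f F y (q + 1) (pullback f (Y.fromSpecStalk y)) g hsq
  obtain ⟨e'⟩ := nonempty_pullback_twist g M L hL d
  haveI := ValVan29.subsingleton_hh_of_iso e'.symm (q + 1) (hn₀ d hd q)
  haveI : Subsingleton (((Coh.Rpush f (q + 1)).obj F).presheaf.stalk y) := e.toEquiv.subsingleton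
  obtain ⟨e''⟩ := GSS45.nonempty_toAb_Rpush f F (q + 1)
  exact (AddCommGrpCat.isZero_of_subsingleton (((Coh.Rpush f (q + 1)).obj F).presheaf.stalk y)).of_iso
    ((TopCat.Presheaf.stalkFunctor AddCommGrpCat y).mapIso
      ((TopCat.Sheaf.forget AddCommGrpCat Y.toTopCat).mapIso e''.symm))

end Groth.Agent.Coh69.FibreAmple
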