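import Groth.Agent.Coh69.DevissageGen

set_option autoImplicit false
set_option backward.isDefEq.respectTransparency.types false

/-! Filtrations of coherent modules by ideals of integral closed subschemes. -/

noncomputable section

universe u

open CategoryTheory Limits AlgebraicGeometry TopologicalSpace Opposite
open Groth.Agent.QC70

namespace Groth.Agent.Coh69

variable {X : Scheme.{u}}

/-- The elementary pieces. -/
def IdealPiece (M : X.Modules) : Prop :=
  ∃ (Z : Scheme.{u}) (i : Z ⟶ X), IsClosedImmersion i ∧ IsIntegral Z ∧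
    ∃ (I : Z.Modules) (ι : I ⟶ Coh.structureModule Z), Mono ι ∧ Coh.IsQCoh I ∧ ¬ IsZero I ∧
      Nonempty (M ≅ (Coh.push i).obj I)

lemma IdealPiece.of_iso {M N : X.Modules} (e : M ≅ N) (h : IdealPiece M) : IdealPiece N := by
  obtain ⟨Z, i, hi, hZ, I, ι, hι, hI, hne, ⟨e'⟩⟩ := h
  exact ⟨Z, i, hi, hZ, I, ι, hι, hI, hne, ⟨e.symm ≪≫ e'⟩⟩

/-- Existence of a filtration. -/
inductive Filt : X.Modules → Prop
  | zero {M : X.Modules} : IsZero M → Filt M
  | step {A B : X.Modules} (f : A ⟶ B) : Mono f → Filt A → Coh.IsCoh A → Coh.IsCoh B →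
      IdealPiece (cokernel f) → Filt B

lemma Filt.of_iso {M N : X.Modules} (e : M ≅ N) (h : Filt M) : Filt N := by
  cases h with
  | zero h => exact .zero (h.of_iso e.symm)
  | step f hf hA hcA hcB hQ =>
    exact .step (f ≫ e.hom) inferInstance hA hcA (isCoh_of_iso e hcB)
      (hQ.of_iso (cokernelCompIsIso f e.hom).symm)

lemma Filt.extension [IsLocallyNoetherian X] {C : X.Modules} (hC : Filt C) :
    ∀ {A B : X.Modules} (f : A ⟶ B) (g : B ⟶ C) (w : f ≫ g = 0),
      (ShortComplex.mk f g w).ShortExact → Coh.IsCoh A → Coh.IsCoh B → Filt A → Filt B := by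
  induction hC with
  | zero hC =>
    intro A B f g w hS _ _ hA
    have : Mono f := hS.mono_f
    have : Epi f := Preadditive.epi_of_cancel_zero _ fun {Z} x hx => by
      have : Epi g := hS.epi_g
      have h1 : g ≫ hS.exact.desc x hx = x := hS.exact.g_desc _ _
      rw [← h1, hC.eq_of_src (hS.exact.desc x hx) 0, comp_zero]
    exact hA.of_iso (@asIso _ _ _ _ f (isIso_of_mono_of_epi f))
  | @step C' C j hj _ hC' hC'' hQ ih =>
    intro A B f g w hS hcA hcB hA
    have : Mono f := hS.mono_f
    have : Epi g := hS.epi_g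
    let h := g ≫ cokernel.π j
    let B' := kernel h
    have hB' : Coh.IsCoh B' := isCoh_kernel h hcB (isCoh_cokernel j hC'.1 hC'').1
    let f' : A ⟶ B' := kernel.lift h f (by rw [← Category.assoc, w, zero_comp])
    let g' : B' ⟶ C' := Abelian.monoLift j (kernel.ι h ≫ g) (by rw [Category.assoc]; exact kernel.condition h)
    have hg' : g' ≫ j = kernel.ι h ≫ g := Abelian.monoLift_comp _ _ _
    have w' : f' ≫ g' = 0 := by
      rw [← cancel_mono j, Category.assoc, hg', kernel.lift_ι_assoc, w, zero_comp]
    have hS' : (ShortComplex.mk f' g' w').ShortExact :=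
      { exact := by
          rw [ShortComplex.exact_iff_exact_up_to_refinements]
          intro T x hx
          have hx' : x ≫ g' = 0 := hx
          obtain ⟨T', p, hp, y, hy⟩ := hS.exact.exact_up_to_refinements (x ≫ kernel.ι h) (by
            show (x ≫ kernel.ι h) ≫ g = 0
            rw [Category.assoc, ← hg', ← Category.assoc, hx', zero_comp])
          refine ⟨T', p, hp, y, ?_⟩
          rw [← cancel_mono (kernel.ι h), Category.assoc, hy, Category.assoc]
          exact congrArg (y ≫ ·) (kernel.lift_ι h f _).symm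
        mono_f := mono_of_mono_fac (kernel.lift_ι h f _)
        epi_g := by
          show Epi g'
          rw [epi_iff_surjective_up_to_refinements]
          intro T c
          obtain ⟨T', p, hp, b, hb⟩ := surjective_up_to_refinements_of_epi g (c ≫ j)
          refine ⟨T', p, hp, kernel.lift h b (by
            rw [← Category.assoc, ← hb, Category.assoc, Category.assoc, cokernel.condition, comp_zero,
              comp_zero]), ?_⟩
          rw [← cancel_mono j, Category.assoc, Category.assoc, hg', kernel.lift_ι_assoc, hb] }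
    have hFB' : Filt B' := ih f' g' w' hS' hcA hB' hA
    refine .step (kernel.ι h) inferInstance hFB' hB' hcB (hQ.of_iso ?_)
    exact ((Abelian.epiIsCokernelOfKernel _ (kernelIsKernel h)).coconePointUniqueUpToIso
      (colimit.isColimit _))

theorem filt_of_isCoh [IsNoetherian X] (M : X.Modules) (hM : Coh.IsCoh M) : Filt M := by
  refine devissage (fun A => Filt A) (fun A B ⟨e⟩ h => h.of_iso e) (fun A h => .zero h)
    (fun S hS a b _ h1 h3 => Filt.extension h3 S.f S.g S.zero hS a b h1) Set.univ isClosed_univ ?_ M hM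
    (Set.subset_univ _)
  intro y _ _
  obtain ⟨Z, i, hi, hZ, hr, rfl⟩ := exists_integral_closed y
  refine genAt1_of_ideals _ i fun I ι hι hI hnt => ?_
  have hI' : Coh.IsCoh I := by
    haveI : IsLocallyNoetherian Z := LocallyOfFiniteType.isLocallyNoetherian i
    exact isCoh_of_mono ι hI (isCoh_unit (X := Z))
  have hne : ¬ IsZero I := fun hz => by
    have : Subsingleton (I.presheaf.stalk (genericPoint Z)) :=
      subsingleton_of_forall_eq 0 fun e => by
        obtain ⟨W, hW, s, rfl⟩ := germM_exist e
        have e0 : s = 0 := congr((Scheme.Modules.Hom.app $((IsZero.iff_id_eq_zero I).mp hz) W) s)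
        rw [e0]
        exact germM_zero hW
    exact not_nontrivial_iff_subsingleton.mpr this hnt
  let P := (Scheme.Modules.pushforward i).obj I
  let O : X.Modules := cokernel (𝟙 P)
  have hO : IsZero O := isZero_cokernel_of_epi _
  refine Filt.step (A := O) (hO.to_ P) ⟨fun g h _ => hO.eq_of_tgt g h⟩ (.zero hO) (isCoh_of_isZero hO)
    (isCoh_pushforward i I hI') ⟨Z, i, hi, hZ, I, ι, hι, hI, hne, ⟨?_⟩⟩
  exact cokernelIsoOfEq (hO.eq_of_src (hO.to_ P) 0) ≪≫ cokernelZeroIsoTarget

lemma Filt.exists_chain {M : X.Modules} (h : Filt M) :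
    ∃ (m : ℕ) (F : ℕ → X.Modules) (φ : (j : ℕ) → (F j ⟶ F (j + 1))),
      IsZero (F 0) ∧ F m = M ∧ (∀ j ≤ m, Coh.IsCoh (F j)) ∧
        ∀ j < m, Mono (φ j) ∧ IdealPiece (cokernel (φ j)) := by
  induction h with
  | @zero M hM =>
    exact ⟨0, fun _ => M, fun _ => 𝟙 M, hM, rfl, fun _ _ => isCoh_of_isZero hM,
      fun j hj => absurd hj (Nat.not_lt_zero j)⟩
  | @step A B f hf _ _ hB hQ ih =>
    obtain ⟨m, F, φ, h0, hm, hc, hs⟩ := ih
    let F' : ℕ → X.Modules := fun j => if j ≤ m then F j else B
    have e1 : ∀ j, j ≤ m → F' j = F j := fun j h => if_pos h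
    have e2 : F' (m + 1) = B := if_neg (by omega)
    let φ' : ∀ j, F' j ⟶ F' (j + 1) := fun j =>
      if h : j < m then eqToHom (e1 j h.le) ≫ φ j ≫ eqToHom (e1 (j + 1) h).symm
      else if h' : j = m then
        eqToHom (((e1 j h'.le).trans (congrArg F h')).trans hm) ≫ f ≫
          eqToHom ((congrArg (fun k => F' (k + 1)) h').trans e2).symm
      else 0
    refine ⟨m + 1, F', φ', (e1 0 (Nat.zero_le m)) ▸ h0, e2, fun j hj => ?_, fun j hj => ?_⟩
    · rcases Nat.lt_or_ge m j with h | h
      · rw [show F' j = B from if_neg (by omega)]; exact hB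
      · rw [e1 j h]; exact hc j h
    · rcases Nat.lt_or_ge j m with h | h
      · have e : φ' j = eqToHom (e1 j h.le) ≫ φ j ≫ eqToHom (e1 (j + 1) h).symm := dif_pos h
        obtain ⟨hm', hq⟩ := hs j h
        refine ⟨e ▸ inferInstance, hq.of_iso ?_⟩
        exact cokernel.mapIso (φ j) (φ' j) (eqToIso (e1 j h.le).symm) (eqToIso (e1 (j + 1) h).symm)
          (by simp [e])
      · obtain rfl : j = m := by omega
        have e : φ' j = eqToHom ((e1 j le_rfl).trans hm) ≫ f ≫ eqToHom e2.symm :=
          (dif_neg (lt_irrefl j)).trans (dif_pos rfl)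
        refine ⟨e ▸ inferInstance, hQ.of_iso ?_⟩
        exact cokernel.mapIso f (φ' j) (eqToIso ((e1 j le_rfl).trans hm).symm) (eqToIso e2.symm)
          (by simp [e])

end Groth.Agent.Coh69
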