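import Groth.Agent.SubMod72.Main
import Mathlib.RingTheory.Filtration
import Mathlib.AlgebraicGeometry.Noetherian

/-!
Extension of subsheaves on which a given morphism is injective (Artin–Rees and Zorn).
-/

set_option autoImplicit false
set_option backward.isDefEq.respectTransparency.types false

noncomputable section

universe u

open CategoryTheory AlgebraicGeometry TopologicalSpace Opposite
open Groth.Agent.QC70 Groth.Agent.SubMod72

namespace Groth.Agent.Coh69

variable {X : Scheme.{u}} {M N : X.Modules} (g : M ⟶ N)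

/-- `g` is injective on the subsheaf `P` over `U`. -/
def InjOn (U : X.Opens) (P : Sub M) : Prop :=
  ∀ W ≤ U, ∀ x ∈ P.carrier W, g.app W x = 0 → x = 0

variable {g}

theorem InjOn.of_agreeOn {U : X.Opens} {P Q : Sub M} (h : InjOn g U P) (e : AgreeOn U Q P) :
    InjOn g U Q := fun W hW x hx hgx => h W hW x (e W hW ▸ hx) hgx

theorem InjOn.of_cover {ι : Type*} (V : ι → X.Opens) {U : X.Opens} (hU : U ≤ ⨆ i, V i) {Q : Sub M}
    (h : ∀ i, InjOn g (V i) Q) : InjOn g U Q := fun W hW x hx hgx =>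
  section_ext' M (fun i => W ⊓ V i) (fun _ => inf_le_left)
    (fun q hq => by
      obtain ⟨i, hi⟩ := Opens.mem_iSup.mp (hU (hW hq))
      exact Opens.mem_iSup.mpr ⟨i, hq, hi⟩) x 0 fun i => by
    rw [res_zero]
    exact h i _ inf_le_right _ (Q.res_mem _ hx) (by rw [app_res, hgx, res_zero])

variable [IsLocallyNoetherian X] [M.IsQuasicoherent] [M.IsFiniteType] [N.IsQuasicoherent]

/-- The extension step across an affine open, preserving injectivity. -/
theorem exists_inj_step {W V : X.Opens} (hV : IsAffineOpen V)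
    (hWV : IsCompact ((W ⊓ V : X.Opens) : Set X)) {P : Sub M} (hP : FG W P) (hinj : InjOn g W P) :
    ∃ Q : Sub M, FG (W ⊔ V) Q ∧ AgreeOn W Q P ∧ InjOn g (W ⊔ V) Q := by
  classical
  haveI : IsNoetherianRing Γ(X, V) := IsLocallyNoetherian.component_noetherian ⟨V, hV⟩
  haveI : Module.Finite Γ(X, V) Γ(M, V) := finite_sections_of_isFiniteType M hV
  obtain ⟨S, hS, e⟩ := exists_finite_generators hV inf_le_right hWV (hP.mono inf_le_left)
  let L : Submodule Γ(X, V) Γ(M, V) := Submodule.span Γ(X, V) S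
  let K : Submodule Γ(X, V) Γ(M, V) :=
    { carrier := {x | x ∈ L ∧ g.app V x = 0}
      add_mem' := fun {x y} hx hy => ⟨add_mem hx.1 hy.1, by rw [map_add, hx.2, hy.2, add_zero]⟩
      zero_mem' := ⟨zero_mem _, map_zero _⟩
      smul_mem' := fun a x hx => ⟨Submodule.smul_mem _ a hx.1, by
        rw [Scheme.Modules.Hom.app_smul, hx.2, smul_zero]⟩ }
  obtain ⟨T, hT⟩ : K.FG := IsNoetherian.noetherian K
  let J : Ideal Γ(X, V) := K.annihilator
  -- points of `W ⊓ V` have a neighbourhood where some element of `J` is invertible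
  have hJ : ∀ p ∈ W ⊓ V, ∃ r ∈ J, p ∈ X.basicOpen r := by
    intro p hp
    obtain ⟨r, hr, hpr⟩ := hV.exists_basicOpen_le (V := W ⊓ V) ⟨p, hp⟩ hp.2
    have hkill : ∀ x ∈ K, ∃ n : ℕ, r ^ n • x = 0 := fun x hx => by
      refine (isLocAt_of_isQuasicoherent M hV).eq_zero_of r x ?_
      refine hinj _ (hr.trans inf_le_left) _ ?_ (by rw [app_res, hx.2, res_zero])
      rw [e _ hr]
      exact mem_locSpan (X.basicOpen_le r) (res_mem_span _ hx.1)
    choose n hn using fun t : T => hkill t.1 (hT ▸ Submodule.subset_span t.2)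
    refine ⟨r ^ (Finset.univ.sup n + 1), ?_, ?_⟩
    · refine Submodule.mem_annihilator.mpr fun x hx => ?_
      rw [← hT] at hx
      induction hx using Submodule.span_induction with
      | mem t ht =>
        have h1 : n ⟨t, ht⟩ ≤ Finset.univ.sup n + 1 :=
          (Finset.le_sup (Finset.mem_univ _)).trans (Nat.le_succ _)
        rw [← Nat.sub_add_cancel h1, pow_add, mul_smul, hn ⟨t, ht⟩, smul_zero]
      | zero => exact smul_zero _
      | add a b _ _ ha hb => rw [smul_add, ha, hb, add_zero]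
      | smul a b _ hb => rw [smul_comm, hb, smul_zero]
    · rw [X.basicOpen_pow _ (Nat.succ_pos _)]
      exact hpr
  obtain ⟨k, hk⟩ := J.exists_pow_inf_eq_pow_smul K
  let L' : Submodule Γ(X, V) Γ(M, V) := J ^ (k + 1) • L
  have hbot : ∀ x ∈ L', g.app V x = 0 → x = 0 := by
    intro x hx hgx
    have h1 : x ∈ J ^ (k + 1) • ⊤ ⊓ K :=
      ⟨Submodule.smul_mono le_rfl le_top hx, Submodule.smul_le_right hx, hgx⟩
    rw [hk (k + 1) (Nat.le_succ k), Nat.add_sub_cancel_left, pow_one] at h1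
    have h2 : x ∈ J • K := Submodule.smul_mono le_rfl inf_le_right h1
    rwa [Submodule.annihilator_smul, Submodule.mem_bot] at h2
  obtain ⟨S', hS'⟩ : L'.FG := IsNoetherian.noetherian L'
  have e' : AgreeOn (W ⊓ V) P (locSpan (S' : Set Γ(M, V))) := by
    intro T' hT'
    rw [e T' hT']
    refine le_antisymm ?_ ?_
    · refine span_le_of_forall_mem (hT'.trans inf_le_right) fun s hs => ?_
      refine (locSpan (S' : Set Γ(M, V))).local_mem _ fun p hp => ?_
      obtain ⟨r, hrJ, hpr⟩ := hJ p (hT' hp)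
      refine ⟨T' ⊓ X.basicOpen r, inf_le_left, ⟨hp, hpr⟩, ?_⟩
      have hle : T' ⊓ X.basicOpen r ≤ V := inf_le_right.trans (X.basicOpen_le r)
      have hu : IsUnit (resO X hle r ^ (k + 1)) := by
        refine IsUnit.pow _ ?_
        have h0 : IsUnit (resO X (X.basicOpen_le r) r) := RingedSpace.isUnit_res_basicOpen _ r
        have h1 : IsUnit (resO X (inf_le_right : T' ⊓ X.basicOpen r ≤ _) (resO X (X.basicOpen_le r) r)) :=
          h0.map (X.presheaf.map (homOfLE (inf_le_right : T' ⊓ X.basicOpen r ≤ _)).op).hom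
        rwa [resO_resO] at h1
      rw [res_res, ← Submodule.smul_mem_iff_of_isUnit _ hu, ← res_pow_smul]
      refine mem_locSpan hle (res_mem_span hle ?_)
      show r ^ (k + 1) • s ∈ Submodule.span Γ(X, V) (S' : Set Γ(M, V))
      rw [hS']
      exact Submodule.smul_mem_smul (Ideal.pow_mem_pow hrJ _) (Submodule.subset_span hs)
    · refine span_le_of_forall_mem (hT'.trans inf_le_right) fun s hs => ?_
      exact mem_locSpan _ (res_mem_span _ (Submodule.smul_le_right (hS' ▸ Submodule.subset_span hs :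
        s ∈ L') : s ∈ L))
  have hinj' : InjOn g V (locSpan (S' : Set Γ(M, V))) := by
    intro W' hW' x hx hgx
    refine section_ext M x 0 fun p hp => ?_
    obtain ⟨W₁, h₁, h₂, hp₁, hx₁⟩ := hx p hp (hW' hp)
    obtain ⟨r, hr, hpr⟩ := hV.exists_basicOpen_le (V := W₁) ⟨p, hp₁⟩ (h₂ hp₁)
    refine ⟨X.basicOpen r, hr.trans h₁, hpr, ?_⟩
    rw [res_zero]
    have hx₂ : res M (hr.trans h₁) x ∈ Submodule.span Γ(X, X.basicOpen r)
        (res M (X.basicOpen_le r) '' (S' : Set Γ(M, V))) := by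
      have := res_mem_span hr hx₁
      rwa [res_res, image_res_res] at this
    obtain ⟨l, w, hw, hwx⟩ := exists_res_eq_pow_smul hV r hx₂
    have hu : IsUnit (resO X (X.basicOpen_le r) r) := RingedSpace.isUnit_res_basicOpen _ r
    have hgw : res N (X.basicOpen_le r) (g.app V w) = 0 := by
      rw [← app_res, hwx, Scheme.Modules.Hom.app_smul, app_res, hgx, res_zero, smul_zero]
    obtain ⟨m, hm⟩ := (isLocAt_of_isQuasicoherent N hV).eq_zero_of r _ hgw
    have hw' : r ^ m • w = 0 := hbot _ (Submodule.smul_mem _ _ (hS' ▸ hw)) (by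
      rw [Scheme.Modules.Hom.app_smul]; exact hm)
    have h3 := congrArg (res M (X.basicOpen_le r)) hw'
    rw [res_pow_smul, hwx, res_zero] at h3
    exact (hu.pow l).smul_eq_zero.mp ((hu.pow m).smul_eq_zero.mp h3)
  obtain ⟨Q, hQ⟩ := exists_glueSub (fun b : ULift.{u} Bool => cond b.down W V)
    (fun b => cond b.down P (locSpan (S' : Set Γ(M, V)))) (by
      rintro ⟨_ | _⟩ ⟨_ | _⟩
      · exact fun _ _ => rfl
      · exact e'.symm.mono (inf_comm _ _).le
      · exact e'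
      · exact fun _ _ => rfl)
  refine ⟨Q, (hP.of_agreeOn (hQ ⟨true⟩)).sup ((fg_locSpan S'.finite_toSet).of_agreeOn (hQ ⟨false⟩)),
    hQ ⟨true⟩, InjOn.of_cover (fun b : ULift.{u} Bool => cond b.down W V)
      (sup_le (le_iSup_of_le ⟨true⟩ le_rfl) (le_iSup_of_le ⟨false⟩ le_rfl)) ?_⟩
  rintro ⟨_ | _⟩
  · exact hinj'.of_agreeOn (hQ ⟨false⟩)
  · exact hinj.of_agreeOn (hQ ⟨true⟩)

/-- Finite type subsheaves on which `g` is injective extend to such subsheaves. -/
theorem exists_inj_extension {U : X.Opens} {P : Sub M} (hP : FG U P) (hinj : InjOn g U P) :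
    ∃ Q : Sub M, FG ⊤ Q ∧ AgreeOn U Q P ∧ InjOn g ⊤ Q := by
  let α := {a : X.Opens × Sub M // U ≤ a.1 ∧ FG a.1 a.2 ∧ AgreeOn U a.2 P ∧ InjOn g a.1 a.2}
  let r : α → α → Prop := fun a b => a.1.1 ≤ b.1.1 ∧ AgreeOn a.1.1 b.1.2 a.1.2
  have : Nonempty α := ⟨⟨(U, P), le_rfl, hP, fun _ _ => rfl, hinj⟩⟩
  obtain ⟨⟨⟨W, Q⟩, hUW, hQ, hQP, hQi⟩, hmax⟩ :=
    exists_maximal_of_nonempty_chains_bounded (r := r) (fun c hc hne => by
      have hcomp : ∀ a ∈ c, ∀ b ∈ c, AgreeOn (a.1.1 ⊓ b.1.1) a.1.2 b.1.2 := fun a ha b hb => by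
        rcases eq_or_ne a b with rfl | hab
        · exact fun _ _ => rfl
        · rcases hc ha hb hab with h | h
          · exact (h.2.mono inf_le_left).symm
          · exact h.2.mono inf_le_right
      obtain ⟨Q, hQ⟩ := exists_glueSub (fun a : c => a.1.1.1) (fun a => a.1.1.2)
        (fun a b => hcomp a.1 a.2 b.1 b.2)
      let W : X.Opens := ⨆ a : c, a.1.1.1
      have hle : ∀ a ∈ c, a.1.1 ≤ W := fun a ha => le_iSup_of_le ⟨a, ha⟩ le_rfl
      obtain ⟨a₀, ha₀⟩ := hne
      refine ⟨⟨(W, Q), a₀.2.1.trans (hle a₀ ha₀), fun p hp => ?_, ?_, ?_⟩,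
        fun a ha => ⟨hle a ha, hQ ⟨a, ha⟩⟩⟩
      · obtain ⟨a, hpa⟩ := Opens.mem_iSup.mp hp
        obtain ⟨V, S, hV, hpV, hS, e⟩ := (a.1.2.2.1.of_agreeOn (hQ a)) p hpa
        exact ⟨V, S, hV.trans (hle a.1 a.2), hpV, hS, e⟩
      · exact ((hQ ⟨a₀, ha₀⟩).mono a₀.2.1).trans a₀.2.2.2.1
      · exact InjOn.of_cover (fun a : c => a.1.1.1) le_rfl fun a => a.1.2.2.2.2.of_agreeOn (hQ a))
      (fun h h' => ⟨h.1.trans h'.1, (h'.2.mono h.1).trans h.2⟩)
  rcases eq_or_ne W ⊤ with rfl | hW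
  · exact ⟨Q, hQ, hQP, hQi⟩
  obtain ⟨p, hp⟩ : ∃ p, p ∉ W := by
    by_contra h
    exact hW (top_le_iff.mp fun p _ => by_contra fun hp => h ⟨p, hp⟩)
  obtain ⟨V, hV, hpV, -⟩ := exists_isAffineOpen_mem_and_subset (x := p) (U := ⊤) trivial
  have hWV : IsCompact ((W ⊓ V : X.Opens) : Set X) := by
    haveI : QuasiCompact W.ι := inferInstance
    have := (W.ι.isCompact_preimage hV.isCompact).image W.ι.continuous
    rwa [Scheme.Hom.coe_preimage, Set.image_preimage_eq_inter_range, Scheme.Opens.range_ι,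
      Set.inter_comm, ← Opens.coe_inf] at this
  obtain ⟨Q', hQ', hQ'Q, hQ'i⟩ := exists_inj_step hV hWV hQ hQi
  have := hmax ⟨(W ⊔ V, Q'), hUW.trans le_sup_left, hQ', (hQ'Q.mono hUW).trans hQP, hQ'i⟩
    ⟨le_sup_left, hQ'Q⟩
  exact absurd (le_sup_right.trans this.1 hpV) hp

end Groth.Agent.Coh69
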