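import Groth.Agent.Coh69.Sections
import Groth.Agent.Coh69.CechAcyclic
import Mathlib.Topology.Sheaves.Functors
import Mathlib.CategoryTheory.Functor.Flat
import Mathlib.Topology.Sheaves.SheafCondition.Sites

universe u

open CategoryTheory Limits TopologicalSpace Opposite

namespace Groth.Agent.Coh69

variable {X Y : TopCat.{u}} (f : X ⟶ Y)

/-- The direct image functor on abelian sheaves. -/
noncomputable abbrev pushSh : Sheaf (Opens.grothendieckTopology X) AddCommGrpCat.{u} ⥤
    Sheaf (Opens.grothendieckTopology Y) AddCommGrpCat.{u} :=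
  TopCat.Sheaf.pushforward AddCommGrpCat.{u} f

lemma pushSh_app {F G : Sheaf (Opens.grothendieckTopology X) AddCommGrpCat.{u}} (φ : F ⟶ G)
    (W : Opens Y) (s : F.obj.obj (op ((Opens.map f).obj W))) :
    ((pushSh f).map φ).hom.app (op W) s = φ.hom.app (op ((Opens.map f).obj W)) s := rfl

instance pullback_preservesFiniteLimits :
    PreservesFiniteLimits (TopCat.Sheaf.pullback AddCommGrpCat.{u} f) := by
  have this_1 : PreservesFiniteLimits (TopCat.Presheaf.pullback AddCommGrpCat.{u} f) :=
    inferInstanceAs (PreservesFiniteLimits ((Opens.map f).op.lan :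
      ((Opens Y)ᵒᵖ ⥤ AddCommGrpCat.{u}) ⥤ (Opens X)ᵒᵖ ⥤ AddCommGrpCat.{u}))
  have this_2 : PreservesFiniteLimits (TopCat.Sheaf.forget AddCommGrpCat.{u} Y) :=
    inferInstanceAs (PreservesFiniteLimits (sheafToPresheaf (Opens.grothendieckTopology Y) AddCommGrpCat.{u}))
  have hsh : PreservesFiniteLimits
      (presheafToSheaf (Opens.grothendieckTopology X) AddCommGrpCat.{u}) := inferInstance
  have h2 : PreservesFiniteLimits (TopCat.Presheaf.pullback AddCommGrpCat.{u} f ⋙
      (presheafToSheaf (Opens.grothendieckTopology X) AddCommGrpCat.{u} :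
        TopCat.Presheaf AddCommGrpCat.{u} X ⥤ TopCat.Sheaf AddCommGrpCat.{u} X)) :=
    @comp_preservesFiniteLimits _ _ _ _ _ _ _ _ this_1 hsh
  have h3 : PreservesFiniteLimits (TopCat.Sheaf.forget AddCommGrpCat.{u} Y ⋙
      TopCat.Presheaf.pullback AddCommGrpCat.{u} f ⋙
        (presheafToSheaf (Opens.grothendieckTopology X) AddCommGrpCat.{u} :
          TopCat.Presheaf AddCommGrpCat.{u} X ⥤ TopCat.Sheaf AddCommGrpCat.{u} X)) :=
    @comp_preservesFiniteLimits _ _ _ _ _ _ _ _ this_2 h2
  exact @preservesFiniteLimits_of_natIso _ _ _ _ _ _ (TopCat.Sheaf.pullbackIso AddCommGrpCat.{u} f).symm h3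

instance pushSh_injective (I : Sheaf (Opens.grothendieckTopology X) AddCommGrpCat.{u}) [hI : Injective I] :
    Injective ((pushSh f).obj I) := by
  have : PreservesFiniteLimits (TopCat.Sheaf.pullback AddCommGrpCat.{u} f) :=
    pullback_preservesFiniteLimits f
  have : (TopCat.Sheaf.pullback AddCommGrpCat.{u} f).PreservesMonomorphisms :=
    preservesMonomorphisms_of_preservesLimitsOfShape _
  exact @Injective.injective_of_adjoint _ _ _ _ _ _ this
    (TopCat.Sheaf.pullbackPushforwardAdjunction AddCommGrpCat.{u} f) I hI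

variable {S : ShortComplex (Sheaf (Opens.grothendieckTopology X) AddCommGrpCat.{u})}

lemma pushSh_shortExact (hS : S.ShortExact) (B : Set (Opens Y)) (hB : Opens.IsBasis B)
    (h : ∀ V ∈ B, Subsingleton (HE S.X₁ 1 ((Opens.map f).obj V))) :
    (S.map (pushSh f)).ShortExact := by
  have := hS.mono_f
  have : PreservesLimitsOfSize.{0, 0} (pushSh f) :=
    (TopCat.Sheaf.pullbackPushforwardAdjunction AddCommGrpCat.{u} f).rightAdjoint_preservesLimits
  have : Mono (S.map (pushSh f)).f := (pushSh f).map_mono S.f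
  have : Epi (S.map (pushSh f)).g := by
    refine (Sheaf.isLocallySurjective_iff_epi' AddCommGrpCat.{u} _).1 ⟨fun {U} s => ?_⟩
    intro x hx
    obtain ⟨V, hVB, hxV, hVU⟩ := (Opens.isBasis_iff_nbhd.1 hB) hx
    have := h V hVB
    obtain ⟨t, ht⟩ := surjective_of_subsingleton_H1 hS ((Opens.map f).obj V)
      (((pushSh f).obj S.X₃).obj.map (homOfLE hVU).op s)
    exact ⟨V, homOfLE hVU, ⟨t, ht⟩, hxV⟩
  exact { exact := ShortComplex.exact_of_f_is_kernel _
            (KernelFork.mapIsLimit _ hS.fIsKernel (pushSh f)) }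

/-- Cohomology along a map which is acyclic over a basis. -/
noncomputable def leraySucc (B : Set (Opens Y)) (hB : Opens.IsBasis B) :
    ∀ (n : ℕ) (F : Sheaf (Opens.grothendieckTopology X) AddCommGrpCat.{u}),
      (∀ V ∈ B, ∀ q, Subsingleton (HE F (q + 1) ((Opens.map f).obj V))) →
      ∀ W : Opens Y, HE F (n + 1) ((Opens.map f).obj W) ≃+ HE ((pushSh f).obj F) (n + 1) W
  | 0, F, h, W =>
    let hS := SiteCoh.injSES_shortExact F
    let hP := pushSh_shortExact f hS B hB (fun V hV => h V hV 0)
    haveI : Subsingleton (HE ((SiteCoh.injSES F).map (pushSh f)).X₂ 1 W) :=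
      he_subsingleton_of_injective ((pushSh f).obj (SiteCoh.injSES F).X₂) 0 W
    (coker0Equiv hP W (S := (SiteCoh.injSES F).map (pushSh f))
      (B := HE F 1 ((Opens.map f).obj W))
      ((extDelta hS (CohCx.freeSheaf (Opens.grothendieckTopology X) ((Opens.map f).obj W))).comp
        (SiteCoh.homAddEquivSec ((Opens.map f).obj W) (SiteCoh.injSES F).X₃).symm.toAddMonoidHom)
      ((extDelta_surjective hS _).comp
        (SiteCoh.homAddEquivSec ((Opens.map f).obj W) (SiteCoh.injSES F).X₃).symm.surjective)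
      (fun s => (extDelta_eq_zero_iff hS _ _).trans
        (exists_sect_iff (S := SiteCoh.injSES F) (SiteCoh.injSES F).g _ s))).symm
  | n + 1, F, h, W =>
    let hS := SiteCoh.injSES_shortExact F
    let hP := pushSh_shortExact f hS B hB (fun V hV => h V hV 0)
    haveI : Subsingleton (HE ((SiteCoh.injSES F).map (pushSh f)).X₂ (n + 1) W) :=
      he_subsingleton_of_injective ((pushSh f).obj (SiteCoh.injSES F).X₂) n W
    haveI : Subsingleton (HE ((SiteCoh.injSES F).map (pushSh f)).X₂ (n + 2) W) :=
      he_subsingleton_of_injective ((pushSh f).obj (SiteCoh.injSES F).X₂) (n + 1) W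
    haveI := fun (m : ℕ) (U : Opens X) => he_subsingleton_of_injective (SiteCoh.injSES F).X₂ m U
    (extShiftEquiv hS (CohCx.freeSheaf (Opens.grothendieckTopology X) ((Opens.map f).obj W)) n).symm
      |>.trans ((leraySucc B hB n (SiteCoh.injSES F).X₃ (fun V hV q =>
        have := h V hV (q + 1)
        ext_subsingleton_X₃ hS (CohCx.freeSheaf (Opens.grothendieckTopology X) _) (q + 1)) W).trans
        (extShiftEquiv hP (CohCx.freeSheaf (Opens.grothendieckTopology Y) W) n))

/-- Cohomology along a map which is acyclic over a basis, all degrees. -/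
theorem leray (B : Set (Opens Y)) (hB : Opens.IsBasis B)
    (F : Sheaf (Opens.grothendieckTopology X) AddCommGrpCat.{u})
    (h : ∀ V ∈ B, ∀ q, Subsingleton (HE F (q + 1) ((Opens.map f).obj V))) (n : ℕ) (W : Opens Y) :
    Nonempty (HE F n ((Opens.map f).obj W) ≃+ HE ((pushSh f).obj F) n W) := by
  cases n with
  | zero => exact ⟨(SiteCoh.hu0Equiv F _).trans (SiteCoh.hu0Equiv ((pushSh f).obj F) W).symm⟩
  | succ n => exact ⟨leraySucc f B hB n F h W⟩

end Groth.Agent.Coh69
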