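import Groth.Agent.Approx60.Chevalley

set_option autoImplicit false
set_option backward.isDefEq.respectTransparency.types false

/-! Direct images of integral closed subschemes along finite surjections. -/

noncomputable section

universe u

open CategoryTheory CategoryTheory.Limits AlgebraicGeometry TopologicalSpace Opposite

namespace Groth.Agent.Coh69

open QC70

theorem exists_coh_push_support {Y S : Scheme.{u}} (f : Y ⟶ S) [IsFinite f] [Surjective f]
    [IsLocallyNoetherian S] (ξ : S) :
    ∃ F : Y.Modules, Coh.IsCoh F ∧ CohB1.support ((Coh.push f).obj F) = closure {ξ} ∧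
      ∀ a ∈ IsLocalRing.maximalIdeal (S.presheaf.stalk ξ),
        ∀ m : ((Coh.push f).obj F).presheaf.stalk ξ, a • m = 0 := by
  have : IsLocallyNoetherian Y := LocallyOfFiniteType.isLocallyNoetherian f
  obtain ⟨x, hx⟩ := f.surjective ξ
  obtain ⟨Z, j, hj, hZ, -, hgen⟩ := exists_integral_closed x
  have : IsLocallyNoetherian Z := LocallyOfFiniteType.isLocallyNoetherian j
  let F := (Scheme.Modules.pushforward j).obj (unitMod Z)
  have hF : Coh.IsCoh F := QC70.isCoh_pushforward j _ isCoh_unit
  let G := (Scheme.Modules.pushforward f).obj F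
  have hG : Coh.IsCoh G := isCoh_pushforward_of_isFinite f _ hF
  have := hG.1
  have := hG.2
  have hhy : f (j (genericPoint Z)) = ξ := by rw [hgen, hx]
  let C : Closeds S := ⟨closure {ξ}, isClosed_closure⟩
  have hrange : ∀ z : Z, f (j z) ∈ closure {ξ} := fun z => by
    rw [← hhy]
    exact (((genericPoint_specializes z).map j.continuous).map f.continuous).mem_closure
  have hkill : ∀ (W : S.affineOpens) (a : Γ(S, W.1)),
      a ∈ (Scheme.IdealSheafData.vanishingIdeal C).ideal W → ∀ t : Γ(G, W.1), a • t = 0 := by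
    intro W a ha t
    have h0 : j.app (f ⁻¹ᵁ W.1) (f.app W.1 a) = 0 := by
      refine eq_zero_of_basicOpen_eq_bot _ ?_
      rw [← Scheme.preimage_basicOpen, ← Scheme.preimage_basicOpen]
      refine bot_unique fun z hz => ?_
      exfalso
      have h1 : f (j z) ∈ W.1 := S.basicOpen_le a hz
      have h2 : f (j z) ∈ ((Scheme.IdealSheafData.vanishingIdeal C).support : Set S) :=
        (Scheme.IdealSheafData.coe_support_vanishingIdeal C).ge (hrange z)
      have h3 := Scheme.IdealSheafData.supportSet_subset_zeroLocus _ W h2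
      exact ((Scheme.mem_zeroLocus_iff S _ _).mp h3 a ha) hz
    refine (QCqs72.pushforward_smul (M := F) f a t).trans
      ((QCqs72.pushforward_smul (M := unitMod Z) j (f.app W.1 a) t).trans ?_)
    rw [h0, zero_smul]
    rfl
  refine ⟨F, hF, subset_antisymm ?_ ?_, stalk_killed (Y := C) rfl hkill⟩
  · have h := support_subset_of_killed (Scheme.IdealSheafData.vanishingIdeal C) (M := G) (n := 1)
      (fun W a ha => hkill W a (by rwa [pow_one] at ha))
    exact h.trans (Scheme.IdealSheafData.coe_support_vanishingIdeal C).le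
  · have hmem : ξ ∈ CohB1.support G := by
      refine not_subsingleton_iff_nontrivial.mpr (nontrivial_of_ne
        (germM G ⊤ ξ trivial (show Γ(G, ⊤) from toUnit (1 : Γ(Z, j ⁻¹ᵁ f ⁻¹ᵁ ⊤)))) 0 fun h0 => ?_)
      obtain ⟨W, hW, hyW, h0⟩ := germM_eq_zero h0
      have h1 : resO Z (j.preimage_mono (f.preimage_mono hW)) (1 : Γ(Z, j ⁻¹ᵁ f ⁻¹ᵁ ⊤)) = 0 := h0
      rw [show resO Z (j.preimage_mono (f.preimage_mono hW)) (1 : Γ(Z, j ⁻¹ᵁ f ⁻¹ᵁ ⊤)) = 1 from map_one _] at h1
      have h2 : genericPoint Z ∈ j ⁻¹ᵁ f ⁻¹ᵁ W := by show f (j (genericPoint Z)) ∈ W; rw [hhy]; exact hyW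
      have := congrArg (Z.presheaf.germ _ _ h2) h1
      rw [map_one, map_zero] at this
      exact one_ne_zero this
    exact (isClosed_support G).closure_subset_iff.mpr (Set.singleton_subset_iff.mpr hmem)

end Groth.Agent.Coh69
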