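import Groth.Agent.ParaF26.ThickTriv

/-! Cohomology of a coherent module and of its reductions along a thickening, by cocycles. -/

set_option autoImplicit false
set_option maxSynthPendingDepth 6
set_option linter.style.haveILetI false
set_option linter.unusedSectionVars false
set_option maxHeartbeats 1000000
set_option backward.isDefEq.respectTransparency.types false

universe u

noncomputable section

open CategoryTheory CategoryTheory.Limits AlgebraicGeometry TopologicalSpace Opposite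

namespace Groth.Agent.Coh69.ThickCoh

open QC70 FF71 ParaF26

variable {B : Type u} [CommRing B]

set_option backward.isDefEq.respectTransparency false in
theorem pullS_surjective_and_ker (J : Ideal B) {Y : Scheme.{u}} [Y.Over (Spec (CommRingCat.of B))] (L : Y.Modules)
    [L.IsQuasicoherent] {W : Y.Opens} (hW : IsAffineOpen W) :
    Function.Surjective (Amp73.pullS (pullback.fst (Y ↘ Spec (CommRingCat.of B))
      (Spec.map (CommRingCat.ofHom (Ideal.Quotient.mk J)))) L W) ∧
    ∀ x : Γ(L, W), Amp73.pullS (pullback.fst (Y ↘ Spec (CommRingCat.of B))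
      (Spec.map (CommRingCat.ofHom (Ideal.Quotient.mk J)))) L W x = 0 → x ∈ secI B J L W := by
  let f := Y ↘ Spec (CommRingCat.of B)
  let g := Spec.map (CommRingCat.ofHom (Ideal.Quotient.mk J))
  let p := pullback.fst f g
  let G := (Scheme.Modules.pullback p).obj L
  have H := IsPullback.of_hasPullback f g
  have hg : (⊤ : (Spec (CommRingCat.of (B ⧸ J))).Opens) ≤ g ⁻¹ᵁ ⊤ := le_top
  letI : ∀ W : Y.Opens, Module Γ(Spec (CommRingCat.of B), ⊤) Γ(L, W) := fun W => FlatSec.mdl f L (V := ⊤) le_top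
  letI := (g.appLE ⊤ ⊤ hg).hom.toAlgebra
  have hsurj : Function.Surjective (algebraMap Γ(Spec (CommRingCat.of B), ⊤) Γ(Spec (CommRingCat.of (B ⧸ J)), ⊤)) := by
    intro a
    obtain ⟨b, hb⟩ := Ideal.Quotient.mk_surjective ((Scheme.ΓSpecIso (CommRingCat.of (B ⧸ J))).hom a)
    refine ⟨(Scheme.ΓSpecIso (CommRingCat.of B)).inv b, ?_⟩
    show g.appLE ⊤ ⊤ hg _ = a
    rw [show g.appLE ⊤ ⊤ hg = g.appTop from (Scheme.Hom.app_eq_appLE g (U := ⊤)).symm]
    refine (ConcreteCategory.congr_hom (Scheme.ΓSpecIso_inv_naturality (CommRingCat.ofHom (Ideal.Quotient.mk J))).symm b).trans ?_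
    show (Scheme.ΓSpecIso (CommRingCat.of (B ⧸ J))).inv (Ideal.Quotient.mk J b) = a
    rw [hb]
    exact congrArg (fun k => k.hom a) (Scheme.ΓSpecIso _).hom_inv_id
  have hμ : ∀ {W : Y.Opens}, IsAffineOpen W → Function.Bijective
      (FlatSec.μ f g (pullback.snd f g) p H L hg (V := ⊤) (W := ⊤) (U := W) le_top) := fun hW =>
    FlatSec.μ_bijective_affine f g (pullback.snd f g) p H L hg (isAffineOpen_top _) (isAffineOpen_top _) _ hW
  have one_tmul : ∀ {W : Y.Opens} (x : Γ(L, W)),
      FlatSec.μ f g (pullback.snd f g) p H L hg (V := ⊤) (W := ⊤) (U := W) le_top (1 ⊗ₜ x) =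
        Var76.LineBundle.res G inf_le_left (Amp73.pullS p L W x) := fun x => by
    rw [FlatSec.μ_tmul, map_one, one_smul]
  refine ⟨fun s => ?_, fun m hm => ?_⟩
  · obtain ⟨w, hw⟩ := (hμ hW).2 (Var76.LineBundle.res G inf_le_left s)
    obtain ⟨x, hx⟩ : ∃ x : Γ(L, W), w = 1 ⊗ₜ x := by
      clear hw
      induction w with
      | zero => exact ⟨0, (TensorProduct.tmul_zero _ _).symm⟩
      | add a b ha hb =>
        obtain ⟨x, rfl⟩ := ha
        obtain ⟨y, rfl⟩ := hb
        exact ⟨x + y, (TensorProduct.tmul_add _ _ _).symm⟩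
      | tmul a x =>
        obtain ⟨r, rfl⟩ := hsurj a
        exact ⟨r • x, by rw [Algebra.algebraMap_eq_smul_one, TensorProduct.smul_tmul]⟩
    subst hx
    rw [one_tmul] at hw
    exact ⟨x, (bijective_res_of_eq G inf_le_left (le_inf le_rfl le_top :
      p ⁻¹ᵁ W ≤ p ⁻¹ᵁ W ⊓ pullback.snd f g ⁻¹ᵁ ⊤)).1 hw⟩
  have h1 := one_tmul (W := W) m
  rw [hm] at h1
  have h2 : (1 : Γ(Spec (CommRingCat.of (B ⧸ J)), ⊤)) ⊗ₜ[Γ(Spec (CommRingCat.of B), ⊤)]
      (show Γ(L, W) from m) = 0 :=
    (hμ hW).1 (h1.trans ((map_zero _).trans (map_zero _).symm))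
  refine Submodule.smul_induction_on (mem_ker_smul_of_tmul_eq_zero hsurj h2) (fun r hr m _ => ?_)
    fun a b ha hb => add_mem ha hb
  have hr' : (Scheme.ΓSpecIso (CommRingCat.of B)).hom r ∈ J := by
    rw [← Ideal.Quotient.eq_zero_iff_mem]
    have h3 : g.appLE ⊤ ⊤ hg r = 0 := hr
    rw [show g.appLE ⊤ ⊤ hg = g.appTop from (Scheme.Hom.app_eq_appLE g (U := ⊤)).symm] at h3
    refine (ConcreteCategory.congr_hom (Scheme.ΓSpecIso_naturality (CommRingCat.ofHom (Ideal.Quotient.mk J))) r).symm.trans ?_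
    exact (congrArg (Scheme.ΓSpecIso (CommRingCat.of (B ⧸ J))).hom h3).trans (map_zero _)
  show f.appLE ⊤ (W) le_top r • m ∈ secI B J L (W)
  have e : f.appLE ⊤ (W) le_top r = rA B Y (W) ((Scheme.ΓSpecIso (CommRingCat.of B)).hom r) := by
    show _ = Y.presheaf.map (homOfLE (le_top : W ≤ ⊤)).op
      (f.appTop ((Scheme.ΓSpecIso (CommRingCat.of B)).inv ((Scheme.ΓSpecIso (CommRingCat.of B)).hom r)))
    rw [show (Scheme.ΓSpecIso (CommRingCat.of B)).inv ((Scheme.ΓSpecIso (CommRingCat.of B)).hom r) = r from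
      congrArg (fun k => k.hom r) (Scheme.ΓSpecIso _).hom_inv_id]
    rfl
  rw [e]
  exact smul_mem_secI hr' m

section Thick

open Coh69 CechComp71

variable (J : Ideal B) {Y : Scheme.{u}} [Y.Over (Spec (CommRingCat.of B))] (L : Y.Modules)
  [L.IsQuasicoherent] {ι : Type u} (U : ι → Y.Opens)

/-- The projection from the thickening. -/
abbrev pr : pullback (Y ↘ Spec (CommRingCat.of B)) (Spec.map (CommRingCat.ofHom (Ideal.Quotient.mk J))) ⟶ Y :=
  pullback.fst (Y ↘ Spec (CommRingCat.of B)) (Spec.map (CommRingCat.ofHom (Ideal.Quotient.mk J)))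

/-- The reduction of `L`. -/
abbrev red : (pullback (Y ↘ Spec (CommRingCat.of B))
    (Spec.map (CommRingCat.ofHom (Ideal.Quotient.mk J)))).Modules :=
  (Scheme.Modules.pullback (pr J (Y := Y))).obj L

/-- The pulled back cover. -/
abbrev preU (a : ι) : (pullback (Y ↘ Spec (CommRingCat.of B))
    (Spec.map (CommRingCat.ofHom (Ideal.Quotient.mk J)))).Opens := pr J (Y := Y) ⁻¹ᵁ U a

theorem cOpen_preU {n : ℕ} (i : Fin (n + 1) → ι) :
    cOpen (preU J U) i = pr J (Y := Y) ⁻¹ᵁ cOpen U i := by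
  refine le_antisymm ?_ (le_cOpen _ fun j x hx => cOpen_le U i j hx)
  intro x hx
  have h : ∀ j, x ∈ preU J U (i j) := fun j => cOpen_le (preU J U) i j hx
  induction n with
  | zero => exact le_cOpen U (V := U (i 0)) (fun j => by rw [Fin.fin_one_eq_zero j]) (h 0)
  | succ n ih =>
    show pr J (Y := Y) x ∈ cOpen U i
    have h2 : pr J (Y := Y) x ∈ U (i 0) ⊓ cOpen U (Fin.tail i) :=
      ⟨h 0, ih (Fin.tail i) (le_cOpen _ (fun j => cOpen_le (preU J U) i j.succ) hx) fun j => h j.succ⟩
    rw [← Fin.cons_self_tail i, cOpen_cons]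
    exact h2

/-- Reduction of cochains. -/
def redC (p : ℕ) : Cochain U L.presheaf p →+ Cochain (preU J U) (red J L).presheaf p :=
  AddMonoidHom.mk' (fun c i => Var76.LineBundle.res (red J L) (cOpen_preU J U i).le
      (Amp73.pullS (pr J) L (cOpen U i) (c i))) fun c c' => funext fun i =>
    (congrArg _ (map_add (((Scheme.Modules.pullbackPushforwardAdjunction (pr J (Y := Y))).unit.app L).app
      (cOpen U i)).hom (c i) (c' i))).trans (map_add _ _ _)

theorem redC_cd (p : ℕ) (c : Cochain U L.presheaf p) :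
    redC J L U (p + 1) (cd U L.presheaf p c) = cd (preU J U) (red J L).presheaf p (redC J L U p c) := by
  funext i
  let P : Γ(L, cOpen U i) →+ Γ(red J L, cOpen (preU J U) i) :=
    AddMonoidHom.mk' (fun x => Var76.LineBundle.res (red J L) (cOpen_preU J U i).le (Amp73.pullS (pr J) L (cOpen U i) x))
      fun a b => (congrArg _ (map_add (((Scheme.Modules.pullbackPushforwardAdjunction (pr J (Y := Y))).unit.app L).app
        (cOpen U i)).hom a b)).trans (map_add _ _ _)
  show P (cd U L.presheaf p c i) = _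
  rw [cd_apply, cd_apply, map_sum]
  refine Finset.sum_congr rfl fun j _ => (map_zsmul P _ _).trans ?_
  congr 1
  show Var76.LineBundle.res (red J L) _ (Amp73.pullS (pr J) L (cOpen U i) (Var76.LineBundle.res L (cOpen_comp_le U i j.succAbove) (c _))) = _
  rw [← Amp73.res_pullS (pr J) L (cOpen_comp_le U i j.succAbove), Var76.LineBundle.res_res]
  exact (Var76.LineBundle.res_res _ _ _ _).symm

variable (hU : ⨆ i, U i = ⊤) (hUa : ∀ (n : ℕ) (i : Fin (n + 1) → ι), IsAffineOpen (cOpen U i))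

include hUa in
theorem redC_surjective (p : ℕ) : Function.Surjective (redC J L U p) := by
  intro e
  choose c hc using fun i => (pullS_surjective_and_ker J L (hUa p i)).1
    (Var76.LineBundle.res (red J L) (cOpen_preU J U i).ge (e i))
  refine ⟨c, funext fun i => ?_⟩
  show Var76.LineBundle.res (red J L) _ (Amp73.pullS (pr J) L (cOpen U i) (c i)) = e i
  rw [hc, Var76.LineBundle.res_res]
  simp [Var76.LineBundle.res]

include hUa in
theorem mem_CJ_of_redC_eq_zero {p : ℕ} {c : Cochain U L.presheaf p} (h : redC J L U p c = 0) :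
    c ∈ CJ B U L J p := fun i =>
  (pullS_surjective_and_ker J L (hUa p i)).2 _
    ((bijective_res_of_eq (red J L) (cOpen_preU J U i).le (cOpen_preU J U i).ge).1
      ((congrFun h i).trans (map_zero _).symm))

include hU hUa in
/-- If the reduction has no cohomology, classes have representatives with values in `J`. -/
theorem exists_mem_CJ {q : ℕ}
    (h : Subsingleton (Coh.HH (pullback (Y ↘ Spec (CommRingCat.of B))
      (Spec.map (CommRingCat.ofHom (Ideal.Quotient.mk J)))) (red J L) (q + 1)))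
    (x : Coh.HH Y L (q + 1)) :
    ∃ z : MZ U L (q + 1), (z.1 : Cochain U L.presheaf (q + 1)) ∈ CJ B U L J (q + 1) ∧
      toHH U hU L (q + 1) z = x := by
  have hac := acyclicOn_of_isAffineOpen U L hUa
  obtain ⟨z, rfl⟩ := toHH_surjective hU hac (q + 1) x
  have hU' : ⨆ i, preU J U i = ⊤ := by
    refine top_le_iff.1 fun x _ => ?_
    obtain ⟨i, hi⟩ := Opens.mem_iSup.1 (hU.ge (trivial : pr J (Y := Y) x ∈ ⊤))
    exact Opens.mem_iSup.2 ⟨i, hi⟩
  haveI : IsClosedImmersion (Spec.map (CommRingCat.ofHom (Ideal.Quotient.mk J))) :=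
    IsClosedImmersion.spec_of_surjective _ Ideal.Quotient.mk_surjective
  haveI : (red J L).IsQuasicoherent := QCPull72.isQuasicoherent_pullback (pr J (Y := Y)) L
  haveI : IsClosedImmersion (pr J (Y := Y)) :=
    MorphismProperty.pullback_fst (P := @IsClosedImmersion) _ _ inferInstance
  have hUa' : ∀ (n : ℕ) (i : Fin (n + 1) → ι), IsAffineOpen (cOpen (preU J U) i) := fun n i => by
    rw [cOpen_preU]
    exact (hUa n i).preimage (pr J)
  let z' : MZ (preU J U) (red J L) (q + 1) := ⟨redC J L U (q + 1) z.1, by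
    rw [AddMonoidHom.mem_ker]
    refine (redC_cd J L U (q + 1) z.1).symm.trans ?_
    rw [show cd U L.presheaf (q + 1) z.1 = 0 from z.2, map_zero]
    rfl⟩
  obtain ⟨e, he⟩ := (toHH_eq_zero_iff hU' (acyclicOn_of_isAffineOpen _ (red J L) hUa') q z').1
    (Subsingleton.elim _ _)
  obtain ⟨c, rfl⟩ := redC_surjective J L U hUa q e
  let b : MZ U L (q + 1) := ⟨cd U L.presheaf q c, Coh69.cd_cd U q c⟩
  refine ⟨z - b, mem_CJ_of_redC_eq_zero J L U hUa ?_,
    toHH_eq_of_sub_mem U hU L hac (J := (⊤ : Ideal B)) ⟨-c, mem_CJ_top U L _, ?_⟩⟩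
  · show redC J L U (q + 1) ((show Cochain U L.presheaf (q + 1) from z.1) - cd U L.presheaf q c) = 0
    rw [map_sub, redC_cd, he]
    exact sub_self _
  · rw [map_neg]
    exact (sub_sub_cancel_left _ _).symm

end Thick

/-- Over a Noetherian local base, vanishing on all thickenings gives vanishing. -/
theorem subsingleton_hh_of_thickenings [IsNoetherianRing B] [IsLocalRing B] (I : Ideal B)
    (hI : I ≤ IsLocalRing.maximalIdeal B) {Y : Scheme.{u}} [Y.Over (Spec (CommRingCat.of B))]
    [IsProper (Y ↘ Spec (CommRingCat.of B))] (L : Y.Modules) (hL : Coh.IsCoh L) (q : ℕ)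
    (h : ∀ k : ℕ, Subsingleton (Coh.HH (pullback (Y ↘ Spec (CommRingCat.of B))
      (Spec.map (CommRingCat.ofHom (Ideal.Quotient.mk (I ^ (k + 1))))))
      (red (I ^ (k + 1)) L) (q + 1))) :
    Subsingleton (Coh.HH Y L (q + 1)) := by
  haveI := hL.1
  haveI := hL.2
  haveI : Module.Finite B (Coh.HH Y L (q + 1)) := Serre71.finite_hh_of_isProper B L hL _
  obtain ⟨ι, _, U, hU, hUa⟩ := exists_cover (A := B) (X := Y)
  obtain ⟨d, hd⟩ := exists_R_subset I L hL (q + 1)
  refine subsingleton_of_forall_eq 0 fun x => ?_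
  refine (Submodule.mem_bot B).1 (?_ : x ∈ (⊥ : Submodule B _))
  rw [← Ideal.iInf_pow_smul_eq_bot_of_le_jacobson (M := Coh.HH Y L (q + 1)) I
    (hI.trans (IsLocalRing.maximalIdeal_le_jacobson _)), Submodule.mem_iInf]
  intro k
  obtain ⟨z, hz, rfl⟩ := exists_mem_CJ (I ^ (d + k + 1)) L U hU hUa (h (d + k)) x
  exact Submodule.smul_mono_left (Ideal.pow_le_pow_right (by omega))
    ((hd (d + k) (by omega)).1 _ (toHHmodPow_eq_zero_of_mem U hU L I hz))

end Groth.Agent.Coh69.ThickCoh
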